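import Mathlib
import Cfsg.Agent.Lib.Char.Brauer
import Cfsg.Agent.Lib.Blocks.PPart

/-!
# The power map `g ↦ g ^ n` projecting onto the `p`-regular part

If `g ^ n = 1` on `p`-elements and `g ^ n = g` on `p`-regular elements, then `g ↦ χ (g ^ n)` is a
generalized character (Brauer's characterization of characters).
-/

set_option autoImplicit false
set_option linter.style.haveILetI false

namespace Cfsg.Agent.Lib.Contrib.Adams

open Cfsg
open Cfsg.Agent.Lib.Char.GenLattice Cfsg.Agent.Lib.Char.Basic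

universe u

variable {G : Type u} [Group G]

/-- `n` kills `p`-elements and fixes `p`-regular elements. -/
def IsAd (p n : ℕ) (G : Type u) [Group G] : Prop :=
  (∀ g : G, ∀ k : ℕ, orderOf g = p ^ k → g ^ n = 1) ∧ (∀ g : G, ¬ p ∣ orderOf g → g ^ n = g)

theorem exists_isAd [Finite G] {p : ℕ} (hp : p.Prime) : ∃ n : ℕ, IsAd p n G := by
  have hN : Nat.card G ≠ 0 := Nat.card_pos.ne'
  set a := (Nat.card G).factorization p with ha
  set m := Nat.card G / p ^ a with hm
  have hNm : p ^ a * m = Nat.card G := Nat.ordProj_mul_ordCompl_eq_self _ _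
  have hpm : ¬ p ∣ m := Nat.not_dvd_ordCompl hp hN
  have hc : Nat.Coprime (p ^ a) m := Nat.Coprime.pow_left _ ((Nat.Prime.coprime_iff_not_dvd hp).mpr hpm)
  obtain ⟨n, h1, h2⟩ := Nat.chineseRemainder hc 0 1
  refine ⟨n, ?_, ?_⟩
  · intro g k hg
    have hk : p ^ k ∣ Nat.card G := hg ▸ orderOf_dvd_natCard g
    have hle : k ≤ a := (hp.pow_dvd_iff_le_factorization hN).mp hk
    have h3 : p ^ a ∣ n := (Nat.modEq_zero_iff_dvd).mp h1
    rw [← orderOf_dvd_iff_pow_eq_one, hg]
    exact (pow_dvd_pow p hle).trans h3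
  · intro g hg
    have hd : orderOf g ∣ p ^ a * m := hNm ▸ orderOf_dvd_natCard g
    have hco : Nat.Coprime (orderOf g) (p ^ a) :=
      (Nat.Coprime.pow_left _ ((Nat.Prime.coprime_iff_not_dvd hp).mpr hg)).symm
    have hdm : orderOf g ∣ m := hco.dvd_of_dvd_mul_left hd
    have h4 : n ≡ 1 [MOD orderOf g] := h2.of_dvd hdm
    have := pow_eq_pow_iff_modEq.mpr h4
    rwa [pow_one] at this

theorem IsAd.regular_pow {p n : ℕ} (h : IsAd p n G) (g : G) (hp : p.Prime) [Finite G] : ¬ p ∣ orderOf (g ^ n) := by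
  haveI : Fact p.Prime := ⟨hp⟩
  obtain ⟨x, y, hxy, hc, ⟨k, hk⟩, hy⟩ := Cfsg.Agent.Lib.Blocks.PPart.exists_pPart_y (p := p) g
  rw [← hxy, hc.mul_pow, h.1 x k hk, one_mul, h.2 y hy]
  exact hy

/-- The power map is a homomorphism on an elementary subgroup. -/
theorem pow_mul_of_isElementary [Finite G] {p q n : ℕ} (hp : p.Prime) (hq : q.Prime) (h : IsAd p n G) {E : Subgroup G}
    (hE : IsElementary q E) (e f : E) : ((e * f : E) : G) ^ n = (e : G) ^ n * (f : G) ^ n := by
  obtain ⟨x, hxc, hxq, k, hk⟩ := hE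
  have hcentral : ∀ y : E, ∀ z ∈ Subgroup.zpowers x, z * y = y * z := by
    intro y z hz
    obtain ⟨i, rfl⟩ := hz
    have : Commute x y := (Subgroup.mem_center_iff.mp hxc y).symm
    exact (this.zpow_left i).eq
  set Z := Subgroup.zpowers x with hZ
  have hZn : Z.Normal := ⟨fun n hn g => by
    rw [← hcentral g n hn, mul_inv_cancel_right]
    exact hn⟩
  have hcop : Nat.Coprime (Nat.card Z) Z.index := by
    rw [hZ, Nat.card_zpowers, hk]
    exact Nat.Coprime.pow_right _ hxq
  obtain ⟨S, hS⟩ := Subgroup.exists_right_complement'_of_coprime hcop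
  have hScard : Nat.card S = q ^ k := by
    have h1 := hS.card_mul_card
    have h2 := Z.card_mul_index
    rw [← h2, Nat.mul_left_cancel_iff Nat.card_pos] at h1
    rw [h1, hk]
  -- the power map on `S`
  have hpS : ∀ s s' : S, (((s * s' : S) : E) : G) ^ n = (((s : S) : E) : G) ^ n * (((s' : S) : E) : G) ^ n := by
    intro s s'
    have hord : ∀ t : S, ∃ j : ℕ, orderOf (((t : S) : E) : G) = q ^ j := by
      intro t
      have h1 : orderOf t ∣ q ^ k := hScard ▸ orderOf_dvd_natCard t
      obtain ⟨j, -, hj⟩ := (Nat.dvd_prime_pow hq).mp h1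
      refine ⟨j, ?_⟩
      rw [Subgroup.orderOf_coe, Subgroup.orderOf_coe, hj]
    by_cases hqp : q = p
    · subst hqp
      obtain ⟨j1, hj1⟩ := hord (s * s')
      obtain ⟨j2, hj2⟩ := hord s
      obtain ⟨j3, hj3⟩ := hord s'
      rw [h.1 _ j1 hj1, h.1 _ j2 hj2, h.1 _ j3 hj3, one_mul]
    · have hreg : ∀ t : S, ¬ p ∣ orderOf (((t : S) : E) : G) := by
        intro t hd
        obtain ⟨j, hj⟩ := hord t
        rw [hj] at hd
        exact hqp ((Nat.prime_dvd_prime_iff_eq hp hq).mp (hp.dvd_of_dvd_pow hd)).symm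
      rw [h.2 _ (hreg (s * s')), h.2 _ (hreg s), h.2 _ (hreg s')]
      rfl
  -- decomposition
  obtain ⟨⟨⟨z, hz⟩, ⟨s, hs⟩⟩, hzs, -⟩ := (Subgroup.isComplement'_def.mp hS).existsUnique e
  obtain ⟨⟨⟨z', hz'⟩, ⟨s', hs'⟩⟩, hzs', -⟩ := (Subgroup.isComplement'_def.mp hS).existsUnique f
  simp only at hzs hzs'
  subst hzs hzs'
  have hpowE : ∀ (a : E), a ∈ Z → ∀ b : E, ((a * b : E) : G) ^ n = (a : G) ^ n * (b : G) ^ n := by
    intro a ha b
    have hc : Commute (a : G) (b : G) := by
      have := hcentral b a ha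
      exact congrArg Subtype.val this
    rw [Subgroup.coe_mul, hc.mul_pow]
  have e1 : z * s * (z' * s') = (z * z') * (s * s') := by
    have := hcentral s z' hz'
    calc z * s * (z' * s') = z * (s * z') * s' := by group
      _ = z * (z' * s) * s' := by rw [this]
      _ = _ := by group
  rw [e1, hpowE _ (Z.mul_mem hz hz'), hpowE z hz s, hpowE z' hz' s', hpowE z hz z' ]
  have h2 := hpS ⟨s, hs⟩ ⟨s', hs'⟩
  simp only [Subgroup.coe_mul] at h2 ⊢
  rw [h2]
  have hcomm : Commute ((s : E) : G) ((z' : E) : G) := by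
    have := hcentral s z' hz'
    exact (congrArg Subtype.val this).symm
  have h3 := (hcomm.pow_pow n n).eq
  calc _ = (z : G) ^ n * (((z' : E) : G) ^ n * ((s : E) : G) ^ n) * ((s' : E) : G) ^ n := by group
    _ = (z : G) ^ n * (((s : E) : G) ^ n * ((z' : E) : G) ^ n) * ((s' : E) : G) ^ n := by rw [h3]
    _ = _ := by group

/-- **The regular projection of a character is a generalized character.** -/
theorem isGenChar_pow [Fintype G] {p n : ℕ} (hp : p.Prime) (h : IsAd p n G) {χ : G → ℂ} (hχ : IsCharacter G χ) :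
    IsGeneralizedCharacter G (fun g => χ (g ^ n)) := by
  apply Cfsg.Agent.Lib.Char.Brauer.isGenChar_of_restrict_elementary
  · intro g t
    have hcl := isClassFunction_of_isCharacter hχ
    simp only
    rw [conj_pow, hcl]
  · intro E q hq hE
    let f : E →* G :=
      { toFun := fun e => (e : G) ^ n
        map_one' := by simp
        map_mul' := fun e e' => pow_mul_of_isElementary hp hq h hE e e' }
    exact isGenChar_of_isCharacter (isCharacter_comp f hχ)

end Cfsg.Agent.Lib.Contrib.Adams
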