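import Mathlib
import Cfsg.Agent.Lib.Contrib.Cyc

/-!
# An abstract frame argument

`τ` is a permutation of a finite set `Ψ` of finite order, `x : Ψ → ℂ` a vector of norm `P` whose
`τ`-translates are equal to or orthogonal to `x`.  If the common bilinear annihilator of the translates
consists of `τ`-invariant vectors and the sums of `x` over the orbits do not vanish, then all orbits
except one are singletons, and the exceptional one has the size of the period of `x`.  This yields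
a family of invariant vectors with small total norm.
-/

set_option autoImplicit false
set_option linter.unusedSectionVars false
set_option linter.style.haveILetI false

namespace Cfsg.Agent.Lib.Contrib.Frame

open Cfsg.Agent.Lib.Contrib.Cyc Cfsg.Agent.Lib.Char.Galois
open scoped ComplexConjugate

universe v

section Col

variable {Ψ : Type v} [Fintype Ψ] (τ : Equiv.Perm Ψ) (x : Ψ → ℂ)

/-- The hermitian product. -/
noncomputable def ip (f g : Ψ → ℂ) : ℂ := ∑ ψ, f ψ * conj (g ψ)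

theorem ip_conj (f g : Ψ → ℂ) : conj (ip f g) = ip g f := by
  simp only [ip, map_sum, map_mul, Complex.conj_conj]
  refine Fintype.sum_congr _ _ fun ψ => ?_
  ring

/-- The translates. -/
def col (j : ℕ) : Ψ → ℂ := fun ψ => x ((τ ^ j) ψ)

theorem col_zero : col τ x 0 = x := by
  funext ψ
  simp [col]

theorem col_add (i j : ℕ) (ψ : Ψ) : col τ x (i + j) ψ = col τ x i ((τ ^ j) ψ) := by
  simp [col, pow_add]

theorem col_succ_apply (j : ℕ) (ψ : Ψ) : col τ x j (τ ψ) = col τ x (j + 1) ψ := by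
  simp [col, pow_succ]

theorem ip_col_col (i j : ℕ) : ip (col τ x (i + j)) (col τ x j) = ip (col τ x i) x := by
  simp only [ip]
  refine Fintype.sum_equiv (τ ^ j) _ _ fun ψ => ?_
  rw [col_add]
  rfl

variable {τ x}

theorem col_mul_eq {m : ℕ} (hm : col τ x m = x) (q : ℕ) : col τ x (m * q) = x := by
  induction q with
  | zero => simpa using col_zero τ x
  | succ q ih =>
    funext ψ
    rw [Nat.mul_succ, col_add, ih]
    exact congrFun hm ψ

/-- The period. -/
theorem exists_period {n : ℕ} (hn0 : n ≠ 0) (hτ : τ ^ n = 1) :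
    ∃ m : ℕ, 0 < m ∧ col τ x m = x ∧ ∀ j : ℕ, col τ x j = x → m ∣ j := by
  classical
  have hex : ∃ m : ℕ, 0 < m ∧ col τ x m = x := ⟨n, Nat.pos_of_ne_zero hn0, by
    funext ψ
    simp [col, hτ]⟩
  refine ⟨Nat.find hex, (Nat.find_spec hex).1, (Nat.find_spec hex).2, fun j hj => ?_⟩
  set m := Nat.find hex with hm
  have hm0 : 0 < m := (Nat.find_spec hex).1
  have hmx : col τ x m = x := (Nat.find_spec hex).2
  have hr : col τ x (j % m) = x := by
    funext ψ
    have h1 : j = m * (j / m) + j % m := (Nat.div_add_mod j m).symm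
    have h2 := col_add τ x (m * (j / m)) (j % m) ψ
    rw [← h1, hj, col_mul_eq hmx] at h2
    exact h2.symm
  by_contra hnd
  have hr0 : 0 < j % m := Nat.pos_of_ne_zero fun h => hnd (Nat.dvd_of_mod_eq_zero h)
  exact Nat.find_min hex (Nat.mod_lt j hm0) ⟨hr0, hr⟩

/-- Orthogonality within a period. -/
theorem ip_col_of_lt {m P : ℕ} (hm : ∀ j : ℕ, col τ x j = x → m ∣ j)
    (hP : ip x x = P) (hd : ∀ j : ℕ, col τ x j = x ∨ ip (col τ x j) x = 0)
    {i j : ℕ} (hi : i < m) (hj : j < m) : ip (col τ x i) (col τ x j) = if i = j then (P : ℂ) else 0 := by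
  have key : ∀ a b : ℕ, b < a → a < m → ip (col τ x a) (col τ x b) = 0 := by
    intro a b hba ham
    have h1 : a = (a - b) + b := by omega
    rw [h1, ip_col_col]
    rcases hd (a - b) with h2 | h2
    · exfalso
      have h3 := hm _ h2
      have h4 := Nat.le_of_dvd (by omega) h3
      omega
    · exact h2
  rcases lt_trichotomy i j with h | h | h
  · rw [if_neg (by omega), ← ip_conj, key j i h hj]
    simp
  · subst h
    rw [if_pos rfl]
    have h1 := ip_col_col τ x 0 i
    rw [zero_add, col_zero] at h1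
    rw [h1, hP]
  · rw [if_neg (by omega), key i j h hi]

/-- An element with small stabilizer. -/
theorem exists_big {m P : ℕ} (hm0 : 0 < m) (hP0 : 0 < P) (hmx : col τ x m = x)
    (hm : ∀ j : ℕ, col τ x j = x → m ∣ j) (hP : ip x x = P)
    (hd : ∀ j : ℕ, col τ x j = x ∨ ip (col τ x j) x = 0) :
    ∃ ψ : Ψ, ∀ a : ℕ, (τ ^ a) ψ = ψ → m ∣ a := by
  classical
  set η : ℂ := Complex.exp (2 * Real.pi * Complex.I / m) with hη
  have hprim : IsPrimitiveRoot η m := Complex.isPrimitiveRoot_exp m hm0.ne'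
  have hηm : η ^ m = 1 := hprim.pow_eq_one
  have hη0 : η ≠ 0 := hprim.ne_zero hm0.ne'
  have hηc : η * conj η = 1 := by
    rw [conj_root_eq_inv hm0.ne' hηm, mul_inv_cancel₀ hη0]
  set w : Ψ → ℂ := fun ψ => ∑ j ∈ Finset.range m, η ^ j * col τ x j ψ with hw
  -- the norm
  have hnorm : ip w w = (m : ℂ) * P := by
    have h0 : ∀ ψ, w ψ * conj (w ψ) = ∑ i ∈ Finset.range m, ∑ j ∈ Finset.range m,
        η ^ i * conj (η ^ j) * (col τ x i ψ * conj (col τ x j ψ)) := by
      intro ψ
      simp only [hw, map_sum, map_mul]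
      rw [Finset.sum_mul_sum]
      refine Finset.sum_congr rfl fun i _ => Finset.sum_congr rfl fun j _ => ?_
      ring
    have h1 : ip w w = ∑ i ∈ Finset.range m, ∑ j ∈ Finset.range m,
        η ^ i * conj (η ^ j) * ip (col τ x i) (col τ x j) := by
      rw [ip, Fintype.sum_congr _ _ h0, Finset.sum_comm]
      refine Finset.sum_congr rfl fun i _ => ?_
      rw [Finset.sum_comm]
      refine Finset.sum_congr rfl fun j _ => ?_
      rw [ip, Finset.mul_sum]
    rw [h1]
    have h2 : ∀ i ∈ Finset.range m, ∑ j ∈ Finset.range m,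
        η ^ i * conj (η ^ j) * ip (col τ x i) (col τ x j) = (P : ℂ) := by
      intro i hi
      have hi' := Finset.mem_range.mp hi
      rw [Finset.sum_eq_single i]
      · rw [ip_col_of_lt hm hP hd hi' hi', if_pos rfl, map_pow, ← mul_pow, hηc, one_pow, one_mul]
      · intro j hj hji
        rw [ip_col_of_lt hm hP hd hi' (Finset.mem_range.mp hj), if_neg (Ne.symm hji), mul_zero]
      · intro h
        exact absurd hi h
    rw [Finset.sum_congr rfl h2]
    simp
  have hne : ∃ ψ, w ψ ≠ 0 := by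
    by_contra hcon
    push Not at hcon
    have h0 : ip w w = 0 := by
      simp only [ip, hcon]
      simp
    rw [h0] at hnorm
    have : ((m : ℂ) * P) ≠ 0 :=
      mul_ne_zero (Nat.cast_ne_zero.mpr hm0.ne') (Nat.cast_ne_zero.mpr hP0.ne')
    exact this hnorm.symm
  obtain ⟨ψ, hψ⟩ := hne
  -- the shift
  have hshift : ∀ φ : Ψ, w (τ φ) = η⁻¹ * w φ := by
    intro φ
    set f : ℕ → ℂ := fun j => η ^ j * col τ x j φ with hf
    have hf0 : f m = f 0 := by
      simp only [hf, hηm, hmx, pow_zero, col_zero]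
    have h1 : ∑ j ∈ Finset.range m, f (j + 1) = ∑ j ∈ Finset.range m, f j := by
      have h2 := Finset.sum_range_succ f m
      have h3 := Finset.sum_range_succ' f m
      rw [h2, hf0] at h3
      exact (add_right_cancel h3).symm
    calc w (τ φ) = ∑ j ∈ Finset.range m, η⁻¹ * f (j + 1) := by
          refine Finset.sum_congr rfl fun j _ => ?_
          rw [col_succ_apply]
          simp only [hf, pow_succ]
          field_simp
      _ = η⁻¹ * ∑ j ∈ Finset.range m, f (j + 1) := Finset.mul_sum _ _ _ |>.symm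
      _ = η⁻¹ * w φ := by
          rw [h1]
  have hpow : ∀ a : ℕ, w ((τ ^ a) ψ) = η⁻¹ ^ a * w ψ := by
    intro a
    induction a with
    | zero => simp
    | succ a ih =>
      rw [pow_succ', Equiv.Perm.mul_apply, hshift, ih, pow_succ']
      ring
  refine ⟨ψ, fun a ha => ?_⟩
  have h1 := hpow a
  rw [ha] at h1
  have h2 : η⁻¹ ^ a = 1 := by
    have h3 : (η⁻¹ ^ a - 1) * w ψ = 0 := by
      rw [sub_mul, one_mul, ← h1, sub_self]
    exact sub_eq_zero.mp ((mul_eq_zero.mp h3).resolve_right hψ)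
  have h3 : η ^ a = 1 := by
    rw [inv_pow] at h2
    exact inv_eq_one.mp h2
  exact hprim.dvd_of_pow_eq_one a h3

end Col

section Orbit

variable {Ψ : Type v} [Fintype Ψ] (τ : Equiv.Perm Ψ) (x : Ψ → ℂ)

/-- The orbits. -/
def Om : Type v := Quotient (Equiv.Perm.SameCycle.setoid τ)

noncomputable instance : Fintype (Om τ) :=
  haveI : Finite (Om τ) := Quotient.finite _
  Fintype.ofFinite _

/-- The orbit of a point. -/
def mkO (ψ : Ψ) : Om τ := Quotient.mk _ ψ

theorem mkO_surj : Function.Surjective (mkO τ) := Quotient.mk_surjective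

theorem mkO_apply (ψ : Ψ) : mkO τ (τ ψ) = mkO τ ψ := by
  apply Quotient.sound
  exact (Equiv.Perm.SameCycle.refl τ ψ).apply_left

theorem mkO_pow (j : ℕ) (ψ : Ψ) : mkO τ ((τ ^ j) ψ) = mkO τ ψ := by
  induction j with
  | zero => simp
  | succ j ih => rw [pow_succ', Equiv.Perm.mul_apply, mkO_apply, ih]

theorem exists_pow_of_mkO_eq [DecidableEq Ψ] {a b : Ψ} (h : mkO τ a = mkO τ b) : ∃ j : ℕ, (τ ^ j) a = b := by
  have h1 : Equiv.Perm.SameCycle τ a b := Quotient.exact h
  obtain ⟨i, -, hi⟩ := h1.exists_pow_eq'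
  exact ⟨i, hi⟩

/-- Invariant functions are constant on orbits. -/
theorem eq_of_mkO_eq {β : Type*} {v : Ψ → β} (hv : ∀ ψ, v (τ ψ) = v ψ) {a b : Ψ} (h : mkO τ a = mkO τ b) :
    v a = v b := by
  classical
  obtain ⟨j, rfl⟩ := exists_pow_of_mkO_eq τ h
  have : ∀ j : ℕ, v ((τ ^ j) a) = v a := by
    intro j
    induction j with
    | zero => simp
    | succ j ih => rw [pow_succ', Equiv.Perm.mul_apply, hv, ih]
  exact (this j).symm

open Classical in
/-- The members of an orbit. -/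
noncomputable def fib (F : Om τ) : Finset Ψ := Finset.univ.filter fun ψ => mkO τ ψ = F

open Classical in
theorem mem_fib {F : Om τ} {ψ : Ψ} : ψ ∈ fib τ F ↔ mkO τ ψ = F := by
  simp [fib]

/-- The size of an orbit. -/
noncomputable def aa (F : Om τ) : ℕ := (fib τ F).card

/-- The sum of `x` over an orbit. -/
noncomputable def nn (F : Om τ) : ℂ := ∑ ψ ∈ fib τ F, x ψ

theorem aa_pos (F : Om τ) : 0 < aa τ F := by
  obtain ⟨ψ, rfl⟩ := mkO_surj τ F
  exact Finset.card_pos.mpr ⟨ψ, (mem_fib τ).mpr rfl⟩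

/-- Sums over orbits. -/
theorem sum_fib {β : Type*} [AddCommMonoid β] (f : Ψ → β) : ∑ F : Om τ, ∑ ψ ∈ fib τ F, f ψ = ∑ ψ, f ψ := by
  classical
  simp only [fib]
  convert Finset.sum_fiberwise (Finset.univ : Finset Ψ) (mkO τ) f using 3

theorem sum_aa : ∑ F : Om τ, aa τ F = Fintype.card Ψ := by
  have := sum_fib τ (fun _ => (1 : ℕ))
  simpa [aa] using this

/-- Sums of functions which factor through the orbits. -/
theorem sum_comp_mkO {β : Type*} [AddCommMonoid β] (f : Om τ → β) :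
    ∑ ψ, f (mkO τ ψ) = ∑ F : Om τ, aa τ F • f F := by
  rw [← sum_fib τ]
  refine Fintype.sum_congr _ _ fun F => ?_
  rw [aa, ← Finset.sum_const]
  refine Finset.sum_congr rfl fun ψ hψ => ?_
  rw [(mem_fib τ).mp hψ]

variable {τ x}

/-- The size of the big orbit. -/
theorem le_aa {m : ℕ} {ψ : Ψ} (hψ : ∀ a : ℕ, (τ ^ a) ψ = ψ → m ∣ a) : m ≤ aa τ (mkO τ ψ) := by
  classical
  have h1 : (Finset.range m).card ≤ (fib τ (mkO τ ψ)).card := by
    refine Finset.card_le_card_of_injOn (fun j => (τ ^ j) ψ) ?_ ?_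
    · intro j _
      exact (mem_fib τ).mpr (mkO_pow τ j ψ)
    · intro i hi j hj hij
      have hi' : i < m := Finset.mem_range.mp hi
      have hj' : j < m := Finset.mem_range.mp hj
      simp only at hij
      wlog hle : i ≤ j generalizing i j
      · exact (this hj hi hij.symm hj' hi' (le_of_not_ge hle)).symm
      have h2 : (τ ^ (j - i)) ψ = ψ := by
        have h3 : τ ^ j = τ ^ i * τ ^ (j - i) := by
          rw [← pow_add]
          congr 1
          omega
        rw [h3, Equiv.Perm.mul_apply] at hij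
        exact ((τ ^ i).injective hij).symm
      have h5 := hψ _ h2
      by_contra hne
      have h6 := Nat.le_of_dvd (by omega) h5
      omega
  simpa [aa] using h1

/-- The size of an orbit divides any exponent of the permutation. -/
theorem aa_dvd (τ : Equiv.Perm Ψ) {n : ℕ} (hτ : τ ^ n = 1) (F : Om τ) : aa τ F ∣ n := by
  classical
  obtain ⟨ψ, rfl⟩ := mkO_surj τ F
  set d := Function.minimalPeriod τ ψ with hd
  have hper : Function.IsPeriodicPt τ n ψ := by
    unfold Function.IsPeriodicPt Function.IsFixedPt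
    rw [Equiv.Perm.iterate_eq_pow, hτ]
    rfl
  have hfib : fib τ (mkO τ ψ) = (Finset.range d).image (fun j => (τ ^ j) ψ) := by
    ext b
    simp only [mem_fib, Finset.mem_image, Finset.mem_range]
    constructor
    · intro h
      obtain ⟨j, hj⟩ := exists_pow_of_mkO_eq τ h.symm
      have hmem : ψ ∈ Function.periodicPts τ := by
        have : Function.minimalPeriod τ ψ ∣ n := hper.minimalPeriod_dvd
        by_contra hψ
        have h0 : Function.minimalPeriod τ ψ = 0 := Function.minimalPeriod_eq_zero_of_notMem_periodicPts hψ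
        have hn : n = 0 := by
          rw [h0] at this
          exact Nat.eq_zero_of_zero_dvd this
        subst hn
        have hfin : Function.minimalPeriod τ ψ ≠ 0 := by
          intro h1
          have hpos : 0 < orderOf τ := orderOf_pos τ
          have hper2 : Function.IsPeriodicPt τ (orderOf τ) ψ := by
            unfold Function.IsPeriodicPt Function.IsFixedPt
            rw [Equiv.Perm.iterate_eq_pow, pow_orderOf_eq_one]
            rfl
          exact hψ ⟨_, hpos, hper2⟩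
        exact hfin h0
      refine ⟨j % d, Nat.mod_lt _ (Function.minimalPeriod_pos_of_mem_periodicPts hmem), ?_⟩
      rw [← Equiv.Perm.iterate_eq_pow, hd, Function.iterate_mod_minimalPeriod_eq,
        Equiv.Perm.iterate_eq_pow, hj]
    · rintro ⟨j, -, rfl⟩
      exact mkO_pow τ j ψ
  have hcard : aa τ (mkO τ ψ) = d := by
    rw [aa, hfib, Finset.card_image_of_injOn, Finset.card_range]
    intro a ha b hb hab
    have h1 := Function.iterate_injOn_Iio_minimalPeriod (f := τ) (x := ψ)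
    apply h1
    · simpa using ha
    · simpa using hb
    · simp only [Equiv.Perm.iterate_eq_pow]
      exact hab
  rw [hcard]
  exact hper.minimalPeriod_dvd

end Orbit

section Main

variable {Ψ : Type v} [Fintype Ψ] {τ : Equiv.Perm Ψ} {x : Ψ → ℂ}

theorem col_eq_mod {m : ℕ} (hmx : col τ x m = x) (j : ℕ) : col τ x j = col τ x (j % m) := by
  funext ψ
  have h1 : j = m * (j / m) + j % m := (Nat.div_add_mod j m).symm
  have h2 := col_add τ x (m * (j / m)) (j % m) ψ
  rw [← h1, col_mul_eq hmx] at h2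
  exact h2

/-- The dimension count. -/
theorem card_le (hann : ∀ u : Ψ → ℂ, (∀ j : ℕ, ∑ ψ, u ψ * col τ x j ψ = 0) → ∀ ψ, u (τ ψ) = u ψ)
    {m : ℕ} (hm0 : 0 < m) (hmx : col τ x m = x) (hnn : ∀ F : Om τ, nn τ x F ≠ 0) (F₀ : Om τ) :
    Fintype.card Ψ + 1 ≤ Fintype.card (Om τ) + m := by
  classical
  let rep : Om τ → Ψ := Function.surjInv (mkO_surj τ)
  have hrep : ∀ F, mkO τ (rep F) = F := Function.surjInv_eq (mkO_surj τ)
  let L1 : (Ψ → ℂ) →ₗ[ℂ] (Fin m → ℂ) :=
    LinearMap.pi fun j => ∑ ψ, (col τ x j ψ) • LinearMap.proj ψ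
  let L2 : (Ψ → ℂ) →ₗ[ℂ] ({F : Om τ // F ≠ F₀} → ℂ) :=
    LinearMap.pi fun F => LinearMap.proj (rep F.1)
  have hL1 : ∀ u (j : Fin m), L1 u j = ∑ ψ, u ψ * col τ x j ψ := by
    intro u j
    simp [L1, LinearMap.sum_apply, mul_comm]
  have hL2 : ∀ u (F : {F : Om τ // F ≠ F₀}), L2 u F = u (rep F.1) := fun _ _ => rfl
  have hinj : Function.Injective (L1.prod L2) := by
    rw [injective_iff_map_eq_zero]
    intro u hu
    have h1 : L1 u = 0 := congrArg Prod.fst hu
    have h2 : L2 u = 0 := congrArg Prod.snd hu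
    have h3 : ∀ j : ℕ, ∑ ψ, u ψ * col τ x j ψ = 0 := by
      intro j
      rw [col_eq_mod hmx j]
      have := congrFun h1 ⟨j % m, Nat.mod_lt j hm0⟩
      rw [hL1] at this
      exact this
    have hinv := hann u h3
    have h4 : ∀ ψ, mkO τ ψ ≠ F₀ → u ψ = 0 := by
      intro ψ hψ
      have h5 := congrFun h2 ⟨mkO τ ψ, hψ⟩
      rw [hL2] at h5
      rw [eq_of_mkO_eq τ hinv (hrep (mkO τ ψ)).symm]
      exact h5
    have h6 : u (rep F₀) = 0 := by
      have h7 := h3 0
      rw [col_zero] at h7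
      have h8 : ∑ ψ, u ψ * x ψ = u (rep F₀) * nn τ x F₀ := by
        rw [nn, Finset.mul_sum, ← sum_fib τ, Finset.sum_eq_single F₀]
        · refine Finset.sum_congr rfl fun ψ hψ => ?_
          rw [eq_of_mkO_eq τ hinv (((mem_fib τ).mp hψ).trans (hrep F₀).symm)]
        · intro F _ hF
          refine Finset.sum_eq_zero fun ψ hψ => ?_
          rw [h4 ψ (by rw [(mem_fib τ).mp hψ]; exact hF), zero_mul]
        · intro h
          exact absurd (Finset.mem_univ _) h
      rw [h8] at h7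
      exact (mul_eq_zero.mp h7).resolve_right (hnn F₀)
    funext ψ
    by_cases hψ : mkO τ ψ = F₀
    · rw [eq_of_mkO_eq τ hinv (hψ.trans (hrep F₀).symm), h6]
      rfl
    · rw [h4 ψ hψ]
      rfl
  have h1 := LinearMap.finrank_le_finrank_of_injective hinj
  rw [Module.finrank_prod, Module.finrank_fintype_fun_eq_card, Module.finrank_fintype_fun_eq_card,
    Module.finrank_fintype_fun_eq_card, Fintype.card_fin, Fintype.card_subtype_compl] at h1
  simp only [Fintype.card_subtype_eq] at h1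
  have h2 : 0 < Fintype.card (Om τ) := Fintype.card_pos_iff.mpr ⟨F₀⟩
  omega

/-- All orbits but one are singletons. -/
theorem aa_structure {m : ℕ} {F₁ : Om τ} (hm : m ≤ aa τ F₁)
    (hc : Fintype.card Ψ + 1 ≤ Fintype.card (Om τ) + m) :
    aa τ F₁ = m ∧ ∀ F, F ≠ F₁ → aa τ F = 1 := by
  classical
  have hpos := aa_pos τ
  have hs : ∑ F : Om τ, aa τ F = ∑ F : Om τ, (aa τ F - 1) + Fintype.card (Om τ) := by
    have : ∀ F : Om τ, aa τ F = (aa τ F - 1) + 1 := fun F => by have := hpos F; omega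
    conv_lhs => rw [Fintype.sum_congr _ _ this]
    rw [Finset.sum_add_distrib]
    simp
  rw [sum_aa τ] at hs
  have h1 : aa τ F₁ - 1 ≤ ∑ F : Om τ, (aa τ F - 1) :=
    Finset.single_le_sum (f := fun F => aa τ F - 1) (fun _ _ => Nat.zero_le _) (Finset.mem_univ F₁)
  have hF1 := hpos F₁
  refine ⟨by omega, fun F hF => ?_⟩
  have h2 : (aa τ F₁ - 1) + (aa τ F - 1) ≤ ∑ G : Om τ, (aa τ G - 1) := by
    rw [← Finset.add_sum_erase _ _ (Finset.mem_univ F₁)]
    have h3 : aa τ F - 1 ≤ ∑ G ∈ Finset.univ.erase F₁, (aa τ G - 1) :=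
      Finset.single_le_sum (f := fun G => aa τ G - 1) (fun _ _ => Nat.zero_le _)
        (Finset.mem_erase.mpr ⟨hF, Finset.mem_univ F⟩)
    omega
  have := hpos F
  omega

/-- On a singleton orbit, `τ` is trivial. -/
theorem apply_eq_of_aa {ψ : Ψ} (h : aa τ (mkO τ ψ) = 1) : τ ψ = ψ := by
  classical
  obtain ⟨a, ha⟩ := Finset.card_eq_one.mp h
  have h1 : ψ ∈ fib τ (mkO τ ψ) := (mem_fib τ).mpr rfl
  have h2 : τ ψ ∈ fib τ (mkO τ ψ) := (mem_fib τ).mpr (mkO_apply τ ψ)
  rw [ha, Finset.mem_singleton] at h1 h2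
  exact h2.trans h1.symm

theorem fib_eq_of_aa {ψ : Ψ} (h : aa τ (mkO τ ψ) = 1) : fib τ (mkO τ ψ) = {ψ} := by
  classical
  obtain ⟨a, ha⟩ := Finset.card_eq_one.mp h
  have h1 : ψ ∈ fib τ (mkO τ ψ) := (mem_fib τ).mpr rfl
  rw [ha, Finset.mem_singleton] at h1
  rw [ha, h1]

open Classical in
/-- The norm identity. -/
theorem sum_norm {m P : ℕ} (hm0 : 0 < m) (hm : ∀ j : ℕ, col τ x j = x → m ∣ j)
    (hP : ip x x = P) (hd : ∀ j : ℕ, col τ x j = x ∨ ip (col τ x j) x = 0) {ψ₁ : Ψ}
    (hψ₁ : ∀ a : ℕ, (τ ^ a) ψ₁ = ψ₁ → m ∣ a) (hF₁ : aa τ (mkO τ ψ₁) = m)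
    (hF : ∀ F, F ≠ mkO τ ψ₁ → aa τ F = 1) :
    ∑ F : Om τ, ((if F = mkO τ ψ₁ then 1 else m : ℕ) : ℂ) * (nn τ x F * conj (nn τ x F)) = P := by
  classical
  set F₁ := mkO τ ψ₁ with hF₁def
  set N : Ψ → ℂ := fun ψ => ∑ j ∈ Finset.range m, col τ x j ψ with hN
  have hm0c : (m : ℂ) ≠ 0 := Nat.cast_ne_zero.mpr hm0.ne'
  -- the norm of `N`
  have h1 : ip N N = (m : ℂ) * P := by
    have h0 : ∀ ψ, N ψ * conj (N ψ) = ∑ i ∈ Finset.range m, ∑ j ∈ Finset.range m,
        col τ x i ψ * conj (col τ x j ψ) := by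
      intro ψ
      simp only [hN, map_sum]
      rw [Finset.sum_mul_sum]
    have h2 : ip N N = ∑ i ∈ Finset.range m, ∑ j ∈ Finset.range m, ip (col τ x i) (col τ x j) := by
      rw [ip, Fintype.sum_congr _ _ h0, Finset.sum_comm]
      refine Finset.sum_congr rfl fun i _ => ?_
      rw [Finset.sum_comm]
      rfl
    rw [h2]
    have h3 : ∀ i ∈ Finset.range m, ∑ j ∈ Finset.range m, ip (col τ x i) (col τ x j) = (P : ℂ) := by
      intro i hi
      have hi' := Finset.mem_range.mp hi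
      rw [Finset.sum_eq_single i]
      · rw [ip_col_of_lt hm hP hd hi' hi', if_pos rfl]
      · intro j hj hji
        rw [ip_col_of_lt hm hP hd hi' (Finset.mem_range.mp hj), if_neg (Ne.symm hji)]
      · intro h
        exact absurd hi h
    rw [Finset.sum_congr rfl h3]
    simp
  -- values of `N`
  have hN1 : ∀ ψ, mkO τ ψ ≠ F₁ → N ψ = m * nn τ x (mkO τ ψ) := by
    intro ψ hψ
    have ha := hF _ hψ
    have h2 := apply_eq_of_aa ha
    have h3 : ∀ j : ℕ, (τ ^ j) ψ = ψ := by
      intro j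
      induction j with
      | zero => simp
      | succ j ih => rw [pow_succ, Equiv.Perm.mul_apply, h2, ih]
    simp only [hN, col, h3, Finset.sum_const, Finset.card_range, nsmul_eq_mul]
    rw [nn, fib_eq_of_aa ha, Finset.sum_singleton]
  have hN2 : ∀ ψ, mkO τ ψ = F₁ → N ψ = nn τ x F₁ := by
    intro ψ hψ
    obtain ⟨c, hc⟩ := exists_pow_of_mkO_eq τ hψ.symm
    have hstab : ∀ a : ℕ, (τ ^ a) ψ = ψ → m ∣ a := by
      intro a ha
      apply hψ₁
      rw [← hc, ← Equiv.Perm.mul_apply, ← pow_add, add_comm, pow_add, Equiv.Perm.mul_apply] at ha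
      exact (τ ^ c).injective ha
    have hinj : Set.InjOn (fun j => (τ ^ j) ψ) (Finset.range m : Set ℕ) := by
      intro i hi j hj hij
      have hi' : i < m := Finset.mem_range.mp hi
      have hj' : j < m := Finset.mem_range.mp hj
      simp only at hij
      wlog hle : i ≤ j generalizing i j
      · exact (this hj hi hij.symm hj' hi' (le_of_not_ge hle)).symm
      have h2 : (τ ^ (j - i)) ψ = ψ := by
        have h3 : τ ^ j = τ ^ i * τ ^ (j - i) := by
          rw [← pow_add]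
          congr 1
          omega
        rw [h3, Equiv.Perm.mul_apply] at hij
        exact ((τ ^ i).injective hij).symm
      have h5 := hstab _ h2
      by_contra hne
      have h6 := Nat.le_of_dvd (by omega) h5
      omega
    have himg : (Finset.range m).image (fun j => (τ ^ j) ψ) = fib τ F₁ := by
      apply Finset.eq_of_subset_of_card_le
      · intro φ hφ
        obtain ⟨j, -, rfl⟩ := Finset.mem_image.mp hφ
        exact (mem_fib τ).mpr ((mkO_pow τ j ψ).trans hψ)
      · rw [Finset.card_image_of_injOn hinj, Finset.card_range]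
        exact hF₁.le
    rw [nn, ← himg, Finset.sum_image hinj]
    rfl
  have h2 : ip N N = (m : ℂ) * ∑ F : Om τ, ((if F = F₁ then 1 else m : ℕ) : ℂ) * (nn τ x F * conj (nn τ x F)) := by
    rw [ip, ← sum_fib τ, Finset.mul_sum]
    refine Fintype.sum_congr _ _ fun F => ?_
    by_cases hFF : F = F₁
    · subst hFF
      have h3 : ∀ ψ ∈ fib τ F₁, N ψ * conj (N ψ) = nn τ x F₁ * conj (nn τ x F₁) := by
        intro ψ hψ
        rw [hN2 ψ ((mem_fib τ).mp hψ)]
      rw [Finset.sum_congr rfl h3, Finset.sum_const, nsmul_eq_mul, if_pos rfl]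
      have : (fib τ F₁).card = m := hF₁
      rw [this]
      simp
    · have h3 : ∀ ψ ∈ fib τ F, N ψ * conj (N ψ) = m * nn τ x F * conj (m * nn τ x F) := by
        intro ψ hψ
        have h4 := (mem_fib τ).mp hψ
        rw [hN1 ψ (by rw [h4]; exact hFF), h4]
      rw [Finset.sum_congr rfl h3, Finset.sum_const, nsmul_eq_mul, if_neg hFF]
      have : (fib τ F).card = 1 := hF F hFF
      rw [this, map_mul, Complex.conj_natCast]
      push_cast
      ring
  rw [h1] at h2
  exact (mul_left_cancel₀ hm0c h2).symm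

theorem nrm_neg' {r : ℕ} [NeZero r] {z : ℂ} (hz : z ∈ Kn r) : nrm r (-z) = nrm r z := by
  simp only [nrm, sig_neg _ hz, norm_neg]

theorem nrm_zero' (r : ℕ) [NeZero r] : nrm r 0 = 0 := by
  simp [nrm, sig_zero]

open Classical in
/-- The norm identity, averaged. -/
theorem sum_nrm {r : ℕ} [NeZero r] {m P : ℕ} {F₁ : Om τ} (hn : ∀ F, nn τ x F ∈ Zr r)
    (h : ∑ F : Om τ, ((if F = F₁ then 1 else m : ℕ) : ℂ) * (nn τ x F * conj (nn τ x F)) = P) :
    ∑ F : Om τ, ((if F = F₁ then 1 else m : ℕ) : ℝ) * nrm r (nn τ x F) = P := by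
  have hr : r ≠ 0 := NeZero.ne r
  apply Complex.ofReal_injective
  have h1 := congrArg (avg r) h
  rw [avg_natCast, avg_sum] at h1
  · push_cast
    rw [← h1]
    refine Fintype.sum_congr _ _ fun F => ?_
    rw [nrm_cast (hn F), avg_natCast_mul]
    · split_ifs <;> simp
    · exact mul_mem (mem_Kn_of_mem_Zr hr (hn F)) (mem_Kn_of_mem_Zr hr (conj_mem_Zr hr (hn F)))
  · intro F _
    exact mul_mem (natCast_mem _ _)
      (mul_mem (mem_Kn_of_mem_Zr hr (hn F)) (mem_Kn_of_mem_Zr hr (conj_mem_Zr hr (hn F))))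

open Classical in
/-- The vectors of the family. -/
noncomputable def vv (τ : Equiv.Perm Ψ) (x : Ψ → ℂ) (q : Om τ × Om τ) (ψ : Ψ) : ℂ :=
  (if mkO τ ψ = q.1 then nn τ x q.2 else 0) - (if mkO τ ψ = q.2 then nn τ x q.1 else 0)

theorem vv_inv (q : Om τ × Om τ) (ψ : Ψ) : vv τ x q (τ ψ) = vv τ x q ψ := by
  unfold vv
  rw [mkO_apply τ ψ]

theorem vv_pow (q : Om τ × Om τ) (j : ℕ) (ψ : Ψ) : vv τ x q ((τ ^ j) ψ) = vv τ x q ψ := by
  unfold vv
  rw [mkO_pow τ j ψ]

open Classical in
theorem sum_ite_mkO (F : Om τ) (c : ℂ) (f : Ψ → ℂ) :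
    ∑ ψ, (if mkO τ ψ = F then c else 0) * f ψ = c * ∑ ψ ∈ fib τ F, f ψ := by
  rw [fib, Finset.sum_filter, Finset.mul_sum]
  refine Fintype.sum_congr _ _ fun ψ => ?_
  split_ifs <;> simp

/-- The vectors annihilate the translates. -/
theorem sum_vv_col (q : Om τ × Om τ) (j : ℕ) : ∑ ψ, vv τ x q ψ * col τ x j ψ = 0 := by
  classical
  have h1 : ∑ ψ, vv τ x q ψ * col τ x j ψ = ∑ ψ, vv τ x q ψ * x ψ := by
    rw [← Equiv.sum_comp (τ ^ j) (fun ψ => vv τ x q ψ * x ψ)]
    refine Fintype.sum_congr _ _ fun ψ => ?_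
    simp only [vv_pow]
    rfl
  rw [h1]
  simp only [vv, sub_mul, Finset.sum_sub_distrib, sum_ite_mkO]
  rw [← nn, ← nn]
  ring

theorem vv_mem {r : ℕ} (hn : ∀ F, nn τ x F ∈ Zr r) (q : Om τ × Om τ) (ψ : Ψ) : vv τ x q ψ ∈ Zr r := by
  simp only [vv]
  refine sub_mem ?_ ?_ <;> split_ifs
  · exact hn _
  · exact zero_mem _
  · exact hn _
  · exact zero_mem _

open Classical in
/-- The norm of a vector of the family. -/
theorem sum_nrm_vv {r : ℕ} [NeZero r] (hn : ∀ F, nn τ x F ∈ Zr r) (F G : Om τ) :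
    ∑ ψ, nrm r (vv τ x (F, G) ψ) =
      if F = G then 0 else (aa τ F : ℝ) * nrm r (nn τ x G) + (aa τ G : ℝ) * nrm r (nn τ x F) := by
  have hr : r ≠ 0 := NeZero.ne r
  split_ifs with hFG
  · subst hFG
    refine Finset.sum_eq_zero fun ψ _ => ?_
    have : vv τ x (F, F) ψ = 0 := by
      simp [vv]
    rw [this, nrm_zero']
  · have h1 : ∀ ψ, nrm r (vv τ x (F, G) ψ) =
        (if mkO τ ψ = F then nrm r (nn τ x G) else 0) + (if mkO τ ψ = G then nrm r (nn τ x F) else 0) := by
      intro ψ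
      simp only [vv]
      by_cases h2 : mkO τ ψ = F
      · have h3 : mkO τ ψ ≠ G := fun h => hFG (h2.symm.trans h)
        simp [h2, hFG]
      · by_cases h3 : mkO τ ψ = G
        · subst h3
          simp [nrm_neg' (mem_Kn_of_mem_Zr hr (hn F)), h2]
        · simp [h2, h3, nrm_zero']
    rw [Fintype.sum_congr _ _ h1, Finset.sum_add_distrib]
    congr 1
    · rw [← Finset.sum_filter, Finset.sum_const, nsmul_eq_mul]
      rfl
    · rw [← Finset.sum_filter, Finset.sum_const, nsmul_eq_mul]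
      rfl

open Classical in
/-- The total norm of the family. -/
theorem total_le {r : ℕ} [NeZero r] {m P : ℕ} (hm0 : 0 < m) {F₁ : Om τ} (hn : ∀ F, nn τ x F ∈ Zr r)
    (hc : Fintype.card Ψ + 1 ≤ Fintype.card (Om τ) + m) (ha1 : aa τ F₁ = m)
    (ha : ∀ F, F ≠ F₁ → aa τ F = 1)
    (hsum : ∑ F : Om τ, ((if F = F₁ then 1 else m : ℕ) : ℝ) * nrm r (nn τ x F) = P) :
    ∑ q : Om τ × Om τ, ∑ ψ, nrm r (vv τ x q ψ) ≤ (P : ℝ) * (2 * (Fintype.card (Om τ) - 1) : ℕ) := by
  set b : Om τ → ℝ := fun F => nrm r (nn τ x F) with hb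
  have hb0 : ∀ F, 0 ≤ b F := fun F => nrm_nonneg r _
  set s := Fintype.card (Om τ) with hs
  have hs1 : 1 ≤ s := Fintype.card_pos_iff.mpr ⟨F₁⟩
  have hsumaa : ∑ F : Om τ, (aa τ F : ℝ) = Fintype.card Ψ := by
    exact_mod_cast sum_aa τ
  have h1 : ∑ q : Om τ × Om τ, ∑ ψ, nrm r (vv τ x q ψ) =
      ∑ F : Om τ, ∑ G : Om τ, if F = G then 0 else (aa τ F : ℝ) * b G + (aa τ G : ℝ) * b F := by
    rw [Fintype.sum_prod_type]
    refine Fintype.sum_congr _ _ fun F => Fintype.sum_congr _ _ fun G => ?_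
    rw [sum_nrm_vv hn]
  have h2 : ∀ G : Om τ, ∑ F : Om τ, (if F = G then (0 : ℝ) else (aa τ F : ℝ) * b G) =
      ((Fintype.card Ψ : ℝ) - aa τ G) * b G := by
    intro G
    have e : ∀ F : Om τ, (if F = G then (0 : ℝ) else (aa τ F : ℝ) * b G) =
        (aa τ F : ℝ) * b G - if F = G then (aa τ G : ℝ) * b G else 0 := by
      intro F
      split_ifs with h
      · subst h
        ring
      · ring
    rw [Fintype.sum_congr _ _ e, Finset.sum_sub_distrib, ← Finset.sum_mul, hsumaa,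
      Finset.sum_ite_eq' Finset.univ G, if_pos (Finset.mem_univ G)]
    ring
  have h3 : ∀ F : Om τ, ∑ G : Om τ, (if F = G then (0 : ℝ) else (aa τ G : ℝ) * b F) =
      ((Fintype.card Ψ : ℝ) - aa τ F) * b F := by
    intro F
    have e : ∀ G : Om τ, (if F = G then (0 : ℝ) else (aa τ G : ℝ) * b F) =
        if G = F then (0 : ℝ) else (aa τ G : ℝ) * b F := by
      intro G
      by_cases h : F = G
      · rw [if_pos h, if_pos h.symm]
      · rw [if_neg h, if_neg (Ne.symm h)]
    rw [Fintype.sum_congr _ _ e, h2]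
  have h4 : ∑ F : Om τ, ∑ G : Om τ, (if F = G then 0 else (aa τ F : ℝ) * b G + (aa τ G : ℝ) * b F) =
      2 * ∑ G : Om τ, ((Fintype.card Ψ : ℝ) - aa τ G) * b G := by
    have e : ∀ F G : Om τ, (if F = G then 0 else (aa τ F : ℝ) * b G + (aa τ G : ℝ) * b F) =
        (if F = G then (0 : ℝ) else (aa τ F : ℝ) * b G) + (if F = G then (0 : ℝ) else (aa τ G : ℝ) * b F) := by
      intro F G
      split_ifs <;> simp
    simp only [e, Finset.sum_add_distrib, h3]
    rw [Finset.sum_comm]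
    simp only [h2]
    ring
  -- the pointwise bound
  have hmr : (1 : ℝ) ≤ m := by exact_mod_cast hm0
  have hcr : (Fintype.card Ψ : ℝ) + 1 ≤ s + m := by exact_mod_cast hc
  have hs1r : (1 : ℝ) ≤ s := by exact_mod_cast hs1
  have h5 : ∀ G : Om τ, ((Fintype.card Ψ : ℝ) - aa τ G) * b G ≤
      ((s : ℝ) - 1) * (((if G = F₁ then 1 else m : ℕ) : ℝ) * b G) := by
    intro G
    by_cases hG : G = F₁
    · subst hG
      rw [if_pos rfl, ha1]
      have : (Fintype.card Ψ : ℝ) - m ≤ (s : ℝ) - 1 := by linarith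
      push_cast
      nlinarith [hb0 G]
    · rw [if_neg hG, ha G hG]
      have hs2 : (2 : ℝ) ≤ s := by
        have : 1 < s := Fintype.one_lt_card_iff.mpr ⟨G, F₁, hG⟩
        exact_mod_cast this
      have h6 : (Fintype.card Ψ : ℝ) - 1 ≤ ((s : ℝ) - 1) * m := by
        nlinarith
      push_cast
      nlinarith [hb0 G]
  have h7 : ∑ G : Om τ, ((Fintype.card Ψ : ℝ) - aa τ G) * b G ≤ ((s : ℝ) - 1) * P := by
    rw [← hsum, Finset.mul_sum]
    exact Finset.sum_le_sum fun G _ => h5 G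
  rw [h1, h4]
  push_cast
  rw [Nat.cast_sub hs1]
  push_cast
  nlinarith

open Classical in
/-- A nonconstant function on a finite set separates many pairs. -/
theorem two_card_le {Ω β : Type*} [Fintype Ω] (y : Ω → β) {F₀ F₁ : Ω} (h : y F₀ ≠ y F₁) :
    2 * (Fintype.card Ω - 1) ≤ (Finset.univ.filter fun q : Ω × Ω => y q.1 ≠ y q.2).card := by
  let c : Ω → Ω := fun F => if y F ≠ y F₀ then F₀ else F₁
  have hc : ∀ F, y F ≠ y (c F) := by
    intro F
    by_cases hF : y F ≠ y F₀
    · simp only [c, if_pos hF]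
      exact hF
    · simp only [c, if_neg hF]
      rw [not_not.mp hF]
      exact h
  let D := {F : Ω // F ≠ F₀} ⊕ {F : Ω // F ≠ F₀}
  let g : D → Ω × Ω := fun d => match d with
    | Sum.inl F => (F.1, c F.1)
    | Sum.inr F => (c F.1, F.1)
  have hcard : Fintype.card D = 2 * (Fintype.card Ω - 1) := by
    simp only [D, Fintype.card_sum, Fintype.card_subtype_compl, Fintype.card_subtype_eq]
    omega
  rw [← hcard, ← Finset.card_univ]
  refine Finset.card_le_card_of_injOn g ?_ ?_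
  · intro d _
    simp only [Finset.coe_filter, Finset.mem_univ, true_and, Set.mem_ofPred_eq]
    rcases d with F | F
    · exact hc F.1
    · exact (hc F.1).symm
  · have hcross : ∀ F G : {F : Ω // F ≠ F₀}, (F.1, c F.1) ≠ (c G.1, G.1) := by
      intro F G hFG
      have h1 : F.1 = c G.1 := congrArg Prod.fst hFG
      have h2 : c F.1 = G.1 := congrArg Prod.snd hFG
      by_cases hF : y F.1 ≠ y F₀
      · apply G.2
        rw [← h2]
        simp only [c, if_pos hF]
      · have h3 : c F.1 = F₁ := by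
          simp only [c, if_neg hF]
        by_cases hG : y G.1 ≠ y F₀
        · apply F.2
          rw [h1]
          simp only [c, if_pos hG]
        · have h4 : c G.1 = F₁ := by
            simp only [c, if_neg hG]
          rw [h4] at h1
          rw [h1] at hF
          exact hF (Ne.symm h)
    intro d _ d' _ hdd
    rcases d with F | F <;> rcases d' with G | G
    · have : F.1 = G.1 := congrArg Prod.fst hdd
      exact congrArg Sum.inl (Subtype.ext this)
    · exact absurd hdd (hcross F G)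
    · exact absurd hdd.symm (hcross G F)
    · have : F.1 = G.1 := congrArg Prod.snd hdd
      exact congrArg Sum.inr (Subtype.ext this)

open Classical in
/-- The pairing with a vector of the family. -/
theorem sum_mul_conj_vv (u : Ψ → ℂ) (q : Om τ × Om τ) :
    ∑ ψ, u ψ * conj (vv τ x q ψ) =
      conj (nn τ x q.2) * ∑ ψ ∈ fib τ q.1, u ψ - conj (nn τ x q.1) * ∑ ψ ∈ fib τ q.2, u ψ := by
  have h1 : ∀ (F : Om τ) (c : ℂ), ∑ ψ, u ψ * (if mkO τ ψ = F then c else 0) =
      c * ∑ ψ ∈ fib τ F, u ψ := by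
    intro F c
    rw [← sum_ite_mkO]
    refine Fintype.sum_congr _ _ fun ψ => ?_
    ring
  have h2 : ∀ ψ, u ψ * conj (vv τ x q ψ) = u ψ * (if mkO τ ψ = q.1 then conj (nn τ x q.2) else 0) -
      u ψ * (if mkO τ ψ = q.2 then conj (nn τ x q.1) else 0) := by
    intro ψ
    simp only [vv, map_sub, mul_sub]
    congr 2 <;> split_ifs <;> simp
  rw [Fintype.sum_congr _ _ h2, Finset.sum_sub_distrib, h1, h1]

open Classical in
/-- **The family.** -/
theorem exists_family {n : ℕ} (hn0 : n ≠ 0) (hτ : τ ^ n = 1) {r : ℕ} [NeZero r] (hn : ∀ F, nn τ x F ∈ Zr r)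
    {P : ℕ} (hP0 : 0 < P) (hP : ip x x = P)
    (hd : ∀ j : ℕ, col τ x j = x ∨ ip (col τ x j) x = 0)
    (hann : ∀ u : Ψ → ℂ, (∀ j : ℕ, ∑ ψ, u ψ * col τ x j ψ = 0) → ∀ ψ, u (τ ψ) = u ψ)
    (hnn : ∀ F : Om τ, nn τ x F ≠ 0) :
    ∃ (ι : Type v) (_ : Fintype ι) (v : ι → Ψ → ℂ) (N : ℕ),
      (∀ i ψ, v i ψ ∈ Zr r) ∧ (∀ i j, ∑ ψ, v i ψ * col τ x j ψ = 0) ∧
      (∑ i, ∑ ψ, nrm r (v i ψ) ≤ (P : ℝ) * N) ∧
      ∀ u : Ψ → ℂ, (∀ j : ℕ, ∑ ψ, u ψ * col τ x j ψ = 0) → u ≠ 0 →
        0 < N ∧ N ≤ (Finset.univ.filter fun i => ∑ ψ, u ψ * conj (v i ψ) ≠ 0).card := by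
  obtain ⟨m, hm0, hmx, hm⟩ := exists_period (x := x) hn0 hτ
  obtain ⟨ψ₁, hψ₁⟩ := exists_big hm0 hP0 hmx hm hP hd
  set F₁ := mkO τ ψ₁ with hF₁
  have hc := card_le hann hm0 hmx hnn F₁
  have hle := le_aa hψ₁
  obtain ⟨ha1, ha⟩ := aa_structure hle hc
  have hnorm := sum_norm hm0 hm hP hd hψ₁ ha1 ha
  have hnrm := sum_nrm hn hnorm
  refine ⟨Om τ × Om τ, inferInstance, vv τ x, 2 * (Fintype.card (Om τ) - 1), vv_mem hn, sum_vv_col,
    total_le hm0 hn hc ha1 ha hnrm, ?_⟩
  intro u hu hu0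
  have hinv := hann u hu
  set UU : Om τ → ℂ := fun F => ∑ ψ ∈ fib τ F, u ψ with hUU
  set y : Om τ → ℂ := fun F => UU F / conj (nn τ x F) with hy
  have hconj : ∀ F, conj (nn τ x F) ≠ 0 := fun F h => hnn F (by simpa using h)
  have hpair : ∀ q : Om τ × Om τ, ∑ ψ, u ψ * conj (vv τ x q ψ) =
      conj (nn τ x q.1) * conj (nn τ x q.2) * (y q.1 - y q.2) := by
    intro q
    rw [sum_mul_conj_vv]
    simp only [hy]
    have h1 := hconj q.1
    have h2 := hconj q.2
    field_simp
    rfl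
  -- `y` is not constant
  have hnc : ∃ F G, y F ≠ y G := by
    by_contra hcon
    push Not at hcon
    set c := y F₁ with hcdef
    have hUc : ∀ F, UU F = c * conj (nn τ x F) := by
      intro F
      have h1 : y F = c := hcon F F₁
      simp only [hy] at h1
      rw [← h1]
      field_simp [hconj F]
    have hval : ∀ ψ, (aa τ (mkO τ ψ) : ℂ) * u ψ = UU (mkO τ ψ) := by
      intro ψ
      simp only [hUU]
      have h1 : ∀ φ ∈ fib τ (mkO τ ψ), u φ = u ψ := fun φ hφ =>
        eq_of_mkO_eq τ hinv ((mem_fib τ).mp hφ)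
      rw [Finset.sum_congr rfl h1, Finset.sum_const, nsmul_eq_mul]
      rfl
    have haa : ∀ F, (aa τ F : ℂ) ≠ 0 := fun F => Nat.cast_ne_zero.mpr (aa_pos τ F).ne'
    have h0 := hu 0
    rw [col_zero, ← sum_fib τ] at h0
    have h1 : ∀ F : Om τ, ∑ ψ ∈ fib τ F, u ψ * x ψ = c * ((Complex.normSq (nn τ x F) / aa τ F : ℝ) : ℂ) := by
      intro F
      have h2 : ∀ ψ ∈ fib τ F, u ψ * x ψ = (UU F / aa τ F) * x ψ := by
        intro ψ hψ
        have h3 := (mem_fib τ).mp hψ
        have h4 := hval ψ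
        rw [h3] at h4
        rw [← h4]
        field_simp [haa F]
      rw [Finset.sum_congr rfl h2, ← Finset.mul_sum, ← nn, hUc F]
      have h5 : conj (nn τ x F) * nn τ x F = (Complex.normSq (nn τ x F) : ℂ) := Complex.normSq_eq_conj_mul_self.symm
      push_cast
      rw [← h5]
      field_simp [haa F]
    rw [Fintype.sum_congr _ _ (fun F => h1 F), ← Finset.mul_sum] at h0
    have hpos : 0 < ∑ F : Om τ, Complex.normSq (nn τ x F) / aa τ F := by
      refine Finset.sum_pos (fun F _ => ?_) ⟨F₁, Finset.mem_univ _⟩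
      exact div_pos (Complex.normSq_pos.mpr (hnn F)) (by exact_mod_cast aa_pos τ F)
    have hne : (∑ F : Om τ, ((Complex.normSq (nn τ x F) / aa τ F : ℝ) : ℂ)) ≠ 0 := by
      rw [← Complex.ofReal_sum]
      exact Complex.ofReal_ne_zero.mpr hpos.ne'
    have hc0 : c = 0 := (mul_eq_zero.mp h0).resolve_right hne
    apply hu0
    funext ψ
    have h2 := hval ψ
    rw [hUc, hc0, zero_mul] at h2
    exact (mul_eq_zero.mp h2).resolve_left (haa _)
  obtain ⟨F, G, hFG⟩ := hnc
  have hs : 1 < Fintype.card (Om τ) := Fintype.one_lt_card_iff.mpr ⟨F, G, fun h => hFG (h ▸ rfl)⟩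
  refine ⟨by omega, (two_card_le y hFG).trans ?_⟩
  refine Finset.card_le_card fun q hq => ?_
  simp only [Finset.mem_filter, Finset.mem_univ, true_and] at hq ⊢
  rw [hpair]
  exact mul_ne_zero (mul_ne_zero (hconj _) (hconj _)) (sub_ne_zero.mpr hq)

end Main

end Cfsg.Agent.Lib.Contrib.Frame
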