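import Mathlib
import Cfsg.Agent.Lib.Contrib.Cyc

/-!
# Galois averages of roots of unity of `2`-power order
-/

set_option autoImplicit false
set_option linter.unusedSectionVars false

namespace Cfsg.Agent.Lib.Contrib.Cyc

open Cfsg.Agent.Lib.Char.Galois
open scoped ComplexConjugate

variable {k : ℕ}

instance instNeZeroTwoPow (k : ℕ) : NeZero (2 ^ k) := ⟨pow_ne_zero _ two_ne_zero⟩

theorem avg_one (r : ℕ) [NeZero r] : avg r 1 = 1 := by
  have := avg_natCast (r := r) 1
  simpa using this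

theorem avg_neg_one (r : ℕ) [NeZero r] : avg r (-1) = -1 := by
  have hc : (Fintype.card (Kn r →ₐ[ℚ] ℂ) : ℂ) ≠ 0 := by
    exact_mod_cast (card_alg_pos r).ne'
  have h1 : ∀ σ : Kn r →ₐ[ℚ] ℂ, sig σ (-1) = -1 := by
    intro σ
    rw [sig_neg σ (one_mem _), sig_one]
  simp only [avg, h1, Finset.sum_const, Finset.card_univ, nsmul_eq_mul]
  field_simp

/-- Composition with an automorphism does not change the average. -/
theorem sum_comp_aut (r : ℕ) [NeZero r] (τ : Kn r ≃ₐ[ℚ] Kn r) (x : Kn r) :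
    ∑ σ : Kn r →ₐ[ℚ] ℂ, σ (τ x) = ∑ σ : Kn r →ₐ[ℚ] ℂ, σ x := by
  refine Fintype.sum_bijective (fun σ : Kn r →ₐ[ℚ] ℂ => σ.comp τ.toAlgHom) ?_ _ _ fun σ => rfl
  refine ⟨?_, ?_⟩
  · intro σ σ' h
    ext y
    have := congrArg (fun f : Kn r →ₐ[ℚ] ℂ => f (τ.symm y)) h
    simpa using this
  · intro σ
    refine ⟨σ.comp τ.symm.toAlgHom, ?_⟩
    ext y
    simp

theorem avg_eq_zero_of_aut (r : ℕ) [NeZero r] {η : ℂ} (hη : η ^ r = 1) {u : ℕ} (hu : u.Coprime r)
    (hmul : η ^ u = -η) : avg r η = 0 := by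
  haveI := isCyclotomicExtension_Kn r
  set τ : Kn r ≃ₐ[ℚ] Kn r := (IsCyclotomicExtension.Rat.galEquivZMod r (Kn r)).symm
    (ZMod.unitOfCoprime u hu) with hτ
  set x : Kn r := ⟨η, mem_Kn_of_pow_eq_one (NeZero.ne r) hη⟩ with hx
  have hxr : x ^ r = 1 := by
    apply Subtype.ext
    simpa [hx] using hη
  have hτx : τ x = -x := by
    have h3 := IsCyclotomicExtension.Rat.galEquivZMod_apply_of_pow_eq r (Kn r) τ hxr
    rw [h3, hτ, MulEquiv.apply_symm_apply, ZMod.coe_unitOfCoprime, ZMod.val_natCast,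
      ← pow_eq_pow_mod _ hxr]
    apply Subtype.ext
    simpa [hx] using hmul
  have h5 := sum_comp_aut r τ x
  rw [hτx] at h5
  simp only [map_neg] at h5
  rw [Finset.sum_neg_distrib] at h5
  have h6 : ∑ σ : Kn r →ₐ[ℚ] ℂ, σ x = 0 := by
    have : (2 : ℂ) * ∑ σ : Kn r →ₐ[ℚ] ℂ, σ x = 0 := by
      linear_combination -h5
    simpa using this
  have h7 : ∀ σ : Kn r →ₐ[ℚ] ℂ, sig σ η = σ x := fun σ => sig_of_mem σ _
  simp only [avg, h7, h6, mul_zero]

/-- The average of a root of unity of `2`-power order. -/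
theorem avg_root {η : ℂ} (hη : η ^ 2 ^ k = 1) :
    avg (2 ^ k) η = if η = 1 then 1 else if η = -1 then -1 else 0 := by
  classical
  by_cases h1 : η = 1
  · rw [if_pos h1, h1, avg_one]
  rw [if_neg h1]
  by_cases h2 : η = -1
  · rw [if_pos h2, h2, avg_neg_one]
  rw [if_neg h2]
  have hc : (Fintype.card (Kn (2 ^ k) →ₐ[ℚ] ℂ) : ℂ) ≠ 0 := by
    exact_mod_cast (card_alg_pos (2 ^ k)).ne'
  -- the order of `η`
  have hdvd : orderOf η ∣ 2 ^ k := orderOf_dvd_of_pow_eq_one hη
  obtain ⟨j, hjk, hj⟩ := (Nat.dvd_prime_pow Nat.prime_two).mp hdvd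
  have hj0 : j ≠ 0 := by
    rintro rfl
    apply h1
    rw [pow_zero] at hj
    exact orderOf_eq_one_iff.mp hj
  obtain ⟨i, rfl⟩ : ∃ i, j = i + 1 := ⟨j - 1, by omega⟩
  have hi0 : i ≠ 0 := by
    rintro rfl
    apply h2
    have h3 : η ^ 2 = 1 := by
      have := pow_orderOf_eq_one η
      rw [hj] at this
      simpa using this
    rcases (mul_self_eq_one_iff (a := η)).mp (by rw [← sq]; exact h3) with h | h
    · exact absurd h h1
    · exact h
  -- the square root of one
  have hroot : η ^ 2 ^ i = -1 := by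
    have h3 : (η ^ 2 ^ i) ^ 2 = 1 := by
      rw [← pow_mul, ← pow_succ, ← hj, pow_orderOf_eq_one]
    have h4 : η ^ 2 ^ i ≠ 1 := by
      intro h5
      have h6 := orderOf_dvd_of_pow_eq_one h5
      rw [hj] at h6
      have := Nat.le_of_dvd (by positivity) h6
      have h7 : 2 ^ i < 2 ^ (i + 1) := Nat.pow_lt_pow_right (by norm_num) (by omega)
      omega
    rcases (mul_self_eq_one_iff (a := η ^ 2 ^ i)).mp (by rw [← sq]; exact h3) with h | h
    · exact absurd h h4
    · exact h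
  -- the automorphism
  have hu : (1 + 2 ^ i).Coprime (2 ^ k) := by
    apply Nat.Coprime.pow_right
    obtain ⟨i', rfl⟩ : ∃ i', i = i' + 1 := ⟨i - 1, by omega⟩
    refine ((Nat.Prime.coprime_iff_not_dvd Nat.prime_two).mpr ?_).symm
    rw [pow_succ]
    omega
  exact avg_eq_zero_of_aut (2 ^ k) hη hu (by rw [pow_add, pow_one, hroot]; ring)

/-- The parity of a symmetric sum is that of its diagonal. -/
theorem two_dvd_sum_sub_diag {β : Type*} [Fintype β] (c : β → β → ℤ) (hc : ∀ a b, c a b = c b a) :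
    (2 : ℤ) ∣ ∑ a, ∑ b, c a b - ∑ a, c a a := by
  classical
  suffices hz : ((∑ a, ∑ b, c a b - ∑ a, c a a : ℤ) : ZMod 2) = 0 by
    exact_mod_cast (ZMod.intCast_zmod_eq_zero_iff_dvd _ 2).mp hz
  push_cast
  rw [sub_eq_zero, ← Finset.sum_product']
  have h : ∑ a ∈ (Finset.univ : Finset β) ×ˢ (Finset.univ : Finset β), ((c a.1 a.2 : ℤ) : ZMod 2) =
      ∑ a ∈ ((Finset.univ : Finset β) ×ˢ (Finset.univ : Finset β)).filter (fun a => a.1 = a.2),
        ((c a.1 a.2 : ℤ) : ZMod 2) +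
      ∑ a ∈ ((Finset.univ : Finset β) ×ˢ (Finset.univ : Finset β)).filter (fun a => ¬ a.1 = a.2),
        ((c a.1 a.2 : ℤ) : ZMod 2) := (Finset.sum_filter_add_sum_filter_not _ _ _).symm
  rw [h]
  have h2 : ∑ a ∈ ((Finset.univ : Finset β) ×ˢ (Finset.univ : Finset β)).filter (fun a => ¬ a.1 = a.2),
      ((c a.1 a.2 : ℤ) : ZMod 2) = 0 := by
    refine Finset.sum_involution (fun a _ => (a.2, a.1)) ?_ ?_ ?_ ?_
    · intro a _
      simp only
      rw [hc a.2 a.1]
      have : ∀ z : ZMod 2, z + z = 0 := by decide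
      exact this _
    · intro a ha _ h3
      simp only [Finset.mem_filter] at ha
      apply ha.2
      exact (Prod.ext_iff.mp h3).1.symm
    · intro a ha
      simp only [Finset.mem_filter, Finset.mem_product, Finset.mem_univ, and_self, true_and] at ha ⊢
      exact fun h4 => ha h4.symm
    · intro a _
      rfl
  rw [h2, add_zero]
  refine Finset.sum_bij (fun a _ => a.1) ?_ ?_ ?_ ?_
  · intro a _
    exact Finset.mem_univ _
  · intro a ha a' ha' h3
    simp only [Finset.mem_filter, Finset.mem_product, Finset.mem_univ, and_self, true_and] at ha ha'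
    exact Prod.ext h3 (by rw [← ha, ← ha', h3])
  · intro b _
    exact ⟨(b, b), by simp, rfl⟩
  · intro a ha
    simp only [Finset.mem_filter, Finset.mem_product, Finset.mem_univ, and_self, true_and] at ha
    rw [← ha]

/-- The integer average of a root of unity. -/
noncomputable def avgI (η : ℂ) : ℤ := by
  classical exact if η = 1 then 1 else if η = -1 then -1 else 0

theorem avg_eq_avgI {η : ℂ} (hη : η ^ 2 ^ k = 1) : avg (2 ^ k) η = avgI η := by
  classical
  rw [avg_root hη, avgI]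
  split_ifs <;> simp

theorem avgI_inv (η : ℂ) : avgI η⁻¹ = avgI η := by
  classical
  simp only [avgI]
  have h1 : η⁻¹ = 1 ↔ η = 1 := inv_eq_one
  have h2 : η⁻¹ = -1 ↔ η = -1 := by
    rw [inv_eq_iff_eq_inv, inv_neg, inv_one]
  simp only [h1, h2]

theorem avg_intCast_mul (r : ℕ) [NeZero r] (n : ℤ) {z : ℂ} (hz : z ∈ Kn r) :
    avg r ((n : ℂ) * z) = n * avg r z := by
  simp only [avg, sig_mul _ (intCast_mem _ n) hz, sig_intCast]
  rw [← Finset.mul_sum]
  ring

/-- The average of a symmetric combination of quotients of roots of unity: an integer of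
the parity of the sum of the coefficients. -/
theorem avg_sym {β : Type*} [Fintype β] (N : β → β → ℤ) (hN : ∀ a b, N a b = N b a) (ε : β → ℂ)
    (hε : ∀ a, ε a ^ 2 ^ k = 1) :
    ∃ t : ℤ, avg (2 ^ k) (∑ a, ∑ b, (N a b : ℂ) * (ε a * conj (ε b))) = t ∧
      (2 : ℤ) ∣ t - ∑ a, ∑ b, N a b := by
  classical
  have hr : 2 ^ k ≠ 0 := pow_ne_zero _ two_ne_zero
  have hroot : ∀ a b, (ε a * conj (ε b)) ^ 2 ^ k = 1 := by
    intro a b
    rw [mul_pow, ← map_pow, hε, hε, map_one, one_mul]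
  have hZ : ∀ a b, (ε a * conj (ε b)) ∈ Kn (2 ^ k) := fun a b => mem_Kn_of_pow_eq_one hr (hroot a b)
  set T : β → β → ℤ := fun a b => avgI (ε a * conj (ε b)) with hT
  have hTs : ∀ a b, T a b = T b a := by
    intro a b
    simp only [hT]
    have h0 : ε a ≠ 0 := by
      intro h
      have := hε a
      rw [h, zero_pow hr] at this
      exact zero_ne_one this
    have h0' : ε b ≠ 0 := by
      intro h
      have := hε b
      rw [h, zero_pow hr] at this
      exact zero_ne_one this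
    rw [← avgI_inv (ε a * conj (ε b))]
    congr 1
    rw [conj_root_eq_inv hr (hε b), conj_root_eq_inv hr (hε a)]
    field_simp
  have hTd : ∀ a, T a a = 1 := by
    intro a
    simp only [hT]
    have h1 : ‖ε a‖ = 1 := Complex.norm_eq_one_of_pow_eq_one (hε a) hr
    have h2 : ε a * conj (ε a) = 1 := by
      rw [Complex.mul_conj, Complex.normSq_eq_norm_sq, h1]
      simp
    rw [h2, avgI, if_pos rfl]
  refine ⟨∑ a, ∑ b, N a b * T a b, ?_, ?_⟩
  · rw [avg_sum _ fun a _ => sum_mem fun b _ => mul_mem (intCast_mem _ _) (hZ a b)]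
    push_cast
    refine Fintype.sum_congr _ _ fun a => ?_
    rw [avg_sum _ fun b _ => mul_mem (intCast_mem _ _) (hZ a b)]
    refine Fintype.sum_congr _ _ fun b => ?_
    rw [avg_intCast_mul _ _ (hZ a b), avg_eq_avgI (hroot a b)]
  · have h1 := two_dvd_sum_sub_diag (fun a b => N a b * T a b)
      (fun a b => by rw [hN a b, hTs a b])
    have h2 := two_dvd_sum_sub_diag N hN
    have h3 : ∑ a, N a a * T a a = ∑ a, N a a :=
      Fintype.sum_congr _ _ fun a => by rw [hTd a, mul_one]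
    rw [h3] at h1
    have h4 := dvd_sub h1 h2
    rwa [sub_sub_sub_cancel_right] at h4

/-- The arithmetic of the bound. -/
theorem arith_bound {k₀ P l j₀ : ℕ} (hj : Odd j₀) (h1 : k₀ ≤ P * j₀) (h2 : k₀ * j₀ ≤ P * l) :
    (Odd (Nat.sqrt l) → k₀ ≤ Nat.sqrt l * P) ∧
      (¬ Odd (Nat.sqrt l) → (Nat.sqrt l + 1) * k₀ ≤ l * P) := by
  set s := Nat.sqrt l with hs
  have hs1 : s * s ≤ l := Nat.sqrt_le l
  have hs2 : l < (s + 1) * (s + 1) := Nat.lt_succ_sqrt l
  constructor
  · intro hodd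
    by_cases hjs : j₀ ≤ s
    · calc k₀ ≤ P * j₀ := h1
        _ ≤ P * s := Nat.mul_le_mul_left _ hjs
        _ = s * P := Nat.mul_comm _ _
    · have hj2 : s + 2 ≤ j₀ := by
        obtain ⟨a, ha⟩ := hj
        obtain ⟨b, hb⟩ := hodd
        omega
      have h3 : k₀ * (s + 2) ≤ (s * P) * (s + 2) := by
        calc k₀ * (s + 2) ≤ k₀ * j₀ := Nat.mul_le_mul_left _ hj2
          _ ≤ P * l := h2
          _ ≤ P * (s * (s + 2)) := Nat.mul_le_mul_left _ (by nlinarith)
          _ = (s * P) * (s + 2) := by ring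
      exact Nat.le_of_mul_le_mul_right h3 (by omega)
  · intro heven
    by_cases hjs : s + 1 ≤ j₀
    · calc (s + 1) * k₀ ≤ j₀ * k₀ := Nat.mul_le_mul_right _ hjs
        _ = k₀ * j₀ := Nat.mul_comm _ _
        _ ≤ P * l := h2
        _ = l * P := Nat.mul_comm _ _
    · have hs3 : Even s := Nat.not_odd_iff_even.mp heven
      have hj2 : j₀ + 1 ≤ s := by
        obtain ⟨a, ha⟩ := hj
        obtain ⟨b, hb⟩ := hs3
        omega
      calc (s + 1) * k₀ ≤ (s + 1) * (P * j₀) := Nat.mul_le_mul_left _ h1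
        _ ≤ (s + 1) * (P * (s - 1)) := Nat.mul_le_mul_left _ (Nat.mul_le_mul_left _ (by omega))
        _ = ((s + 1) * (s - 1)) * P := by ring
        _ ≤ l * P := Nat.mul_le_mul_right _ (by
            obtain ⟨u, hu⟩ : ∃ u, s = u + 1 := ⟨s - 1, by omega⟩
            rw [hu] at hs1 ⊢
            simp only [Nat.add_sub_cancel]
            nlinarith)

end Cfsg.Agent.Lib.Contrib.Cyc
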