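import Mathlib
import Cfsg.Agent.Lib.Contrib.Sec
import Cfsg.Agent.Lib.Contrib.Cyc2

/-!
# Divisibility in the ring generated by the roots of unity of `p`-power order

* `div_pow_mem_Zr`: if `y ∈ Zr (p ^ k)` and `y / p ^ h` is a local integer, then `y / p ^ h ∈ Zr (p ^ k)`.
* `avg_real`: the Galois average of a real element `w` of `Zr (2 ^ k)` is an integer `t`,
  and `w ≡ t` modulo the local ideal.
-/

set_option linter.unusedSectionVars false
set_option autoImplicit false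
set_option linter.style.haveILetI false

namespace Cfsg.Agent.Lib.Contrib.Cyc

open Cfsg
open Cfsg.Agent.Lib.Blocks.Local
open Cfsg.Agent.Lib.Char.Galois
open Cfsg.Agent.Lib.Contrib.Sec
open scoped ComplexConjugate

variable {M : Ideal AlgInt} {p k : ℕ}

theorem one_sub_pow_eq {ζ : ℂ} {r : ℕ} (hζ : ζ ∈ Zr r) (j : ℕ) :
    ∃ v ∈ Zr r, 1 - ζ ^ j = (1 - ζ) * v :=
  ⟨∑ i ∈ Finset.range j, ζ ^ i, sum_mem fun i _ => pow_mem hζ i, (mul_neg_geom_sum ζ j).symm⟩

/-- Everything is an integer modulo `1 - ζ`. -/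
theorem exists_int_add {ζ : ℂ} {r : ℕ} (hr : r ≠ 0) (hζ : IsPrimitiveRoot ζ r) {z : ℂ} (hz : z ∈ Zr r) :
    ∃ c : ℤ, ∃ z' ∈ Zr r, z = c + (1 - ζ) * z' := by
  have hζZ : ζ ∈ Zr r := root_mem_Zr hζ.pow_eq_one
  haveI : NeZero r := ⟨hr⟩
  induction hz using Subring.closure_induction with
  | mem x hx =>
    obtain ⟨j, -, rfl⟩ := hζ.eq_pow_of_pow_eq_one hx
    obtain ⟨v, hv, he⟩ := one_sub_pow_eq hζZ j
    refine ⟨1, -v, neg_mem hv, ?_⟩
    push_cast
    linear_combination -he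
  | zero => exact ⟨0, 0, zero_mem _, by simp⟩
  | one => exact ⟨1, 0, zero_mem _, by simp⟩
  | add x y _ _ h1 h2 =>
    obtain ⟨c, z', hz', rfl⟩ := h1
    obtain ⟨d, w', hw', rfl⟩ := h2
    refine ⟨c + d, z' + w', add_mem hz' hw', ?_⟩
    push_cast
    ring
  | neg x _ h1 =>
    obtain ⟨c, z', hz', rfl⟩ := h1
    refine ⟨-c, -z', neg_mem hz', ?_⟩
    push_cast
    ring
  | mul x y _ _ h1 h2 =>
    obtain ⟨c, z', hz', rfl⟩ := h1
    obtain ⟨d, w', hw', rfl⟩ := h2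
    refine ⟨c * d, (c : ℂ) * w' + (d : ℂ) * z' + (1 - ζ) * z' * w',
      add_mem (add_mem (mul_mem (intCast_mem_Zr c) hw') (mul_mem (intCast_mem_Zr d) hz'))
        (mul_mem (mul_mem (sub_mem (one_mem _) hζZ) hz') hw'), ?_⟩
    push_cast
    ring

variable [hpf : Fact p.Prime]

/-- The relation between `p` and `(1 - ζ) ^ φ`. -/
theorem exists_pow_relation {k : ℕ} {ζ : ℂ} (hζ : IsPrimitiveRoot ζ (p ^ (k + 1))) :
    ∃ u ∈ Zr (p ^ (k + 1)), ∃ u' ∈ Zr (p ^ (k + 1)),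
      (p : ℂ) = (1 - ζ) ^ Nat.totient (p ^ (k + 1)) * u ∧
      (1 - ζ) ^ Nat.totient (p ^ (k + 1)) = (p : ℂ) * u' := by
  classical
  have hp : p.Prime := Fact.out
  have hr : p ^ (k + 1) ≠ 0 := pow_ne_zero _ hp.ne_zero
  have hζZ : ζ ∈ Zr (p ^ (k + 1)) := root_mem_Zr hζ.pow_eq_one
  haveI : NeZero (p ^ (k + 1)) := ⟨hr⟩
  have h1 : (p : ℂ) = ∏ μ ∈ Polynomial.nthRootsFinset (p ^ (k + 1)) (1 : ℂ) |>.filter
      (fun μ => IsPrimitiveRoot μ (p ^ (k + 1))), (1 - μ) := by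
    have h2 := Polynomial.eval_one_cyclotomic_prime_pow (R := ℂ) (p := p) k
    rw [Polynomial.cyclotomic_eq_prod_X_sub_primitiveRoots hζ, Polynomial.eval_prod] at h2
    rw [← h2]
    exact Finset.prod_congr rfl fun μ _ => by simp
  set S := (Polynomial.nthRootsFinset (p ^ (k + 1)) (1 : ℂ)).filter
    (fun μ => IsPrimitiveRoot μ (p ^ (k + 1))) with hS
  have hScard : S.card = Nat.totient (p ^ (k + 1)) := by
    rw [← hζ.card_primitiveRoots]
    congr 1
  have hmem : ∀ μ ∈ S, IsPrimitiveRoot μ (p ^ (k + 1)) := fun μ hμ => (Finset.mem_filter.mp hμ).2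
  have h3 : ∀ μ : ℂ, ∃ v ∈ Zr (p ^ (k + 1)), μ ∈ S → 1 - μ = (1 - ζ) * v := by
    intro μ
    by_cases hμ : μ ∈ S
    · obtain ⟨j, -, rfl⟩ := hζ.eq_pow_of_pow_eq_one (hmem μ hμ).pow_eq_one
      obtain ⟨v, hv, he⟩ := one_sub_pow_eq hζZ j
      exact ⟨v, hv, fun _ => he⟩
    · exact ⟨0, zero_mem _, fun h => absurd h hμ⟩
  have h4 : ∀ μ : ℂ, ∃ v ∈ Zr (p ^ (k + 1)), μ ∈ S → 1 - ζ = (1 - μ) * v := by
    intro μ
    by_cases hμ : μ ∈ S
    · have hμ' := hmem μ hμ
      obtain ⟨j, -, hj⟩ := hμ'.eq_pow_of_pow_eq_one hζ.pow_eq_one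
      obtain ⟨v, hv, he⟩ := one_sub_pow_eq (root_mem_Zr hμ'.pow_eq_one) j
      exact ⟨v, hv, fun _ => by rw [← he, hj]⟩
    · exact ⟨0, zero_mem _, fun h => absurd h hμ⟩
  choose v hv hv' using h3
  choose w hw hw' using h4
  refine ⟨∏ μ ∈ S, v μ, prod_mem fun μ _ => hv μ, ∏ μ ∈ S, w μ, prod_mem fun μ _ => hw μ, ?_, ?_⟩
  · rw [h1, Finset.prod_congr rfl fun μ hμ => hv' μ hμ, Finset.prod_mul_distrib, Finset.prod_const,
      hScard]
  · rw [h1, ← Finset.prod_mul_distrib, ← hScard, ← Finset.prod_const]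
    exact Finset.prod_congr rfl fun μ hμ => hw' μ hμ

/-- Division by `p` when the order is divisible by `p`. -/
theorem div_mem_Zr_succ (hM : IsPModular p M) {k : ℕ} {y : ℂ} (hy : y ∈ Zr (p ^ (k + 1)))
    (hl : MemLocalRing M (y / p)) : y / p ∈ Zr (p ^ (k + 1)) := by
  classical
  haveI hMp := isPrime_of_pModular hM
  have hp : p.Prime := Fact.out
  have hr : p ^ (k + 1) ≠ 0 := pow_ne_zero _ hp.ne_zero
  have hpc : (p : ℂ) ≠ 0 := Nat.cast_ne_zero.mpr hp.ne_zero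
  obtain ⟨ζ, hζ⟩ : ∃ ζ : ℂ, IsPrimitiveRoot ζ (p ^ (k + 1)) :=
    ⟨_, Complex.isPrimitiveRoot_exp _ hr⟩
  have hζZ : ζ ∈ Zr (p ^ (k + 1)) := root_mem_Zr hζ.pow_eq_one
  obtain ⟨u, hu, u', hu', hpu, hpu'⟩ := exists_pow_relation hζ
  set l := 1 - ζ with hlam
  have hlZ : l ∈ Zr (p ^ (k + 1)) := sub_mem (one_mem _) hζZ
  have hl0 : l ≠ 0 := by
    rw [hlam, sub_ne_zero]
    exact (hζ.ne_one (Nat.one_lt_pow (by omega) hp.one_lt)).symm
  have hlM : MemLocalIdeal M l := by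
    have h1 := root_sub_one_mem hM hζ.pow_eq_one
    have h2 := memLocalIdeal_neg h1
    rw [hlam]
    convert h2 using 1
    ring
  set φ := Nat.totient (p ^ (k + 1)) with hφ
  have hul : MemLocalRing M u := memLocalRing_of_isIntegral (isIntegral_of_mem_Zr hr hu)
  have hstep : ∀ n, n ≤ φ → ∃ y' ∈ Zr (p ^ (k + 1)), y = l ^ n * y' := by
    intro n
    induction n with
    | zero => exact fun _ => ⟨y, hy, by simp⟩
    | succ n ih =>
      intro hn
      obtain ⟨y', hy', he⟩ := ih (by omega)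
      obtain ⟨c, z', hz', hc⟩ := exists_int_add hr hζ hy'
      -- `y'` is in the local ideal
      have h1 : y' = (y / p) * l ^ (φ - n) * u := by
        apply mul_left_cancel₀ (pow_ne_zero n hl0)
        have h2 : y = (y / p) * p := by field_simp
        have h3 : l ^ φ = l ^ n * l ^ (φ - n) := by
          rw [← pow_add]
          congr 1
          omega
        calc l ^ n * y' = y := he.symm
          _ = (y / p) * p := h2
          _ = (y / p) * (l ^ φ * u) := by rw [← hpu]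
          _ = _ := by rw [h3]; ring
      have h4 : MemLocalIdeal M y' := by
        rw [h1]
        refine memLocalIdeal_mul_right (memLocalIdeal_mul_left hl ?_) hul
        obtain ⟨s, hs⟩ : ∃ s, φ - n = s + 1 := ⟨φ - n - 1, by omega⟩
        rw [hs, pow_succ]
        exact memLocalIdeal_mul_left (memLocalRing_pow (memLocalRing_of_memLocalIdeal hlM) s) hlM
      have h5 : MemLocalIdeal M (c : ℂ) := by
        have h6 := memLocalIdeal_sub h4 (memLocalIdeal_mul_right hlM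
          (memLocalRing_of_isIntegral (isIntegral_of_mem_Zr hr hz')))
        have h7 : y' - l * z' = c := by
          rw [hc]
          ring
        rwa [h7] at h6
      obtain ⟨c', hc'⟩ := (intCast_memLocalIdeal_iff hM c).mp h5
      have h8 : φ = (φ - 1) + 1 := by omega
      refine ⟨l ^ (φ - 1) * u * c' + z', add_mem (mul_mem (mul_mem (pow_mem hlZ _) hu)
        (intCast_mem_Zr c')) hz', ?_⟩
      rw [he, hc, hc', pow_succ, mul_assoc]
      congr 1
      push_cast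
      rw [hpu]
      nth_rw 1 [h8]
      rw [pow_succ]
      ring
  obtain ⟨y', hy', he⟩ := hstep φ le_rfl
  have h9 : y / p = u' * y' := by
    rw [he, hpu']
    field_simp
  rw [h9]
  exact mul_mem hu' hy'

/-- Division by `p` in `Zr (p ^ k)`. -/
theorem div_mem_Zr (hM : IsPModular p M) {k : ℕ} {y : ℂ} (hy : y ∈ Zr (p ^ k))
    (hl : MemLocalRing M (y / p)) : y / p ∈ Zr (p ^ k) := by
  classical
  haveI hMp := isPrime_of_pModular hM
  have hp : p.Prime := Fact.out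
  have hpc : (p : ℂ) ≠ 0 := Nat.cast_ne_zero.mpr hp.ne_zero
  cases k with
  | succ k => exact div_mem_Zr_succ hM hy hl
  | zero =>
    -- the ring generated by the first roots of unity is the ring of integers
    have h0 : ∀ z ∈ Zr (p ^ 0), ∃ c : ℤ, z = c := by
      intro z hz
      induction hz using Subring.closure_induction with
      | mem x hx =>
        have hx' : x ^ p ^ 0 = 1 := hx
        refine ⟨1, ?_⟩
        simpa using hx'
      | zero => exact ⟨0, by simp⟩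
      | one => exact ⟨1, by simp⟩
      | add x y _ _ h1 h2 =>
        obtain ⟨c, rfl⟩ := h1
        obtain ⟨d, rfl⟩ := h2
        exact ⟨c + d, by push_cast; ring⟩
      | neg x _ h1 =>
        obtain ⟨c, rfl⟩ := h1
        exact ⟨-c, by push_cast; ring⟩
      | mul x y _ _ h1 h2 =>
        obtain ⟨c, rfl⟩ := h1
        obtain ⟨d, rfl⟩ := h2
        exact ⟨c * d, by push_cast; ring⟩
    obtain ⟨c, rfl⟩ := h0 y hy
    have h1 : MemLocalIdeal M (c : ℂ) := by
      have h2 := memLocalIdeal_mul_left hl (p_memLocalIdeal hM)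
      have h3 : (c : ℂ) / p * p = c := by field_simp
      rwa [h3] at h2
    obtain ⟨c', rfl⟩ := (intCast_memLocalIdeal_iff hM c).mp h1
    have h4 : (((p : ℤ) * c' : ℤ) : ℂ) / p = c' := by
      push_cast
      field_simp
    rw [h4]
    exact intCast_mem_Zr c'

/-- Division by powers of `p` in `Zr (p ^ k)`. -/
theorem div_pow_mem_Zr (hM : IsPModular p M) {k : ℕ} {y : ℂ} (hy : y ∈ Zr (p ^ k)) (h : ℕ)
    (hl : MemLocalRing M (y / ((p ^ h : ℕ) : ℂ))) : y / ((p ^ h : ℕ) : ℂ) ∈ Zr (p ^ k) := by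
  haveI hMp := isPrime_of_pModular hM
  have hp : p.Prime := Fact.out
  have hpc : (p : ℂ) ≠ 0 := Nat.cast_ne_zero.mpr hp.ne_zero
  induction h with
  | zero => simpa using hy
  | succ h ih =>
    have e : y / ((p ^ (h + 1) : ℕ) : ℂ) = (y / ((p ^ h : ℕ) : ℂ)) / p := by
      push_cast
      rw [pow_succ]
      field_simp
    rw [e] at hl ⊢
    refine div_mem_Zr hM (ih ?_) hl
    have h2 := memLocalRing_mul hl (memLocalRing_natCast (M := M) p)
    have h3 : y / ((p ^ h : ℕ) : ℂ) / p * p = y / ((p ^ h : ℕ) : ℂ) := by field_simp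
    rwa [h3] at h2

/-- The averaged norm of a multiple. -/
theorem nrm_natCast_mul {r : ℕ} [NeZero r] (n : ℕ) {z : ℂ} (hz : z ∈ Kn r) :
    nrm r ((n : ℂ) * z) = (n : ℝ) ^ 2 * nrm r z := by
  simp only [nrm, sig_mul _ (natCast_mem _ n) hz, sig_natCast, norm_mul, mul_pow, Complex.norm_natCast]
  rw [← Finset.mul_sum]
  ring

/-- A lower bound for the average norm from divisibility. -/
theorem pow_sq_le_nrm (hM : IsPModular p M) {k : ℕ} [NeZero (p ^ k)] {y : ℂ} (hy : y ∈ Zr (p ^ k)) (h : ℕ)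
    (hl : MemLocalRing M (y / ((p ^ h : ℕ) : ℂ))) (h0 : y ≠ 0) :
    ((p ^ h : ℕ) : ℝ) ^ 2 ≤ nrm (p ^ k) y := by
  have hp : p.Prime := Fact.out
  have hr : p ^ k ≠ 0 := pow_ne_zero _ hp.ne_zero
  have hpc : ((p ^ h : ℕ) : ℂ) ≠ 0 := Nat.cast_ne_zero.mpr (pow_ne_zero _ hp.ne_zero)
  have hw := div_pow_mem_Zr hM hy h hl
  have he : y = ((p ^ h : ℕ) : ℂ) * (y / ((p ^ h : ℕ) : ℂ)) := by field_simp
  have hw0 : y / ((p ^ h : ℕ) : ℂ) ≠ 0 := div_ne_zero h0 hpc
  have h1 := one_le_nrm hw hw0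
  rw [he, nrm_natCast_mul _ (mem_Kn_of_mem_Zr hr hw)]
  have h2 : (0 : ℝ) ≤ ((p ^ h : ℕ) : ℝ) ^ 2 := by positivity
  nlinarith

section TwoPower

omit hpf

/-- The additive description of `Zr r`. -/
theorem Zr_induction {r : ℕ} {P : ℂ → Prop} (hroot : ∀ η : ℂ, η ^ r = 1 → P η) (h0 : P 0)
    (hadd : ∀ x y, x ∈ Zr r → y ∈ Zr r → P x → P y → P (x + y))
    (hneg : ∀ x, x ∈ Zr r → P x → P (-x)) {z : ℂ} (hz : z ∈ Zr r) : P z := by
  have h1 : z ∈ AddSubgroup.closure (Submonoid.closure {η : ℂ | η ^ r = 1} : Set ℂ) :=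
    Subring.mem_closure_iff.mp hz
  clear hz
  have h2 : (Submonoid.closure {η : ℂ | η ^ r = 1} : Set ℂ) = {η : ℂ | η ^ r = 1} := by
    apply Set.Subset.antisymm
    · intro η hη
      induction hη using Submonoid.closure_induction with
      | mem x hx => exact hx
      | one => simp
      | mul x y _ _ h3 h4 =>
        change x ^ r = 1 at h3
        change y ^ r = 1 at h4
        change (x * y) ^ r = 1
        rw [mul_pow, h3, h4, one_mul]
    · exact Submonoid.subset_closure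
  rw [h2] at h1
  have hle : AddSubgroup.closure {η : ℂ | η ^ r = 1} ≤ (Zr r).toAddSubgroup :=
    (AddSubgroup.closure_le _).mpr fun η hη => root_mem_Zr hη
  induction h1 using AddSubgroup.closure_induction with
  | mem x hx => exact hroot x hx
  | zero => exact h0
  | add x y hx hy h3 h4 => exact hadd x y (hle hx) (hle hy) h3 h4
  | neg x hx h3 => exact hneg x (hle hx) h3

variable {k : ℕ}

theorem avg_conj {z : ℂ} (hz : z ∈ Zr (2 ^ k)) : avg (2 ^ k) (conj z) = avg (2 ^ k) z := by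
  have hr : 2 ^ k ≠ 0 := pow_ne_zero _ two_ne_zero
  refine Zr_induction (P := fun z => avg (2 ^ k) (conj z) = avg (2 ^ k) z) ?_ ?_ ?_ ?_ hz
  · intro η hη
    rw [conj_root_eq_inv hr hη, avg_eq_avgI hη, avg_eq_avgI (by rw [inv_pow, hη, inv_one]), avgI_inv]
  · simp
  · intro x y hx hy h1 h2
    rw [map_add, avg_add (mem_Kn_of_mem_Zr hr (conj_mem_Zr hr hx))
      (mem_Kn_of_mem_Zr hr (conj_mem_Zr hr hy)), h1, h2,
      avg_add (mem_Kn_of_mem_Zr hr hx) (mem_Kn_of_mem_Zr hr hy)]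
  · intro x hx h1
    have h3 : ∀ y ∈ Zr (2 ^ k), avg (2 ^ k) (-y) = - avg (2 ^ k) y := by
      intro y hy
      have := avg_intCast_mul (2 ^ k) (-1) (mem_Kn_of_mem_Zr hr hy)
      simpa using this
    rw [map_neg, h3 _ (conj_mem_Zr hr hx), h1, h3 _ hx]

theorem avg_neg {y : ℂ} (hy : y ∈ Zr (2 ^ k)) : avg (2 ^ k) (-y) = - avg (2 ^ k) y := by
  have hr : 2 ^ k ≠ 0 := pow_ne_zero _ two_ne_zero
  have := avg_intCast_mul (2 ^ k) (-1) (mem_Kn_of_mem_Zr hr hy)
  simpa using this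

/-- The average of the quotient of two low powers of a primitive root. -/
theorem avg_zeta_pow {ζ : ℂ} (hζ : IsPrimitiveRoot ζ (2 ^ (k + 1))) (hm : ζ ^ 2 ^ k = -1) {i j : ℕ}
    (hi : i < 2 ^ k) (hj : j < 2 ^ k) :
    avg (2 ^ (k + 1)) (ζ ^ j * (ζ⁻¹) ^ i) = if i = j then 1 else 0 := by
  have hζ0 : ζ ≠ 0 := hζ.ne_zero (by positivity)
  have hroot : (ζ ^ j * (ζ⁻¹) ^ i) ^ 2 ^ (k + 1) = 1 := by
    rw [mul_pow, ← pow_mul, ← pow_mul, mul_comm j, mul_comm i, pow_mul ζ, pow_mul ζ⁻¹, inv_pow,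
      hζ.pow_eq_one, one_pow, inv_one, one_pow, one_mul]
  rw [avg_eq_avgI hroot]
  have he : ζ ^ j * (ζ⁻¹) ^ i = ζ ^ ((j : ℤ) - i) := by
    rw [zpow_sub₀ hζ0, zpow_natCast, zpow_natCast, inv_pow]
    rfl
  by_cases hij : i = j
  · subst hij
    rw [if_pos rfl, he, sub_self, zpow_zero, avgI, if_pos rfl]
    simp
  · rw [if_neg hij]
    have hN : ((2 ^ (k + 1) : ℕ) : ℤ) = 2 * ((2 ^ k : ℕ) : ℤ) := by
      push_cast
      ring
    have hi' : (i : ℤ) < ((2 ^ k : ℕ) : ℤ) := by exact_mod_cast hi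
    have hj' : (j : ℤ) < ((2 ^ k : ℕ) : ℤ) := by exact_mod_cast hj
    have h1 : ζ ^ ((j : ℤ) - i) ≠ 1 := by
      intro h
      have h2 := (hζ.zpow_eq_one_iff_dvd _).mp h
      have h3 := Int.eq_zero_of_abs_lt_dvd h2 (by rw [hN, abs_lt]; constructor <;> omega)
      omega
    have h4 : ζ ^ ((j : ℤ) - i) ≠ -1 := by
      intro h
      have h5 : ζ ^ ((j : ℤ) - i - ((2 ^ k : ℕ) : ℤ)) = 1 := by
        rw [zpow_sub₀ hζ0, h, zpow_natCast, hm]
        simp
      have h6 := (hζ.zpow_eq_one_iff_dvd _).mp h5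
      have h7 := Int.eq_zero_of_abs_lt_dvd h6 (by rw [hN, abs_lt]; constructor <;> omega)
      omega
    rw [he, avgI, if_neg h1, if_neg h4]
    simp

/-- The expansion in powers of a primitive root, with coefficients the averages. -/
theorem exists_expansion {ζ : ℂ} (hζ : IsPrimitiveRoot ζ (2 ^ (k + 1))) (hm : ζ ^ 2 ^ k = -1) {z : ℂ}
    (hz : z ∈ Zr (2 ^ (k + 1))) :
    ∃ c : ℕ → ℤ, z = ∑ i ∈ Finset.range (2 ^ k), (c i : ℂ) * ζ ^ i ∧
      ∀ i, i < 2 ^ k → avg (2 ^ (k + 1)) (z * (ζ⁻¹) ^ i) = c i := by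
  have hr : 2 ^ (k + 1) ≠ 0 := pow_ne_zero _ two_ne_zero
  have hζi : ∀ i, (ζ⁻¹) ^ i ∈ Zr (2 ^ (k + 1)) := by
    intro i
    apply root_mem_Zr
    rw [← pow_mul, mul_comm, pow_mul, inv_pow, hζ.pow_eq_one, inv_one, one_pow]
  have hlow : ∀ j, j < 2 ^ k → ∃ c : ℕ → ℤ, ζ ^ j = ∑ i ∈ Finset.range (2 ^ k), (c i : ℂ) * ζ ^ i ∧
      ∀ i, i < 2 ^ k → avg (2 ^ (k + 1)) (ζ ^ j * (ζ⁻¹) ^ i) = c i := by
    intro j hj
    refine ⟨fun i => if i = j then 1 else 0, ?_, ?_⟩
    · rw [Finset.sum_eq_single j]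
      · simp
      · intro b _ hb
        simp [hb]
      · intro h
        exact absurd (Finset.mem_range.mpr hj) h
    · intro i hi
      rw [avg_zeta_pow hζ hm hi hj]
      by_cases h : i = j <;> simp [h]
  have hnegQ : ∀ x, x ∈ Zr (2 ^ (k + 1)) → (∃ c : ℕ → ℤ, x = ∑ i ∈ Finset.range (2 ^ k), (c i : ℂ) * ζ ^ i ∧
      ∀ i, i < 2 ^ k → avg (2 ^ (k + 1)) (x * (ζ⁻¹) ^ i) = c i) →
      (∃ c : ℕ → ℤ, -x = ∑ i ∈ Finset.range (2 ^ k), (c i : ℂ) * ζ ^ i ∧
      ∀ i, i < 2 ^ k → avg (2 ^ (k + 1)) (-x * (ζ⁻¹) ^ i) = c i) := by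
    rintro x hx ⟨c, hc, hc'⟩
    refine ⟨fun i => -c i, ?_, ?_⟩
    · rw [hc, ← Finset.sum_neg_distrib]
      refine Finset.sum_congr rfl fun i _ => ?_
      push_cast
      ring
    · intro i hi
      rw [neg_mul, avg_neg (mul_mem hx (hζi i)), hc' i hi]
      push_cast
      rfl
  refine Zr_induction (P := fun z => ∃ c : ℕ → ℤ, z = ∑ i ∈ Finset.range (2 ^ k), (c i : ℂ) * ζ ^ i ∧
      ∀ i, i < 2 ^ k → avg (2 ^ (k + 1)) (z * (ζ⁻¹) ^ i) = c i) ?_ ?_ ?_ hnegQ hz
  · intro η hη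
    obtain ⟨j, hj, rfl⟩ := hζ.eq_pow_of_pow_eq_one hη
    by_cases hjk : j < 2 ^ k
    · exact hlow j hjk
    · have hj2 : j - 2 ^ k < 2 ^ k := by
        rw [pow_succ] at hj
        omega
      have e : ζ ^ j = -(ζ ^ (j - 2 ^ k)) := by
        have : j = (j - 2 ^ k) + 2 ^ k := by omega
        nth_rw 1 [this]
        rw [pow_add, hm]
        ring
      rw [e]
      exact hnegQ _ (root_mem_Zr (by rw [← pow_mul, mul_comm, pow_mul, hζ.pow_eq_one, one_pow]))
        (hlow _ hj2)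
  · refine ⟨fun _ => 0, by simp, fun i _ => ?_⟩
    have := avg_natCast (r := 2 ^ (k + 1)) 0
    simpa using this
  · intro x y hx hy h1 h2
    obtain ⟨c, hc, hc'⟩ := h1
    obtain ⟨d, hd, hd'⟩ := h2
    refine ⟨fun i => c i + d i, ?_, ?_⟩
    · conv_lhs => rw [hc, hd]
      rw [← Finset.sum_add_distrib]
      refine Finset.sum_congr rfl fun i _ => ?_
      push_cast
      ring
    · intro i hi
      rw [add_mul, avg_add (mem_Kn_of_mem_Zr hr (mul_mem hx (hζi i)))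
        (mem_Kn_of_mem_Zr hr (mul_mem hy (hζi i))), hc' i hi, hd' i hi]
      push_cast
      rfl

end TwoPower

/-- The average of a real element of `Zr (2 ^ k)` is an integer congruent to it. -/
theorem avg_real (hM : IsPModular 2 M) {k : ℕ} {w : ℂ} (hw : w ∈ Zr (2 ^ k)) (hreal : conj w = w) :
    ∃ t : ℤ, avg (2 ^ k) w = t ∧ MemLocalIdeal M (w - t) := by
  classical
  haveI hMp := isPrime_of_pModular hM
  cases k with
  | zero =>
    have h0 : ∀ z ∈ Zr (2 ^ 0), ∃ c : ℤ, z = c := by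
      intro z hz
      refine Zr_induction (P := fun z => ∃ c : ℤ, z = c) ?_ ?_ ?_ ?_ hz
      · intro η hη
        refine ⟨1, ?_⟩
        simpa using hη
      · exact ⟨0, by simp⟩
      · intro x y _ _ h1 h2
        obtain ⟨c, rfl⟩ := h1
        obtain ⟨d, rfl⟩ := h2
        exact ⟨c + d, by push_cast; ring⟩
      · intro x _ h1
        obtain ⟨c, rfl⟩ := h1
        exact ⟨-c, by push_cast; ring⟩
    obtain ⟨c, rfl⟩ := h0 w hw
    refine ⟨c, ?_, by simpa using memLocalIdeal_zero⟩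
    have := avg_intCast_mul (2 ^ 0) c (z := 1) (one_mem _)
    rw [mul_one, avg_one, mul_one] at this
    exact this
  | succ k =>
    have hr : 2 ^ (k + 1) ≠ 0 := pow_ne_zero _ two_ne_zero
    obtain ⟨ζ, hζ⟩ : ∃ ζ : ℂ, IsPrimitiveRoot ζ (2 ^ (k + 1)) :=
      ⟨_, Complex.isPrimitiveRoot_exp _ hr⟩
    have hζ0 : ζ ≠ 0 := hζ.ne_zero hr
    have hm : ζ ^ 2 ^ k = -1 := by
      have h3 : (ζ ^ 2 ^ k) ^ 2 = 1 := by
        rw [← pow_mul, ← pow_succ, hζ.pow_eq_one]
      have h4 : ζ ^ 2 ^ k ≠ 1 := by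
        intro h5
        have h6 := hζ.dvd_of_pow_eq_one _ h5
        have := Nat.le_of_dvd (by positivity) h6
        have h7 : 2 ^ k < 2 ^ (k + 1) := Nat.pow_lt_pow_right (by norm_num) (by omega)
        omega
      rcases (mul_self_eq_one_iff (a := ζ ^ 2 ^ k)).mp (by rw [← sq]; exact h3) with h | h
      · exact absurd h h4
      · exact h
    obtain ⟨c, hc, hc'⟩ := exists_expansion hζ hm hw
    -- antisymmetry
    have hconjζ : ∀ i : ℕ, conj (ζ ^ i) = (ζ⁻¹) ^ i := by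
      intro i
      rw [map_pow, conj_root_eq_inv hr hζ.pow_eq_one]
    have hζi : ∀ i, ζ ^ i ∈ Zr (2 ^ (k + 1)) := fun i => pow_mem (root_mem_Zr hζ.pow_eq_one) i
    have hanti : ∀ i, 0 < i → i < 2 ^ k → c (2 ^ k - i) = - c i := by
      intro i hi0 hi
      have h1 := hc' (2 ^ k - i) (by omega)
      have h2 := hc' i hi
      have e : w * (ζ⁻¹) ^ (2 ^ k - i) = -(w * ζ ^ i) := by
        have h3 : (ζ⁻¹) ^ (2 ^ k - i) = -(ζ ^ i) := by
          have h4 : ζ ^ (2 ^ k - i) * ζ ^ i = -1 := by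
            rw [← pow_add, Nat.sub_add_cancel hi.le, hm]
          rw [inv_pow]
          have hne : ζ ^ (2 ^ k - i) ≠ 0 := pow_ne_zero _ hζ0
          calc (ζ ^ (2 ^ k - i))⁻¹ = (ζ ^ (2 ^ k - i))⁻¹ * (-(ζ ^ (2 ^ k - i) * ζ ^ i)) := by
                rw [h4]
                simp
            _ = -(ζ ^ i) := by
                field_simp
        rw [h3]
        ring
      rw [e, avg_neg (mul_mem hw (hζi i))] at h1
      have h5 : avg (2 ^ (k + 1)) (w * ζ ^ i) = avg (2 ^ (k + 1)) (w * (ζ⁻¹) ^ i) := by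
        rw [← avg_conj (mul_mem hw (hζi i)), map_mul, hreal, hconjζ]
      rw [h5, h2] at h1
      have h6 : -(c i : ℂ) = c (2 ^ k - i) := h1
      exact_mod_cast h6.symm
    -- the sum of the coefficients
    have hpos : 0 < 2 ^ k := by positivity
    obtain ⟨n, hn⟩ : ∃ n, 2 ^ k = n + 1 := ⟨2 ^ k - 1, by omega⟩
    have hsum : ∑ i ∈ Finset.range (n + 1), c i = c 0 := by
      rw [Finset.sum_range_succ']
      have h1 : ∑ i ∈ Finset.range n, c (i + 1) = 0 := by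
        have h2 := Finset.sum_range_reflect (fun i => c (i + 1)) n
        have h3 : ∑ i ∈ Finset.range n, c (n - 1 - i + 1) = - ∑ i ∈ Finset.range n, c (i + 1) := by
          rw [← Finset.sum_neg_distrib]
          refine Finset.sum_congr rfl fun i hi => ?_
          have hi' := Finset.mem_range.mp hi
          have e : n - 1 - i + 1 = 2 ^ k - (i + 1) := by omega
          rw [e, hanti (i + 1) (by omega) (by omega)]
        rw [h3] at h2
        omega
      rw [h1, zero_add]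
    refine ⟨c 0, ?_, ?_⟩
    · have := hc' 0 (by omega)
      simpa using this
    · have h1 : w - (c 0 : ℂ) = ∑ i ∈ Finset.range (2 ^ k), (c i : ℂ) * (ζ ^ i - 1) := by
        have h2 : ((∑ i ∈ Finset.range (2 ^ k), c i : ℤ) : ℂ) = c 0 := by
          rw [hn, hsum]
        rw [← h2]
        push_cast
        nth_rw 1 [hc]
        rw [← Finset.sum_sub_distrib]
        refine Finset.sum_congr rfl fun i _ => ?_
        ring
      rw [h1]
      refine memLocalIdeal_sum _ _ fun i _ => memLocalIdeal_mul_left (memLocalRing_intCast _) ?_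
      refine root_sub_one_mem hM (k := k + 1) ?_
      rw [← pow_mul, mul_comm, pow_mul, hζ.pow_eq_one, one_pow]

end Cfsg.Agent.Lib.Contrib.Cyc
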