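import Mathlib
import Cfsg.Agent.Lib.Contrib.Cyc3

/-!
# Major subsections: the valuations of the contribution numbers

For a block `b` of the centralizer `C` of a `p`-element `x` inducing `B`, with the same defect:
`m χ ψ / p ^ h(ψ)` is a unit of the local ring for `χ` of height `0` and every `ψ ∈ B`; and
`m ψ ψ / p ^ h(ψ)` lies in the local ideal for `h(ψ) ≥ 1`.
-/

set_option linter.unusedSectionVars false
set_option autoImplicit false
set_option linter.style.haveILetI false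

namespace Cfsg.Agent.Lib.Contrib.Major

open Cfsg MonoidAlgebra
open Cfsg.Agent.Lib.Blocks.Local Cfsg.Agent.Lib.Blocks.Central
open Cfsg.Agent.Lib.BlockH.Regular Cfsg.Agent.Lib.BlockP.Defect Cfsg.Agent.Lib.BlockH.MaxPair
open Cfsg.Agent.Lib.Char.Ortho
open Cfsg.Agent.Lib.Contrib.Proj Cfsg.Agent.Lib.Contrib.Cyc Cfsg.Agent.Lib.Contrib.Family
open Cfsg.Agent.Lib.Contrib.Section Cfsg.Agent.Lib.Contrib.Sec
open scoped ComplexConjugate

universe u

variable {G : Type u} [Group G] [Fintype G] [Fintype (IrrCharacter G)] {p : ℕ} {M : Ideal AlgInt}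
  {x : G} [hMp : M.IsPrime]
  [Fintype (Subgroup.centralizer ({x} : Set G))] [Fintype (IrrCharacter (Subgroup.centralizer ({x} : Set G)))]

set_option quotPrecheck false in
local notation "C" => Subgroup.centralizer (Singleton.singleton x : Set G)

/-- The central element of the group ring of `G` attached to a class function on the centralizer. -/
theorem exists_central (f : Subgroup.centralizer ({x} : Set G) → ℂ)
    (hf : IsClassFunction (Subgroup.centralizer ({x} : Set G)) f) (hl : ∀ c, MemLocalRing M (f c)) :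
    ∃ Z : Subalgebra.center ℂ (GA G), Z ∈ localCenter M G ∧ ∀ ψ : IrrCharacter G,
      (ψ : G → ℂ) 1 * omegaHom ψ Z = (Nat.card G : ℂ) * classInner f (vt x ψ) := by
  classical
  letI : Fintype (G ⧸ C) := Fintype.ofFinite _
  have hxc : ∀ t ∈ C, t * x = x * t := fun t ht => Subgroup.mem_centralizer_singleton_iff.mp ht
  set β : G → ℂ := fun g => if h : x⁻¹ * g⁻¹ ∈ C then f ⟨x⁻¹ * g⁻¹, h⟩ else 0 with hβ
  have hβinv : ∀ t ∈ C, ∀ g, β (t * g * t⁻¹) = β g := by
    intro t ht g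
    have he : x⁻¹ * (t * g * t⁻¹)⁻¹ = t * (x⁻¹ * g⁻¹) * t⁻¹ := by
      have h1 : x⁻¹ * t = t * x⁻¹ := by
        have := hxc t ht
        calc x⁻¹ * t = x⁻¹ * (t * x) * x⁻¹ := by group
          _ = x⁻¹ * (x * t) * x⁻¹ := by rw [this]
          _ = t * x⁻¹ := by group
      calc x⁻¹ * (t * g * t⁻¹)⁻¹ = (x⁻¹ * t) * g⁻¹ * t⁻¹ := by group
        _ = (t * x⁻¹) * g⁻¹ * t⁻¹ := by rw [h1]
        _ = _ := by group
    simp only [hβ]
    by_cases hy : x⁻¹ * g⁻¹ ∈ C
    · have hy' : x⁻¹ * (t * g * t⁻¹)⁻¹ ∈ C := by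
        rw [he]
        exact Subgroup.mul_mem _ (Subgroup.mul_mem _ ht hy) (Subgroup.inv_mem _ ht)
      rw [dif_pos hy, dif_pos hy']
      have h2 := hf ⟨x⁻¹ * g⁻¹, hy⟩ ⟨t, ht⟩
      rw [← h2]
      congr 1
      exact Subtype.ext he
    · have hy' : x⁻¹ * (t * g * t⁻¹)⁻¹ ∉ C := by
        rw [he]
        intro h3
        apply hy
        have h4 := Subgroup.mul_mem _ (Subgroup.mul_mem _ (Subgroup.inv_mem _ ht) h3) ht
        simpa [mul_assoc] using h4
      rw [dif_neg hy, dif_neg hy']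
  have hβl : ∀ g, MemLocalRing M (β g) := by
    intro g
    simp only [hβ]
    split_ifs
    · exact hl _
    · exact memLocalRing_zero
  refine ⟨⟨relTr C β, (mem_center_iff _).mpr (isCentral_relTr hβinv)⟩, rc_relTr hβl, fun ψ => ?_⟩
  have hne := Cfsg.Agent.Lib.Char.Complete.irr_one_ne_zero ψ.2
  rw [omegaHom_apply, mul_div_assoc', mul_comm, mul_div_assoc, div_self hne, mul_one]
  have h1 := lin_central_mul_relTr (Cfsg.Agent.Lib.Char.Basic.isClassFunction_of_isIrrCharacter ψ.2)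
    (y := 1) (isCentral_of_mem (1 : Subalgebra.center ℂ (GA G))) (D := C) (β := β)
  rw [one_mul, one_mul] at h1
  change lin (ψ : G → ℂ) (relTr C β) = _
  rw [h1, lin_apply]
  -- the sum over the centralizer
  have h2 : ∑ g : G, (ofFun β).coeff g * (ψ : G → ℂ) g =
      ∑ c : C, f c * conj ((ψ : G → ℂ) (x * (c : G))) := by
    have hψinv : ∀ u : G, (ψ : G → ℂ) (x * u)⁻¹ = conj ((ψ : G → ℂ) (x * u)) := fun u =>
      char_inv_eq_conj (Cfsg.Agent.Lib.Char.Basic.isCharacter_of_isIrrCharacter ψ.2) _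
    let e : G ≃ G := (Equiv.mulLeft x).trans (Equiv.inv G)
    have h3 : ∑ g : G, (ofFun β).coeff g * (ψ : G → ℂ) g =
        ∑ u : G, (if h : u ∈ C then f ⟨u, h⟩ else 0) * conj ((ψ : G → ℂ) (x * u)) := by
      symm
      refine Fintype.sum_equiv e _ _ fun u => ?_
      have he : e u = (x * u)⁻¹ := rfl
      rw [coeff_ofFun, he, hψinv]
      congr 1
      simp only [hβ]
      have h4 : x⁻¹ * ((x * u)⁻¹)⁻¹ = u := by group
      simp only [h4]
    rw [h3]
    have h5 : ∑ u ∈ Finset.univ.filter (· ∈ C), (if h : u ∈ C then f ⟨u, h⟩ else 0) *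
        conj ((ψ : G → ℂ) (x * u)) = ∑ c : C, (if h : (c : G) ∈ C then f ⟨c, h⟩ else 0) *
        conj ((ψ : G → ℂ) (x * (c : G))) :=
      Finset.sum_subtype _ (fun u => by simp) _
    have h6 : ∑ u ∈ Finset.univ.filter (· ∈ C), (if h : u ∈ C then f ⟨u, h⟩ else 0) *
        conj ((ψ : G → ℂ) (x * u)) = ∑ u : G, (if h : u ∈ C then f ⟨u, h⟩ else 0) *
        conj ((ψ : G → ℂ) (x * u)) := by
      apply Finset.sum_filter_of_ne
      intro u _ hu
      by_contra h7
      apply hu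
      rw [dif_neg h7, zero_mul]
    rw [← h6, h5]
    refine Fintype.sum_congr _ _ fun c => ?_
    rw [dif_pos c.2]
  rw [h2, classInner_def]
  have hC0 : (Nat.card C : ℂ) ≠ 0 := Nat.cast_ne_zero.mpr Nat.card_pos.ne'
  have hcard : (Nat.card G : ℂ) = (Nat.card C : ℂ) * ((C).index : ℂ) := by
    rw [← Nat.cast_mul, Subgroup.card_mul_index]
  rw [hcard]
  have h7 : ∑ c : C, f c * conj (vt x ψ c) = ∑ c : C, f c * conj ((ψ : G → ℂ) (x * (c : G))) := rfl
  rw [h7]
  field_simp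

theorem isClassFunction_vt (ψ : IrrCharacter G) :
    IsClassFunction (Subgroup.centralizer ({x} : Set G)) (vt x ψ) := by
  have hrc := Cfsg.Agent.Lib.Char.Basic.isCharacter_restrict (Subgroup.centralizer ({x} : Set G))
    (Cfsg.Agent.Lib.Char.Basic.isCharacter_of_isIrrCharacter ψ.2)
  exact isClassFunction_shift (φ := fun h : Subgroup.centralizer ({x} : Set G) => (ψ : G → ℂ) h) hrc
    x_central

variable [Fact p.Prime]

theorem memLocalRing_classInner_vt (hM : IsPModular p M) {k : ℕ} (hk : orderOf x = p ^ k)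
    (χ : IrrCharacter G) (ξ : IrrCharacter (Subgroup.centralizer ({x} : Set G))) :
    MemLocalRing M (classInner (vt x χ) (ξ : Subgroup.centralizer ({x} : Set G) → ℂ)) :=
  (conj_sub_mem_of_Zr hM (classInner_vt_mem_Zr hk χ ξ)).1

/-- The valuation formula. -/
theorem exists_omega (hM : IsPModular p M) {k : ℕ} (hk : orderOf x = p ^ k)
    {B : Set (IrrCharacter G)} {b : Set (IrrCharacter (Subgroup.centralizer ({x} : Set G)))}
    (hb : IsPBlock M b) (hbB : B.Nonempty) (hq : blockDefect p b = blockDefect p B) (χ : IrrCharacter G) :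
    ∃ Z : Subalgebra.center ℂ (GA G), Z ∈ localCenter M G ∧ ∀ ψ ∈ B,
      ∃ t : ℕ, ¬ p ∣ t ∧
      mm p x b χ ψ / ((p ^ blockHeight p B (ψ : G → ℂ) : ℕ) : ℂ) =
        (t : ℂ) * ((Nat.card G / p ^ (Nat.card G).factorization p : ℕ) : ℂ)⁻¹ * omegaHom ψ Z := by
  classical
  have hp : p.Prime := Fact.out
  have hl : ∀ c, MemLocalRing M (PP p b (vt x χ) c) :=
    memLocalRing_PP (memLocalRing_classInner_vt hM hk χ)
  obtain ⟨Z, hZ, hω⟩ := exists_central (M := M) (PP p b (vt x χ)) (isClassFunction_PP b _) hl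
  refine ⟨Z, hZ, fun ψ hψ => ?_⟩
  set deg := charDegree (ψ : G → ℂ) with hdeg
  have hdeg0 : deg ≠ 0 := Cfsg.Agent.Lib.Blocks.Heights.charDegree_ne_zero_irr ψ
  refine ⟨deg / p ^ deg.factorization p, Nat.not_dvd_ordCompl hp hdeg0, ?_⟩
  set t := deg / p ^ deg.factorization p with ht
  set e := minExp p B with he
  set h := blockHeight p B (ψ : G → ℂ) with hh
  have hfac : deg.factorization p = e + h := by
    have h1 : e ≤ deg.factorization p := minExp_le p hψ
    have h2 : h = deg.factorization p - e := rfl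
    omega
  have hψ1 : (ψ : G → ℂ) 1 = ((p ^ e : ℕ) : ℂ) * ((p ^ h : ℕ) : ℂ) * t := by
    rw [Cfsg.Agent.Lib.Blocks.Heights.irr_one_eq, ← Nat.cast_mul, ← Nat.cast_mul, ← pow_add, ← hfac,
      ht, Nat.ordProj_mul_ordCompl_eq_self]
  set a := (Nat.card G).factorization p with ha
  set w := Nat.card G / p ^ a with hw
  have hwp : ¬ p ∣ w := Nat.not_dvd_ordCompl hp Nat.card_pos.ne'
  have hw0 : (w : ℂ) ≠ 0 := Nat.cast_ne_zero.mpr (fun hc => hwp (by rw [hc]; exact dvd_zero p))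
  have hae : e + blockDefect p B = a := by
    obtain ⟨ψ₀, hψ₀⟩ := hbB
    exact Cfsg.Agent.Lib.Blocks.RegPart2.minExp_add_blockDefect hψ₀
  have hcard : (Nat.card G : ℂ) = ((p ^ e : ℕ) : ℂ) * ((p ^ blockDefect p b : ℕ) : ℂ) * (w : ℂ) := by
    rw [hq, ← Nat.cast_mul, ← Nat.cast_mul, ← pow_add, hae, hw, Nat.ordProj_mul_ordCompl_eq_self]
  have hpe : ((p ^ e : ℕ) : ℂ) ≠ 0 := Nat.cast_ne_zero.mpr (pow_ne_zero _ hp.ne_zero)
  have hph : ((p ^ h : ℕ) : ℂ) ≠ 0 := Nat.cast_ne_zero.mpr (pow_ne_zero _ hp.ne_zero)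
  have h3 := hω ψ
  rw [classInner_PP_eq_PP hM hb _ (isClassFunction_vt ψ), hψ1, hcard] at h3
  have h4 : mm p x b χ ψ = ((p ^ blockDefect p b : ℕ) : ℂ) *
      classInner (PP p b (vt x χ)) (PP p b (vt x ψ)) := rfl
  rw [h4]
  field_simp
  apply mul_left_cancel₀ hpe
  linear_combination -h3

/-- Units: the coefficient in the valuation formula. -/
theorem unit_aux (hM : IsPModular p M) {t w : ℕ} (ht : ¬ p ∣ t) (hw : ¬ p ∣ w) :
    MemLocalRing M ((t : ℂ) * (w : ℂ)⁻¹) ∧ ¬ MemLocalIdeal M ((t : ℂ) * (w : ℂ)⁻¹) := by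
  have hw0 : (w : ℂ) ≠ 0 := Nat.cast_ne_zero.mpr (fun hc => hw (by rw [hc]; exact dvd_zero p))
  refine ⟨memLocalRing_mul (memLocalRing_natCast t) (memLocalRing_natCast_inv hM hw), fun h => ?_⟩
  have h1 := memLocalIdeal_mul_right h (memLocalRing_natCast (M := M) w)
  rw [mul_assoc, inv_mul_cancel₀ hw0, mul_one, natCast_memLocalIdeal_iff hM] at h1
  exact ht h1

/-- **The contribution matrix of a major subsection.** -/
theorem exists_matrix_major (hM : IsPModular p M) {k : ℕ} (hk : orderOf x = p ^ k)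
    {B : Set (IrrCharacter G)} (hB : IsPBlock M B) [Fintype B]
    {b : Set (IrrCharacter (Subgroup.centralizer ({x} : Set G)))}
    (hb : IsInducedBlock M (Subgroup.centralizer ({x} : Set G)) b B)
    (hq : blockDefect p b = blockDefect p B) :
    ∃ m : B → B → ℂ,
      (∀ i j, m i j ∈ Zr (p ^ k)) ∧ (∀ i j, m j i = conj (m i j)) ∧
      (∀ i, ∑ j, m i j * m j i = ((p ^ blockDefect p b : ℕ) : ℂ) * m i i) ∧
      (∑ i, m i i = ((p ^ blockDefect p b * blockRank p b : ℕ) : ℂ)) ∧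
      (∀ i j : B, blockHeight p B ((i : IrrCharacter G) : G → ℂ) = 0 →
        MemLocalRing M (m i j / ((p ^ blockHeight p B ((j : IrrCharacter G) : G → ℂ) : ℕ) : ℂ)) ∧
        ¬ MemLocalIdeal M (m i j / ((p ^ blockHeight p B ((j : IrrCharacter G) : G → ℂ) : ℕ) : ℂ))) ∧
      (∀ j : B, 1 ≤ blockHeight p B ((j : IrrCharacter G) : G → ℂ) →
        MemLocalIdeal M (m j j / ((p ^ blockHeight p B ((j : IrrCharacter G) : G → ℂ) : ℕ) : ℂ))) := by
  classical
  have hp : p.Prime := Fact.out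
  have hne := isPBlock_nonempty hB
  obtain ⟨m, hdef, hZ, hconj, hmul, htr, hnot, -⟩ := exists_matrix_def hM hk hB hb
  set w := Nat.card G / p ^ (Nat.card G).factorization p with hw
  have hwp : ¬ p ∣ w := Nat.not_dvd_ordCompl hp Nat.card_pos.ne'
  have hsame : ∀ (Z : Subalgebra.center ℂ (GA G)), Z ∈ localCenter M G → ∀ {a c : IrrCharacter G},
      a ∈ B → c ∈ B → MemLocalIdeal M (omegaHom a Z) → MemLocalIdeal M (omegaHom c Z) := by
    intro Z hZl a c ha hc hmem
    have hs : SameBlock M (c : G → ℂ) (a : G → ℂ) := by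
      have := isPBlock_eq_blockOf hB ha
      rw [this] at hc
      exact sameBlock_symm hc
    have h2 := omegaHom_sub_mem_of_sameBlock hs hZl
    have h3 := memLocalIdeal_add h2 hmem
    simpa using h3
  have hY1 : ∀ i j : B, blockHeight p B ((i : IrrCharacter G) : G → ℂ) = 0 →
      MemLocalRing M (m i j / ((p ^ blockHeight p B ((j : IrrCharacter G) : G → ℂ) : ℕ) : ℂ)) ∧
      ¬ MemLocalIdeal M (m i j / ((p ^ blockHeight p B ((j : IrrCharacter G) : G → ℂ) : ℕ) : ℂ)) := by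
    intro i j hi
    obtain ⟨Z, hZl, hΩ⟩ := exists_omega (M := M) hM hk hb.1 hne hq (i : IrrCharacter G)
    obtain ⟨ti, hti, ei⟩ := hΩ i i.2
    obtain ⟨tj, htj, ej⟩ := hΩ j j.2
    rw [hi, pow_zero, Nat.cast_one, div_one, ← hdef] at ei
    rw [← hdef] at ej
    rw [ej]
    obtain ⟨hu1, hu2⟩ := unit_aux (M := M) hM htj hwp
    obtain ⟨hv1, hv2⟩ := unit_aux (M := M) hM hti hwp
    have hωi : ¬ MemLocalIdeal M (omegaHom (i : IrrCharacter G) Z) := by
      intro h
      apply hnot i i hi hi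
      rw [ei]
      exact memLocalIdeal_mul_left hv1 h
    have hωj : ¬ MemLocalIdeal M (omegaHom (j : IrrCharacter G) Z) := fun h =>
      hωi (hsame Z hZl j.2 i.2 h)
    have hl := omegaHom_mem_local (j : IrrCharacter G) hZl
    exact ⟨memLocalRing_mul hu1 hl, notMem_mul hu1 hu2 hl hωj⟩
  refine ⟨m, hZ, hconj, hmul, htr, hY1, ?_⟩
  intro j hj
  -- a member of height zero
  obtain ⟨τ₀, hτ₀, hτe⟩ := exists_minExp p hne
  set τ : B := ⟨τ₀, hτ₀⟩ with hτ
  have hτ0 : blockHeight p B ((τ : IrrCharacter G) : G → ℂ) = 0 := by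
    change (charDegree (τ₀ : G → ℂ)).factorization p - minExp p B = 0
    omega
  obtain ⟨Z, hZl, hΩ⟩ := exists_omega (M := M) hM hk hb.1 hne hq (j : IrrCharacter G)
  obtain ⟨t1, ht1, e1⟩ := hΩ τ τ.2
  obtain ⟨t2, ht2, e2⟩ := hΩ j j.2
  rw [hτ0, pow_zero, Nat.cast_one, div_one, ← hdef] at e1
  rw [← hdef] at e2
  rw [e2]
  obtain ⟨hu1, hu2⟩ := unit_aux (M := M) hM ht1 hwp
  obtain ⟨hv1, -⟩ := unit_aux (M := M) hM ht2 hwp
  refine memLocalIdeal_mul_left hv1 (hsame Z hZl τ.2 j.2 ?_)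
  refine memLocalIdeal_of_mul hu1 hu2 (omegaHom_mem_local _ hZl) ?_
  rw [← e1, hconj τ j]
  -- divisibility of the conjugate
  set h := blockHeight p B ((j : IrrCharacter G) : G → ℂ) with hh
  have hw1 := div_pow_mem_Zr hM (hZ τ j) h (hY1 τ j hτ0).1
  have hpc : ((p ^ h : ℕ) : ℂ) ≠ 0 := Nat.cast_ne_zero.mpr (pow_ne_zero _ hp.ne_zero)
  have he : m τ j = ((p ^ h : ℕ) : ℂ) * (m τ j / ((p ^ h : ℕ) : ℂ)) := by field_simp
  rw [he, map_mul, Complex.conj_natCast]
  have hr : p ^ k ≠ 0 := pow_ne_zero _ hp.ne_zero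
  refine memLocalIdeal_mul_right ?_ (memLocalRing_of_isIntegral
    (isIntegral_of_mem_Zr hr (conj_mem_Zr hr hw1)))
  rw [natCast_memLocalIdeal_iff hM]
  exact dvd_pow_self p (by omega)

end Cfsg.Agent.Lib.Contrib.Major
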