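import Mathlib
import Cfsg.Agent.Lib.Contrib.Major
import Cfsg.Agent.Lib.Contrib.Adams
import Cfsg.Agent.Lib.Blocks.DomRank
import Cfsg.Agent.Lib.BlockT.Inflate2
import Cfsg.Agent.Lib.BlockT.CenterP

/-!
# Inflation from a central `p`-quotient

`π : C → X` is surjective with a central kernel that is a `p`-group.  Class functions of `X` vanishing
on `p`-singular elements correspond to class functions of `C` supported on `p`-regular elements.
-/

set_option autoImplicit false
set_option linter.unusedSectionVars false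
set_option linter.style.haveILetI false

namespace Cfsg.Agent.Lib.Contrib.Dom

open Cfsg MonoidAlgebra
open Cfsg.Agent.Lib.Blocks.Local Cfsg.Agent.Lib.Blocks.Central Cfsg.Agent.Lib.Blocks.Quot
open Cfsg.Agent.Lib.Blocks.DomRank
open Cfsg.Agent.Lib.BlockH.Regular Cfsg.Agent.Lib.BlockP.Defect
open Cfsg.Agent.Lib.Char.Ortho Cfsg.Agent.Lib.Char.Basic Cfsg.Agent.Lib.Char.GenLattice
open Cfsg.Agent.Lib.Contrib.Proj Cfsg.Agent.Lib.Contrib.Cyc Cfsg.Agent.Lib.Contrib.Family
open Cfsg.Agent.Lib.Contrib.Sec Cfsg.Agent.Lib.Contrib.Adams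
open scoped ComplexConjugate

universe u

section Quot

variable {C X : Type u} [Group C] [Group X] [Fintype C] [Fintype X] {p : ℕ} [hp : Fact p.Prime]
  (π : C →* X) (hπ : Function.Surjective π) (hker : IsPGroup p π.ker)
  (hcen : ∀ u ∈ π.ker, ∀ c : C, Commute u c)

include hπ in
theorem card_eq_mul : Nat.card C = Nat.card π.ker * Nat.card X := by
  have h1 := π.ker.card_mul_index
  rw [Subgroup.index_ker, MonoidHom.range_eq_top.mpr hπ, Subgroup.card_top] at h1
  exact h1.symm

include hπ hker hcen in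
/-- Sums of functions vanishing on `p`-singular elements. -/
theorem sum_comp_eq (E : X → ℂ) (hE : ∀ x, p ∣ orderOf x → E x = 0) :
    ∑ c : C, E (π c) = (Nat.card π.ker : ℂ) * ∑ c : C, if ¬ p ∣ orderOf c then E (π c) else 0 := by
  classical
  rw [Cfsg.Agent.Lib.BlockT.Inflate.sum_comp_surj π hπ E,
    sum_regular_map π hπ hker (fun s _ q hq => hcen q hq s) E]
  congr 1
  refine Fintype.sum_congr _ _ fun x => ?_
  by_cases hx : p ∣ orderOf x
  · rw [if_neg (not_not.mpr hx), hE x hx]
  · rw [if_pos hx]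

include hcen in
/-- The power map does not see the kernel. -/
theorem pow_mul_ker {n : ℕ} (hn : IsAd p n C) (hker' : IsPGroup p π.ker) {c u : C} (hu : u ∈ π.ker) :
    (c * u) ^ n = c ^ n := by
  have hc : Commute c u := (hcen u hu c).symm
  rw [hc.mul_pow]
  obtain ⟨k, hk⟩ := hker' ⟨u, hu⟩
  have hk' : u ^ p ^ k = 1 := by
    have := congrArg Subtype.val hk
    simpa using this
  have h2 : orderOf u ∣ p ^ k := orderOf_dvd_of_pow_eq_one hk'
  obtain ⟨j, -, hj⟩ := (Nat.dvd_prime_pow hp.out).mp h2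
  rw [hn.1 u j hj, mul_one]

include hπ hker hcen in
/-- The pairing with the power map. -/
theorem classInner_pow_eq {n : ℕ} (hn : IsAd p n C) (ξ : C → ℂ) {Φ : X → ℂ}
    (hΦ : ∀ x, p ∣ orderOf x → Φ x = 0) :
    classInner (fun c => ξ (c ^ n)) (Φ ∘ π) =
      (Nat.card π.ker : ℂ) * classInner (pRegularPart p ξ) (Φ ∘ π) := by
  classical
  let lift : X → C := Function.surjInv hπ
  have hlift : ∀ x, π (lift x) = x := Function.surjInv_eq hπ
  have hpow : ∀ c : C, (lift (π c)) ^ n = c ^ n := by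
    intro c
    have hu : (lift (π c))⁻¹ * c ∈ π.ker := by
      rw [MonoidHom.mem_ker, map_mul, map_inv, hlift, inv_mul_cancel]
    have := pow_mul_ker π hcen hn hker (c := lift (π c)) hu
    rwa [mul_inv_cancel_left, eq_comm] at this
  let E : X → ℂ := fun x => ξ ((lift x) ^ n) * conj (Φ x)
  have hE : ∀ x, p ∣ orderOf x → E x = 0 := by
    intro x hx
    simp only [E]
    rw [hΦ x hx, map_zero, mul_zero]
  have h1 := sum_comp_eq π hπ hker hcen E hE
  simp only [classInner_def]
  have h2 : ∑ c : C, ξ (c ^ n) * conj ((Φ ∘ π) c) = ∑ c : C, E (π c) := by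
    refine Fintype.sum_congr _ _ fun c => ?_
    simp only [E, hpow, Function.comp]
  rw [h2, h1, mul_left_comm]
  congr 2
  refine Fintype.sum_congr _ _ fun c => ?_
  by_cases hc : p ∣ orderOf c
  · rw [if_neg (not_not.mpr hc), part_sing (not_not.mpr hc), zero_mul]
  · rw [if_pos hc, part_reg hc]
    simp only [E, hpow, Function.comp, hn.2 c hc]

/-- The function on `C` attached to a function on `X`. -/
noncomputable def FF (Φ : X → ℂ) : C → ℂ :=
  fun c => (Nat.card π.ker : ℂ) * pRegularPart p (Φ ∘ π) c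

include hπ hker hcen in
/-- The norm of `FF`. -/
theorem classInner_FF_FF {Φ : X → ℂ} (hΦ : ∀ x, p ∣ orderOf x → Φ x = 0) :
    classInner (FF (p := p) π Φ) (FF (p := p) π Φ) = (Nat.card π.ker : ℂ) * classInner (Φ ∘ π) (Φ ∘ π) := by
  classical
  have h1 := sum_comp_eq π hπ hker hcen (fun x => Φ x * conj (Φ x)) (fun x hx => by
    rw [hΦ x hx, zero_mul])
  simp only [classInner_def, FF]
  have h2 : ∑ c : C, (Nat.card π.ker : ℂ) * pRegularPart p (Φ ∘ π) c *
      conj ((Nat.card π.ker : ℂ) * pRegularPart p (Φ ∘ π) c) =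
      (Nat.card π.ker : ℂ) * (Nat.card π.ker : ℂ) * ∑ c : C, if ¬ p ∣ orderOf c then Φ (π c) * conj (Φ (π c)) else 0 := by
    rw [Finset.mul_sum]
    refine Fintype.sum_congr _ _ fun c => ?_
    by_cases hc : p ∣ orderOf c
    · rw [part_sing (not_not.mpr hc), if_neg (not_not.mpr hc)]
      simp
    · rw [part_reg hc, if_pos hc, map_mul, Complex.conj_natCast]
      simp only [Function.comp]
      ring
  have h3 : ∑ g : C, (Φ ∘ π) g * conj ((Φ ∘ π) g) = ∑ c : C, Φ (π c) * conj (Φ (π c)) := rfl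
  rw [h2, h3, h1]
  ring

variable [Fintype (IrrCharacter C)] [Fintype (IrrCharacter X)] {M : Ideal AlgInt}

section Fam

variable {A : Set (IrrCharacter X)} [Fintype A]

/-- The combination of the members of `A` with coefficients `v`. -/
noncomputable def Phi (v : A → ℂ) (x : X) : ℂ := ∑ ψ : A, v ψ * ((ψ : IrrCharacter X) : X → ℂ) x

theorem Phi_comp (v : A → ℂ) : Phi v ∘ π = fun c => ∑ ψ : A, v ψ * (inflI π hπ (ψ : IrrCharacter X) : C → ℂ) c := by
  funext c
  rfl

theorem classInner_linear_right {K : Type*} [Group K] [Fintype K] {ι : Type*} [Fintype ι] (c : ι → ℂ)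
    (h : ι → K → ℂ) (u : K → ℂ) :
    classInner u (fun y => ∑ i, c i * h i y) = ∑ i, conj (c i) * classInner u (h i) := by
  simp only [classInner_def, map_sum, map_mul, Finset.mul_sum]
  rw [Finset.sum_comm]
  refine Fintype.sum_congr _ _ fun i => Fintype.sum_congr _ _ fun y => ?_
  ring

include hπ in
/-- The inflated functions are orthonormal. -/
theorem classInner_Phi_Phi (v w : A → ℂ) :
    classInner (Phi v ∘ π) (Phi w ∘ π) = ∑ ψ : A, v ψ * conj (w ψ) := by
  classical
  rw [Phi_comp π hπ, Phi_comp π hπ, classInner_linear_right]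
  refine Fintype.sum_congr _ _ fun ψ => ?_
  rw [Cfsg.Agent.Lib.Contrib.Proj.classInner_linear, Finset.sum_eq_single ψ]
  · rw [classInner_self_of_isIrr (inflI π hπ (ψ : IrrCharacter X)).2, mul_one, mul_comm]
  · intro ψ' _ hψ'
    rw [classInner_eq_zero_of_isIrr_of_ne (inflI π hπ (ψ' : IrrCharacter X)).2
      (inflI π hπ (ψ : IrrCharacter X)).2, mul_zero]
    intro h
    apply hψ'
    apply Subtype.ext
    apply Subtype.ext
    funext x
    obtain ⟨c, rfl⟩ := hπ x
    exact congrFun h c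
  · intro h
    exact absurd (Finset.mem_univ _) h

/-- The coefficients attached to a function on `C`. -/
noncomputable def uu (g : C → ℂ) (ψ : A) : ℂ :=
  (Nat.card π.ker : ℂ) * classInner g (inflI π hπ (ψ : IrrCharacter X) : C → ℂ)

/-- The push-forward of a function. -/
noncomputable def push' (g : C → ℂ) (x : X) : ℂ := by
  classical exact ∑ c : C, if π c = x then g c else 0

theorem push'_apply [DecidableEq X] (g : C → ℂ) (x : X) : push' π g x = ∑ c : C, if π c = x then g c else 0 := by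
  simp only [push']
  refine Fintype.sum_congr _ _ fun c => ?_
  congr

include hπ in
theorem isClassFunction_push' {g : C → ℂ} (hg : IsClassFunction C g) : IsClassFunction X (push' π g) := by
  classical
  intro x t
  obtain ⟨t, rfl⟩ := hπ t
  rw [push'_apply, push'_apply]
  refine Fintype.sum_equiv (MulAut.conj t⁻¹).toEquiv _ _ fun c => ?_
  have e1 : (MulAut.conj t⁻¹).toEquiv c = t⁻¹ * c * t := by simp [MulAut.conj_apply]
  rw [e1]
  have h1 : π c = π t * x * (π t)⁻¹ ↔ π (t⁻¹ * c * t) = x := by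
    simp only [map_mul, map_inv]
    constructor
    · intro h
      rw [h]
      group
    · intro h
      rw [← h]
      group
  have h2 : g (t⁻¹ * c * t) = g c := by
    have := hg c t⁻¹
    simpa using this
  simp only [h1, h2]

include hπ in
theorem classInner_push' (g : C → ℂ) (ψ : IrrCharacter X) :
    classInner (push' π g) (ψ : X → ℂ) =
      (Nat.card π.ker : ℂ) * classInner g (inflI π hπ ψ : C → ℂ) := by
  classical
  simp only [classInner_def, push'_apply]
  have h1 : ∑ x : X, (∑ c : C, if π c = x then g c else 0) * conj ((ψ : X → ℂ) x) =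
      ∑ c : C, g c * conj ((inflI π hπ ψ : C → ℂ) c) := by
    simp only [Finset.sum_mul]
    rw [Finset.sum_comm]
    refine Fintype.sum_congr _ _ fun c => ?_
    rw [Finset.sum_eq_single (π c)]
    · rw [if_pos rfl]
      rfl
    · intro x _ hx
      rw [if_neg (Ne.symm hx), zero_mul]
    · intro h
      exact absurd (Finset.mem_univ _) h
  rw [h1, ← mul_assoc]
  congr 1
  have h2 : (Nat.card C : ℂ) = (Nat.card π.ker : ℂ) * (Nat.card X : ℂ) := by
    exact_mod_cast card_eq_mul π hπ
  have h3 : (Nat.card X : ℂ) ≠ 0 := Nat.cast_ne_zero.mpr Nat.card_pos.ne'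
  have h4 : (Nat.card π.ker : ℂ) ≠ 0 := Nat.cast_ne_zero.mpr Nat.card_pos.ne'
  rw [h2]
  field_simp

/-- The coefficients give the push-forward. -/
theorem sum_uu_eq {g : C → ℂ} (hg : IsClassFunction C g) (hA : ∀ ψ : IrrCharacter X, ψ ∉ A →
      classInner g (inflI π hπ ψ : C → ℂ) = 0) (x : X) :
    ∑ ψ : A, uu π hπ g ψ * ((ψ : IrrCharacter X) : X → ℂ) x = push' π g x := by
  classical
  have h1 := Cfsg.Agent.Lib.Char.Complete.classFunction_eq_sum (isClassFunction_push' π hπ hg)
  have h2 := congrFun h1 x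
  rw [h2, Finset.sum_apply]
  simp only [Pi.smul_apply, smul_eq_mul, classInner_push' π hπ]
  simp only [uu]
  rw [sum_subtype_eq (B := A) (fun ψ => (Nat.card π.ker : ℂ) * classInner g (inflI π hπ ψ : C → ℂ) * (ψ : X → ℂ) x)]
  refine Fintype.sum_congr _ _ fun ψ => ?_
  split_ifs with hψ
  · rfl
  · rw [hA ψ hψ, mul_zero, zero_mul]

include hπ in
/-- The push-forward vanishes on `p`-singular elements. -/
theorem push'_singular {g : C → ℂ} (hg : ∀ c, p ∣ orderOf c → g c = 0) {x : X} (hx : p ∣ orderOf x) :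
    push' π g x = 0 := by
  classical
  rw [push'_apply]
  refine Finset.sum_eq_zero fun c _ => ?_
  split_ifs with h
  · apply hg
    exact hx.trans (h ▸ orderOf_map_dvd π c)
  · rfl

include hker hcen in
/-- The push-forward does not lose anything on regular elements. -/
theorem push'_regular {g : C → ℂ} (hg : ∀ c, p ∣ orderOf c → g c = 0) {c : C} (hc : ¬ p ∣ orderOf c) :
    push' π g (π c) = g c := by
  classical
  rw [push'_apply, Finset.sum_eq_single c]
  · rw [if_pos rfl]
  · intro c' _ hc'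
    split_ifs with h
    · apply hg
      by_contra hreg
      exact hc' (eq_of_map_eq π hker (fun s _ q hq => hcen q hq s) hreg hc h)
    · rfl
  · intro h
    exact absurd (Finset.mem_univ _) h

theorem classInner_FF (g : C → ℂ) (Φ : X → ℂ) :
    classInner g (FF (p := p) π Φ) = (Nat.card π.ker : ℂ) * classInner (pRegularPart p g) (Φ ∘ π) := by
  classical
  simp only [classInner_def, FF]
  rw [mul_left_comm]
  congr 1
  rw [Finset.mul_sum]
  refine Fintype.sum_congr _ _ fun c => ?_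
  by_cases hc : p ∣ orderOf c
  · rw [part_sing (not_not.mpr hc), part_sing (not_not.mpr hc)]
    simp
  · rw [part_reg hc, part_reg hc, map_mul, Complex.conj_natCast]
    ring

theorem regular_PP {b : Set (IrrCharacter C)} (h : C → ℂ) : pRegularPart p (PP p b h) = PP p b h := by
  funext c
  by_cases hc : p ∣ orderOf c
  · rw [part_sing (not_not.mpr hc)]
    simp only [PP]
    rw [part_sing (not_not.mpr hc)]
  · rw [part_reg hc]

/-- `FF` is fixed by the block projection. -/
theorem PP_FF (hM : IsPModular p M) {b : Set (IrrCharacter C)} (hb : IsPBlock M b)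
    (hA : ∀ ψ ∈ A, inflI π hπ ψ ∈ b) (v : A → ℂ) :
    PP p b (FF (p := p) π (Phi v)) = FF (p := p) π (Phi v) := by
  classical
  have h1 : FF (p := p) π (Phi v) = fun c => ∑ ψ : A, ((Nat.card π.ker : ℂ) * v ψ) *
      pRegularPart p (inflI π hπ (ψ : IrrCharacter X) : C → ℂ) c := by
    funext c
    simp only [FF]
    by_cases hc : p ∣ orderOf c
    · rw [part_sing (not_not.mpr hc)]
      simp only [part_sing (not_not.mpr hc)]
      simp
    · rw [part_reg hc]
      change _ * Phi v (π c) = _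
      rw [Phi, Finset.mul_sum]
      refine Fintype.sum_congr _ _ fun ψ => ?_
      rw [part_reg hc, mul_assoc]
      rfl
  rw [h1]
  funext y
  rw [PP_linear]
  refine Fintype.sum_congr _ _ fun ψ => ?_
  have h2 : PP p b (pRegularPart p (inflI π hπ (ψ : IrrCharacter X) : C → ℂ)) =
      PP p b (inflI π hπ (ψ : IrrCharacter X) : C → ℂ) := by
    apply PP_congr hM hb
    intro t ht
    rw [part_reg ht]
  rw [h2, PP_irr_of_mem (hA _ ψ.2)]

include hπ hker hcen in
/-- The integrality of the pairing of regular parts. -/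
theorem mem_Zr_pairing (hp' : p.Prime) {r : ℕ} {v : A → ℂ} (hv : ∀ ψ, v ψ ∈ Zr r) (hr : r ≠ 0)
    (hsing : ∀ x, p ∣ orderOf x → Phi v x = 0) (ξ : IrrCharacter C) :
    (Nat.card π.ker : ℂ) * classInner (pRegularPart p (ξ : C → ℂ)) (Phi v ∘ π) ∈ Zr r := by
  classical
  obtain ⟨n, hn⟩ := exists_isAd (G := C) hp'
  rw [← classInner_pow_eq π hπ hker hcen hn _ hsing, Phi_comp π hπ, classInner_linear_right]
  refine sum_mem fun ψ _ => mul_mem (conj_mem_Zr hr (hv ψ)) ?_
  obtain ⟨m, hm⟩ := exists_int_classInner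
    (isGenChar_pow hp' hn (isCharacter_of_isIrrCharacter ξ.2))
    (isGenChar_of_isIrr (inflI π hπ (ψ : IrrCharacter X)).2)
  rw [hm]
  exact intCast_mem_Zr m

end Fam

end Quot

section Dominated

variable {C X : Type u} [Group C] [Group X] [Fintype C] [Fintype X] {p : ℕ} [hp : Fact p.Prime]
  (π : C →* X) (hπ : Function.Surjective π) (hker : IsPGroup p π.ker)
  (hcen : ∀ u ∈ π.ker, ∀ c : C, Commute u c)
  [Fintype (IrrCharacter C)] [Fintype (IrrCharacter X)] {M : Ideal AlgInt}

include hker hcen in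
/-- The dominated block. -/
theorem exists_dominated (hM : IsPModular p M) {b : Set (IrrCharacter C)} (hb : IsPBlock M b) :
    ∃ A : Set (IrrCharacter X), IsPBlock M A ∧ ∀ ψ, ψ ∈ A ↔ inflI π hπ ψ ∈ b := by
  classical
  haveI := isPrime_of_pModular hM
  letI : Fintype π.ker := Fintype.ofFinite _
  obtain ⟨θ, hθb, hθ⟩ := Cfsg.Agent.Lib.BlockT.Inflate2.exists_trivial_mem_block hM
    (inferInstance : π.ker.Normal) hker hb
  obtain ⟨φ, hφ, hθφ⟩ := Cfsg.Agent.Lib.Char.Linear.isIrrCharacter_descend π hπ θ.2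
    (fun k hk => hθ ⟨k, hk⟩)
  let φ' : IrrCharacter X := ⟨φ, hφ⟩
  refine ⟨blockOf M (φ' : X → ℂ), ⟨φ', rfl⟩, fun ψ => ?_⟩
  rw [isPBlock_eq_blockOf hb hθb]
  constructor
  · intro h
    have h1 := Cfsg.Agent.Lib.BlockT.Inflate.sameBlock_comp π hπ
      (isClassFunction_of_isIrrCharacter hφ) (isClassFunction_of_isIrrCharacter ψ.2) h
    change SameBlock M (θ : C → ℂ) ((ψ : X → ℂ) ∘ π)
    rw [hθφ]
    exact h1
  · intro h
    have h1 : SameBlock M ((φ' : X → ℂ) ∘ π) ((ψ : X → ℂ) ∘ π) := by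
      have h2 : SameBlock M (θ : C → ℂ) ((ψ : X → ℂ) ∘ π) := h
      rw [hθφ] at h2
      exact h2
    exact sameBlock_of_comp π hπ hker (fun s _ q hq => hcen q hq s) hM h1

theorem charDegree_infl (ψ : IrrCharacter X) :
    charDegree (inflI π hπ ψ : C → ℂ) = charDegree (ψ : X → ℂ) := by
  simp only [charDegree]
  change ⌊(((ψ : X → ℂ) ∘ π) 1).re⌋₊ = _
  simp

/-- The defect of the dominated block. -/
theorem blockDefect_add_le {b : Set (IrrCharacter C)} {A : Set (IrrCharacter X)} (hne : A.Nonempty)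
    (hA : ∀ ψ, ψ ∈ A ↔ inflI π hπ ψ ∈ b) :
    blockDefect p A + (Nat.card π.ker).factorization p ≤ blockDefect p b := by
  obtain ⟨ψ, hψ, hmin⟩ := exists_minExp p hne
  have h1 := Cfsg.Agent.Lib.Blocks.RegPart2.minExp_add_blockDefect (p := p) hψ
  have hb := (hA ψ).mp hψ
  have h2 := Cfsg.Agent.Lib.Blocks.RegPart2.minExp_add_blockDefect (p := p) hb
  have h3 := minExp_le p hb
  rw [charDegree_infl] at h3
  have h4 : (Nat.card C).factorization p =
      (Nat.card π.ker).factorization p + (Nat.card X).factorization p := by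
    rw [card_eq_mul π hπ, Nat.factorization_mul Nat.card_pos.ne' Nat.card_pos.ne']
    rfl
  omega

include hker hcen in
/-- The rank of a block is at most the number of members of the dominated block. -/
theorem blockRank_le (hM : IsPModular p M) {b : Set (IrrCharacter C)} (hb : IsPBlock M b)
    {A : Set (IrrCharacter X)} [Fintype A] (hA : ∀ ψ, ψ ∈ A ↔ inflI π hπ ψ ∈ b) :
    blockRank p b ≤ Fintype.card A := by
  classical
  let gen : A → (C → ℂ) := fun ψ => pRegularPart p (inflI π hπ (ψ : IrrCharacter X) : C → ℂ)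
  have hle : Submodule.span ℂ ((fun χ : IrrCharacter C => pRegularPart p (χ : C → ℂ)) '' b) ≤
      Submodule.span ℂ (Set.range gen) := by
    rw [Submodule.span_le]
    rintro _ ⟨ξ, hξ, rfl⟩
    simp only [SetLike.mem_coe]
    set g : C → ℂ := PP p b (ξ : C → ℂ) with hg
    have hgreg : g = pRegularPart p (ξ : C → ℂ) := PP_irr_of_mem hξ
    have hgs : ∀ c, p ∣ orderOf c → g c = 0 := by
      intro c hc
      rw [hgreg]
      exact part_sing (not_not.mpr hc)
    have hgc : IsClassFunction C g := isClassFunction_PP _ _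
    have hout : ∀ ψ : IrrCharacter X, ψ ∉ A → classInner g (inflI π hπ ψ : C → ℂ) = 0 := by
      intro ψ hψ
      exact classInner_PP_eq_zero hM hb _ (fun h => hψ ((hA ψ).mpr h))
    have hsum : pRegularPart p (ξ : C → ℂ) = ∑ ψ : A, uu π hπ g ψ • gen ψ := by
      funext c
      rw [Finset.sum_apply, ← hgreg]
      simp only [Pi.smul_apply, smul_eq_mul, gen]
      by_cases hc : p ∣ orderOf c
      · rw [hgs c hc]
        symm
        refine Finset.sum_eq_zero fun ψ _ => ?_
        rw [part_sing (not_not.mpr hc), mul_zero]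
      · rw [← push'_regular π hker hcen hgs hc, ← sum_uu_eq π hπ hgc hout]
        refine Fintype.sum_congr _ _ fun ψ => ?_
        rw [part_reg hc]
        rfl
    rw [hsum]
    exact Submodule.sum_mem _ fun ψ _ => Submodule.smul_mem _ _ (Submodule.subset_span ⟨ψ, rfl⟩)
  haveI : Module.Finite ℂ (Submodule.span ℂ (Set.range gen)) :=
    FiniteDimensional.span_of_finite ℂ (Set.finite_range gen)
  exact (Submodule.finrank_mono hle).trans (finrank_range_le_card gen)

end Dominated

section Main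

variable {G : Type u} [Group G] [Fintype G] [Fintype (IrrCharacter G)] {p : ℕ} {M : Ideal AlgInt}
  [hp : Fact p.Prime] {z : G}
  [Fintype (Subgroup.centralizer ({z} : Set G))] [Fintype (IrrCharacter (Subgroup.centralizer ({z} : Set G)))]
  {X : Type u} [Group X] [Fintype X] [Fintype (IrrCharacter X)]
  (π : Subgroup.centralizer ({z} : Set G) →* X) (hπ : Function.Surjective π) (hker : IsPGroup p π.ker)
  (hcen : ∀ u ∈ π.ker, ∀ c : Subgroup.centralizer ({z} : Set G), Commute u c)

include hker hcen in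
open Classical in
/-- **The number of irreducible characters with nonvanishing contribution.** -/
theorem card_le_of_family (hM : IsPModular p M) {k : ℕ} (hk : orderOf z = p ^ k) [NeZero (p ^ k)]
    (hK : Nat.card π.ker = p ^ k)
    {B : Set (IrrCharacter G)} (hB : IsPBlock M B) [Fintype B]
    {b : Set (IrrCharacter (Subgroup.centralizer ({z} : Set G)))}
    (hb : IsInducedBlock M (Subgroup.centralizer ({z} : Set G)) b B)
    {A : Set (IrrCharacter X)} [Fintype A] (hA : ∀ ψ, ψ ∈ A ↔ inflI π hπ ψ ∈ b)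
    {ι : Type*} [Fintype ι] (v : ι → A → ℂ) (N : ℕ) {κ : ℝ} (hκ : 0 ≤ κ)
    (hvZ : ∀ i ψ, v i ψ ∈ Zr (p ^ k))
    (hsing : ∀ i x, p ∣ orderOf x → Phi (v i) x = 0)
    (hnorm : ∑ i, ∑ ψ, nrm (p ^ k) (v i ψ) ≤ κ * N)
    (hcount : ∀ u : A → ℂ, (∀ x, p ∣ orderOf x → Phi u x = 0) → u ≠ 0 →
      0 < N ∧ N ≤ (Finset.univ.filter fun i => ∑ ψ, u ψ * conj (v i ψ) ≠ 0).card) :
    ((Finset.univ.filter fun χ : B => PP p b (vt z (χ : IrrCharacter G)) ≠ 0).card : ℝ) ≤ (p ^ k : ℕ) * κ := by
  haveI hMp := isPrime_of_pModular hM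
  have hr : p ^ k ≠ 0 := NeZero.ne _
  set f : B → Subgroup.centralizer ({z} : Set G) → ℂ := fun χ => PP p b (vt z (χ : IrrCharacter G)) with hf
  have hstar := star_section (M := M) hM ⟨k, hk⟩ hB hb
  have hcl : ∀ χ : B, IsClassFunction _ (f χ) := fun χ => isClassFunction_PP _ _
  have hfsing : ∀ χ c, p ∣ orderOf c → f χ c = 0 := by
    intro χ c hc
    simp only [hf, PP]
    exact part_sing (not_not.mpr hc)
  have hKc : ((Nat.card π.ker : ℕ) : ℂ) = ((p ^ k : ℕ) : ℂ) := by rw [hK]
  -- the numbers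
  set F : ι → Subgroup.centralizer ({z} : Set G) → ℂ := fun i => FF (p := p) π (Phi (v i)) with hF
  set y : ι → B → ℂ := fun i χ => classInner (f χ) (F i) with hy
  -- the formula in terms of the coefficients
  have hyu : ∀ i χ, y i χ = ∑ ψ : A, uu π hπ (f χ) ψ * conj (v i ψ) := by
    intro i χ
    simp only [hy, hF]
    rw [classInner_FF, regular_PP, Phi_comp π hπ, classInner_linear_right, Finset.mul_sum]
    refine Fintype.sum_congr _ _ fun ψ => ?_
    simp only [uu]
    ring
  -- integrality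
  have hyZ : ∀ i χ, y i χ ∈ Zr (p ^ k) := by
    intro i χ
    simp only [hy, hF, hf]
    rw [classInner_FF, regular_PP, classInner_PP_left, Finset.mul_sum]
    refine sum_mem fun ξ _ => ?_
    rw [mul_left_comm]
    refine mul_mem ?_ (mem_Zr_pairing π hπ hker hcen hp.out (hvZ i) hr (hsing i) ξ)
    by_cases hξ : ξ ∈ b
    · rw [cc_of_mem _ hξ]
      exact classInner_vt_mem_Zr hk _ _
    · rw [cc_of_notMem _ hξ]
      exact zero_mem _
  -- the norm
  have hAb : ∀ ψ ∈ A, inflI π hπ ψ ∈ b := fun ψ hψ => (hA ψ).mp hψ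
  have hsum : ∀ i, ∑ χ : B, y i χ * conj (y i χ) = (Nat.card π.ker : ℂ) * ∑ ψ : A, v i ψ * conj (v i ψ) := by
    intro i
    have h1 := sum_inner_mul_inner_PP (M := M) (p := p) hM hb.1 (f := f) hstar (F i) (F i)
    have h2 : PP p b (F i) = F i := PP_FF π hπ hM hb.1 hAb (v i)
    rw [h2] at h1
    have h3 : classInner (F i) (F i) = (Nat.card π.ker : ℂ) * ∑ ψ : A, v i ψ * conj (v i ψ) := by
      simp only [hF]
      rw [classInner_FF_FF π hπ hker hcen (hsing i), classInner_Phi_Phi π hπ]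
    rw [← h3, ← h1]
    refine Fintype.sum_congr _ _ fun χ => ?_
    simp only [hy]
    rw [conj_classInner, mul_comm]
  have hnrm : ∀ i, ∑ χ : B, nrm (p ^ k) (y i χ) = (p ^ k : ℕ) * ∑ ψ : A, nrm (p ^ k) (v i ψ) := by
    intro i
    apply Complex.ofReal_injective
    push_cast
    simp only [nrm_cast (hyZ i _), nrm_cast (hvZ i _)]
    have hKn : ∀ z ∈ Zr (p ^ k), z * conj z ∈ Cfsg.Agent.Lib.Char.Galois.Kn (p ^ k) := fun z hz =>
      mul_mem (mem_Kn_of_mem_Zr hr hz) (mem_Kn_of_mem_Zr hr (conj_mem_Zr hr hz))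
    rw [← avg_sum _ (fun χ _ => hKn _ (hyZ i χ)), hsum, hK]
    have : (((p ^ k : ℕ) : ℂ)) = (p : ℂ) ^ k := by push_cast; rfl
    rw [avg_natCast_mul, avg_sum _ (fun ψ _ => hKn _ (hvZ i ψ))]
    · push_cast
      rfl
    · exact sum_mem fun ψ _ => hKn _ (hvZ i ψ)
  -- the pointwise lower bound
  have hlow : ∀ χ : B, f χ ≠ 0 → 0 < N ∧ (N : ℝ) ≤ ∑ i, nrm (p ^ k) (y i χ) := by
    intro χ hχ
    set u : A → ℂ := uu π hπ (f χ) with hu
    have hout : ∀ ψ : IrrCharacter X, ψ ∉ A → classInner (f χ) (inflI π hπ ψ : _ → ℂ) = 0 := by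
      intro ψ hψ
      exact classInner_PP_eq_zero hM hb.1 _ (fun h => hψ ((hA ψ).mpr h))
    have hPhi : ∀ x, Phi u x = push' π (f χ) x := by
      intro x
      exact sum_uu_eq π hπ (hcl χ) hout x
    have hadm : ∀ x, p ∣ orderOf x → Phi u x = 0 := by
      intro x hx
      rw [hPhi]
      exact push'_singular π hπ (hfsing χ) hx
    have hu0 : u ≠ 0 := by
      intro h0
      apply hχ
      funext c
      by_cases hc : p ∣ orderOf c
      · exact hfsing χ c hc
      · rw [← push'_regular π hker hcen (hfsing χ) hc, ← hPhi]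
        simp only [Phi, h0]
        simp
    obtain ⟨hN, hle⟩ := hcount u hadm hu0
    refine ⟨hN, ?_⟩
    have h1 : ∑ i ∈ Finset.univ.filter (fun i => ∑ ψ, u ψ * conj (v i ψ) ≠ 0), (1 : ℝ) ≤
        ∑ i ∈ Finset.univ.filter (fun i => ∑ ψ, u ψ * conj (v i ψ) ≠ 0), nrm (p ^ k) (y i χ) := by
      refine Finset.sum_le_sum fun i hi => ?_
      have hi' := (Finset.mem_filter.mp hi).2
      refine one_le_nrm (hyZ i χ) ?_
      rw [hyu]
      exact hi'
    have h2 : ∑ i ∈ Finset.univ.filter (fun i => ∑ ψ, u ψ * conj (v i ψ) ≠ 0), nrm (p ^ k) (y i χ) ≤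
        ∑ i, nrm (p ^ k) (y i χ) :=
      Finset.sum_le_sum_of_subset_of_nonneg (Finset.filter_subset _ _) fun i _ _ => nrm_nonneg _ _
    have h3 : (N : ℝ) ≤ (Finset.univ.filter fun i => ∑ ψ, u ψ * conj (v i ψ) ≠ 0).card := by
      exact_mod_cast hle
    simp only [Finset.sum_const, nsmul_eq_mul, mul_one] at h1
    linarith
  -- counting
  set S := Finset.univ.filter fun χ : B => PP p b (vt z (χ : IrrCharacter G)) ≠ 0 with hS
  by_cases hSe : S = ∅
  · rw [hSe]
    simp only [Finset.card_empty, Nat.cast_zero]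
    positivity
  obtain ⟨χ₀, hχ₀⟩ := Finset.nonempty_iff_ne_empty.mpr hSe
  have hNpos : 0 < N := (hlow χ₀ (Finset.mem_filter.mp hχ₀).2).1
  have h1 : (S.card : ℝ) * N ≤ ∑ χ ∈ S, ∑ i, nrm (p ^ k) (y i χ) := by
    rw [← nsmul_eq_mul, ← Finset.sum_const]
    exact Finset.sum_le_sum fun χ hχ => (hlow χ (Finset.mem_filter.mp hχ).2).2
  have h2 : ∑ χ ∈ S, ∑ i, nrm (p ^ k) (y i χ) ≤ ∑ χ : B, ∑ i, nrm (p ^ k) (y i χ) :=
    Finset.sum_le_sum_of_subset_of_nonneg (Finset.subset_univ _) fun χ _ _ =>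
      Finset.sum_nonneg fun i _ => nrm_nonneg _ _
  have h3 : ∑ χ : B, ∑ i, nrm (p ^ k) (y i χ) = (p ^ k : ℕ) * ∑ i, ∑ ψ, nrm (p ^ k) (v i ψ) := by
    rw [Finset.sum_comm, Finset.mul_sum]
    exact Fintype.sum_congr _ _ hnrm
  have hNr : (0 : ℝ) < N := by exact_mod_cast hNpos
  have h4 : ((p ^ k : ℕ) : ℝ) * ∑ i, ∑ ψ, nrm (p ^ k) (v i ψ) ≤ ((p ^ k : ℕ) : ℝ) * (κ * N) :=
    mul_le_mul_of_nonneg_left hnorm (Nat.cast_nonneg _)
  have h5 : (S.card : ℝ) * N ≤ (((p ^ k : ℕ) : ℝ) * κ) * N := by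
    rw [mul_assoc]
    linarith
  exact le_of_mul_le_mul_right h5 hNr

end Main

end Cfsg.Agent.Lib.Contrib.Dom
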