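import Mathlib
import Cfsg.Agent.Lib.Contrib.Dom

/-!
# Blocks with a central defect group of order `p`

A block `b` of defect one of a group `K`, `π : K → Y` surjective with central kernel of order `p`.
Then `b` contains a unique member `θ` trivial on the kernel, and the block projection on `p`-regular
functions has rank one.
-/

set_option autoImplicit false
set_option linter.unusedSectionVars false
set_option linter.style.haveILetI false

namespace Cfsg.Agent.Lib.Contrib.RankOne

open Cfsg MonoidAlgebra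
open Cfsg.Agent.Lib.Blocks.Local Cfsg.Agent.Lib.Blocks.Central Cfsg.Agent.Lib.Blocks.Quot
open Cfsg.Agent.Lib.Blocks.DomRank
open Cfsg.Agent.Lib.BlockH.Regular Cfsg.Agent.Lib.BlockP.Defect
open Cfsg.Agent.Lib.Char.Ortho Cfsg.Agent.Lib.Char.Basic Cfsg.Agent.Lib.Char.GenLattice
open Cfsg.Agent.Lib.Contrib.Proj Cfsg.Agent.Lib.Contrib.Cyc Cfsg.Agent.Lib.Contrib.Family
open Cfsg.Agent.Lib.Contrib.Sec Cfsg.Agent.Lib.Contrib.Adams Cfsg.Agent.Lib.Contrib.Dom
open scoped ComplexConjugate

universe u

/-- The function `p θ⁰`. -/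
noncomputable def gam {K : Type u} [Group K] (p : ℕ) (θ : K → ℂ) : K → ℂ :=
  fun c => (p : ℂ) * pRegularPart p θ c

theorem classInner_const_left {K : Type*} [Group K] [Fintype K] (a : ℂ) (f g : K → ℂ) :
    classInner (fun c => a * f c) g = a * classInner f g := by
  simp only [classInner_def]
  have h : ∑ c : K, a * f c * conj (g c) = a * ∑ c : K, f c * conj (g c) := by
    rw [Finset.mul_sum]
    refine Fintype.sum_congr _ _ fun c => ?_
    ring
  rw [h]
  ring

theorem classInner_const_right {K : Type*} [Group K] [Fintype K] (a : ℂ) (f g : K → ℂ) :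
    classInner f (fun c => a * g c) = conj a * classInner f g := by
  simp only [classInner_def, map_mul]
  have h : ∑ c : K, f c * (conj a * conj (g c)) = conj a * ∑ c : K, f c * conj (g c) := by
    rw [Finset.mul_sum]
    refine Fintype.sum_congr _ _ fun c => ?_
    ring
  rw [h]
  ring

section Main

variable {K Y : Type u} [Group K] [Group Y] [Fintype K] [Fintype Y] {p : ℕ} [hp : Fact p.Prime]
  (π : K →* Y) (hπ : Function.Surjective π) (hker : IsPGroup p π.ker)
  (hcen : ∀ u ∈ π.ker, ∀ c : K, Commute u c)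
  [Fintype (IrrCharacter K)] [Fintype (IrrCharacter Y)] {M : Ideal AlgInt}

/-- Members of a block of defect zero vanish on `p`-singular elements. -/
theorem eq_zero_of_blockDefect_zero (hM : IsPModular p M) {A : Set (IrrCharacter Y)} (hA : IsPBlock M A)
    (hd : blockDefect p A = 0) {φ : IrrCharacter Y} (hφ : φ ∈ A) {x : Y} (hx : p ∣ orderOf x) :
    (φ : Y → ℂ) x = 0 := by
  classical
  haveI := isPrime_of_pModular hM
  obtain ⟨y, t, hyt, hc, hy, ht⟩ := Cfsg.Agent.Lib.Blocks.PPart.exists_pPart_y (p := p) x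
  have hpp : IsPPart p x y := ⟨t, hyt, hc, hy, ht⟩
  apply Cfsg.Agent.Lib.Blocks.Sections.char_eq_zero_of_forall_notMem_defect hM φ hpp
  intro D hD hyD
  rw [← isPBlock_eq_blockOf hA hφ] at hD
  have hcard := Cfsg.Agent.Lib.Blocks.Inducing.card_eq_pow_blockDefect hM hA hD
  rw [hd, pow_zero] at hcard
  have h1 : D = ⊥ := (Subgroup.eq_bot_iff_card D).mpr hcard
  rw [h1, Subgroup.mem_bot] at hyD
  rw [← hyt, hyD, one_mul] at hx
  exact ht hx

include hπ hcen hker in
/-- **Blocks with a central defect group of order `p`.** -/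
theorem rank_one (hM : IsPModular p M) {b : Set (IrrCharacter K)} (hb : IsPBlock M b)
    (hd : blockDefect p b = 1) (hK : Nat.card π.ker = p) :
    ∃ θ : IrrCharacter K, θ ∈ b ∧ (∀ u ∈ π.ker, (θ : K → ℂ) u = (θ : K → ℂ) 1) ∧
      (∀ θ' ∈ b, (∀ u ∈ π.ker, (θ' : K → ℂ) u = (θ' : K → ℂ) 1) → θ' = θ) ∧
      classInner (gam p (θ : K → ℂ)) (gam p (θ : K → ℂ)) = p ∧
      (∀ f : K → ℂ, IsClassFunction K f →
        PP p b f = fun c => classInner f (gam p (θ : K → ℂ)) * pRegularPart p (θ : K → ℂ) c) ∧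
      (∀ ξ : IrrCharacter K, ∃ n : ℤ, classInner (ξ : K → ℂ) (gam p (θ : K → ℂ)) = n) := by
  classical
  haveI hMp := isPrime_of_pModular hM
  have hpp : p.Prime := hp.out
  obtain ⟨A, hAb, hA⟩ := exists_dominated π hπ hker hcen hM hb
  have hne : A.Nonempty := isPBlock_nonempty hAb
  have hdef := blockDefect_add_le (p := p) π hπ hne hA
  have hfac : (Nat.card π.ker).factorization p = 1 := by
    rw [hK]
    exact hpp.factorization_self
  have hd0 : blockDefect p A = 0 := by omega
  obtain ⟨φ, hφA, hφmin⟩ := exists_minExp p hne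
  have hAφ : A = blockOf M (φ : Y → ℂ) := isPBlock_eq_blockOf hAb hφA
  -- `φ` is alone in its block
  have hsing : blockOf M (φ : Y → ℂ) = {φ} := by
    rw [← Cfsg.Agent.Lib.Blocks.Inducing.blockOf_eq_singleton_iff hM]
    have h1 := Cfsg.Agent.Lib.Blocks.RegPart2.minExp_add_blockDefect (p := p) hφA
    obtain ⟨n, hn⟩ := Cfsg.Agent.Lib.Char.Degree.charDegree_dvd_card φ.2
    have hdpos := Cfsg.Agent.Lib.Char.Degree.charDegree_pos φ.2
    have hnpos : n ≠ 0 := by
      rintro rfl
      rw [mul_zero] at hn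
      exact Nat.card_pos.ne' hn
    have h2 : (Nat.card Y).factorization p =
        (charDegree (φ : Y → ℂ)).factorization p + n.factorization p := by
      rw [hn, Nat.factorization_mul hdpos.ne' hnpos]
      rfl
    have h3 : n.factorization p = 0 := by omega
    have h4 : Nat.card Y / charDegree (φ : Y → ℂ) = n := by
      rw [hn]
      exact Nat.mul_div_cancel_left n hdpos
    rw [h4]
    intro h5
    have := (hpp.dvd_iff_one_le_factorization hnpos).mp h5
    omega
  have hφs : ∀ x, p ∣ orderOf x → (φ : Y → ℂ) x = 0 := fun x hx =>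
    eq_zero_of_blockDefect_zero hM hAb hd0 hφA hx
  set θ : IrrCharacter K := inflI π hπ φ with hθdef
  have hθfun : (θ : K → ℂ) = (φ : Y → ℂ) ∘ π := rfl
  have hθb : θ ∈ b := (hA φ).mp hφA
  have hθker : ∀ u ∈ π.ker, (θ : K → ℂ) u = (θ : K → ℂ) 1 := by
    intro u hu
    rw [hθfun]
    simp only [Function.comp]
    rw [(MonoidHom.mem_ker).mp hu, map_one]
  have huniq : ∀ θ' ∈ b, (∀ u ∈ π.ker, (θ' : K → ℂ) u = (θ' : K → ℂ) 1) → θ' = θ := by
    intro θ' hθ' htr
    obtain ⟨φ', hφ', he⟩ := Cfsg.Agent.Lib.Char.Linear.isIrrCharacter_descend π hπ θ'.2 htr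
    have h1 : θ' = inflI π hπ ⟨φ', hφ'⟩ := Subtype.ext he
    have h2 : (⟨φ', hφ'⟩ : IrrCharacter Y) ∈ A := (hA _).mpr (h1 ▸ hθ')
    rw [hAφ, hsing, Set.mem_singleton_iff] at h2
    rw [h1, h2]
  have hgam : gam p (θ : K → ℂ) = FF (p := p) π (φ : Y → ℂ) := by
    funext c
    simp only [gam, FF, hK]
    rfl
  have hnorm : classInner (gam p (θ : K → ℂ)) (gam p (θ : K → ℂ)) = p := by
    rw [hgam, classInner_FF_FF π hπ hker hcen hφs, hK]
    have : classInner ((φ : Y → ℂ) ∘ π) ((φ : Y → ℂ) ∘ π) = 1 := classInner_self_of_isIrr θ.2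
    rw [this, mul_one]
  refine ⟨θ, hθb, hθker, huniq, hnorm, ?_, ?_⟩
  · intro f hf
    -- the scalars
    letI : Fintype π.ker := Fintype.ofFinite _
    have hbθ : b = blockOf M (θ : K → ℂ) := isPBlock_eq_blockOf hb hθb
    have hC : ∃ k : ℕ, (Subgroup.centralizer ((π.ker : Subgroup K) : Set K)).index = p ^ k := by
      refine ⟨0, ?_⟩
      have : Subgroup.centralizer ((π.ker : Subgroup K) : Set K) = ⊤ := by
        rw [eq_top_iff]
        intro c _
        rw [Subgroup.mem_centralizer_iff]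
        intro u hu
        exact hcen u hu c
      rw [this, Subgroup.index_top, pow_zero]
    have hsc : ∀ ξ : IrrCharacter K, ξ ∈ b → ∃ c : ℂ, ∀ y : K, ¬ p ∣ orderOf y → (ξ : K → ℂ) y = c * (θ : K → ℂ) y := by
      intro ξ hξ
      exact Cfsg.Agent.Lib.BlockT.CenterP.exists_scalar hM (inferInstance : π.ker.Normal) hker hC
        (hbθ ▸ hξ) (fun n => hθker n n.2) (fun θ' hθ' htr => huniq θ' (hbθ ▸ hθ') (fun u hu => htr ⟨u, hu⟩))
    choose! c hc using hsc
    set C : ℂ := ∑ ξ : IrrCharacter K, cc b f ξ * c ξ with hCdef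
    have h1 : PP p b f = fun y => C * pRegularPart p (θ : K → ℂ) y := by
      rw [PP_eq_sum_cc]
      funext y
      simp only [hCdef, Finset.sum_mul]
      refine Fintype.sum_congr _ _ fun ξ => ?_
      by_cases hξ : ξ ∈ b
      · by_cases hy : p ∣ orderOf y
        · rw [part_sing (not_not.mpr hy), part_sing (not_not.mpr hy)]
          simp
        · rw [part_reg hy, part_reg hy, hc ξ hξ y hy]
          ring
      · rw [cc_of_notMem _ hξ]
        simp
    have hp0 : (p : ℂ) ≠ 0 := Nat.cast_ne_zero.mpr hpp.ne_zero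
    have hgam2 : gam p (θ : K → ℂ) = fun c => (p : ℂ) * PP p b (θ : K → ℂ) c := by
      funext c
      rw [PP_irr_of_mem hθb]
      rfl
    have h2 : ∀ g : K → ℂ, classInner g (gam p (θ : K → ℂ)) = p * classInner g (PP p b (θ : K → ℂ)) := by
      intro g
      rw [hgam2, classInner_const_right, Complex.conj_natCast]
    have h3 : classInner f (gam p (θ : K → ℂ)) = classInner (PP p b f) (gam p (θ : K → ℂ)) := by
      rw [h2, h2]
      congr 1
      rw [← conj_classInner, classInner_PP_eq_PP hM hb _ hf, conj_classInner]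
    have h4 : classInner (pRegularPart p (θ : K → ℂ)) (gam p (θ : K → ℂ)) = 1 := by
      have h5 : classInner (gam p (θ : K → ℂ)) (gam p (θ : K → ℂ)) =
          p * classInner (pRegularPart p (θ : K → ℂ)) (gam p (θ : K → ℂ)) :=
        classInner_const_left _ _ _
      rw [hnorm] at h5
      have h6 : (p : ℂ) * 1 = p * classInner (pRegularPart p (θ : K → ℂ)) (gam p (θ : K → ℂ)) := by
        rw [mul_one]
        exact h5
      exact (mul_left_cancel₀ hp0 h6).symm
    have h5 : classInner f (gam p (θ : K → ℂ)) = C := by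
      rw [h3, h1, classInner_const_left, h4, mul_one]
    rw [h1, h5]
  · intro ξ
    obtain ⟨n, hn⟩ := exists_isAd (G := K) hpp
    obtain ⟨m, hm⟩ := exists_int_classInner
      (isGenChar_pow hpp hn (isCharacter_of_isIrrCharacter ξ.2)) (isGenChar_of_isIrr θ.2)
    refine ⟨m, ?_⟩
    rw [hgam, classInner_FF, ← classInner_pow_eq π hπ hker hcen hn _ hφs]
    exact hm

end Main

end Cfsg.Agent.Lib.Contrib.RankOne
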