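import Mathlib
import Cfsg.Agent.Lib.Contrib.RankOne
import Cfsg.Agent.Lib.Contrib.Frame
import Cfsg.Agent.Lib.Blocks.ExtFMT
import Cfsg.Agent.Lib.OddChar.GaloisConj

/-!
# Local analysis for a block of defect one

`w` is an element of order `p`, `K = C_X(w)`.
-/

set_option autoImplicit false
set_option linter.unusedSectionVars false
set_option linter.style.haveILetI false

namespace Cfsg.Agent.Lib.Contrib.D1Loc

open Cfsg MonoidAlgebra
open Cfsg.Agent.Lib.Blocks.Local Cfsg.Agent.Lib.Blocks.Central Cfsg.Agent.Lib.Blocks.Quot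
open Cfsg.Agent.Lib.Blocks.DomRank Cfsg.Agent.Lib.Blocks.Sections
open Cfsg.Agent.Lib.BlockH.Regular Cfsg.Agent.Lib.BlockP.Defect
open Cfsg.Agent.Lib.Char.Ortho Cfsg.Agent.Lib.Char.Basic Cfsg.Agent.Lib.Char.GenLattice
open Cfsg.Agent.Lib.Contrib.Proj Cfsg.Agent.Lib.Contrib.Cyc Cfsg.Agent.Lib.Contrib.Family
open Cfsg.Agent.Lib.Contrib.Sec Cfsg.Agent.Lib.Contrib.Adams Cfsg.Agent.Lib.Contrib.Dom
open Cfsg.Agent.Lib.Contrib.RankOne Cfsg.Agent.Lib.Contrib.Section
open scoped ComplexConjugate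

universe u

section Power

variable {X : Type u} [Group X] [Finite X] {p : ℕ}

/-- The power map acting as a generator of `(ℤ/p)ˣ` on elements of order `p`, and trivially on
`p`-regular elements. -/
theorem exists_t [hp : Fact p.Prime] :
    ∃ t : ℕ, t.Coprime (Nat.card X) ∧ t.Coprime p ∧ (∀ y : X, ¬ p ∣ orderOf y → y ^ t = y) ∧
      ∀ i : ℕ, i.Coprime p → ∃ j : ℕ, t ^ j ≡ i [MOD p] := by
  have hpp : p.Prime := hp.out
  have hN : Nat.card X ≠ 0 := Nat.card_pos.ne'
  set a := (Nat.card X).factorization p with ha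
  set m := Nat.card X / p ^ a with hm
  have hNm : p ^ a * m = Nat.card X := Nat.ordProj_mul_ordCompl_eq_self _ _
  have hpm : ¬ p ∣ m := Nat.not_dvd_ordCompl hpp hN
  have hc : Nat.Coprime p m := (Nat.Prime.coprime_iff_not_dvd hpp).mpr hpm
  obtain ⟨g, hg⟩ := IsCyclic.exists_generator (α := (ZMod p)ˣ)
  obtain ⟨t, h1, h2⟩ := Nat.chineseRemainder hc ((g : ZMod p).val) 1
  have h3 : (t : ZMod p) = (g : ZMod p) := by
    have := (ZMod.natCast_eq_natCast_iff _ _ _).mpr h1
    rwa [ZMod.natCast_zmod_val] at this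
  have htp : t.Coprime p := by
    rw [← ZMod.isUnit_iff_coprime, h3]
    exact g.isUnit
  have htm : t.Coprime m := by
    have := Nat.ModEq.gcd_eq h2
    rw [Nat.gcd_one_left] at this
    exact this
  refine ⟨t, ?_, htp, ?_, ?_⟩
  · rw [← hNm]
    exact Nat.Coprime.mul_right (Nat.Coprime.pow_right _ htp) htm
  · intro y hy
    have hd : orderOf y ∣ p ^ a * m := hNm ▸ orderOf_dvd_natCard y
    have hco : Nat.Coprime (orderOf y) (p ^ a) :=
      (Nat.Coprime.pow_left _ ((Nat.Prime.coprime_iff_not_dvd hpp).mpr hy)).symm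
    have hdm : orderOf y ∣ m := hco.dvd_of_dvd_mul_left hd
    have h4 : t ≡ 1 [MOD orderOf y] := h2.of_dvd hdm
    have := pow_eq_pow_iff_modEq.mpr h4
    rwa [pow_one] at this
  · intro i hi
    have hu : IsUnit (i : ZMod p) := (ZMod.isUnit_iff_coprime i p).mpr hi
    obtain ⟨u, hu⟩ := hu
    have h5 : u ∈ Submonoid.powers g := by
      rw [mem_powers_iff_mem_zpowers]
      exact hg u
    obtain ⟨j, hj⟩ := h5
    refine ⟨j, ?_⟩
    apply (ZMod.natCast_eq_natCast_iff _ _ _).mp
    push_cast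
    rw [h3, ← hu, ← hj]
    simp

end Power

section Cent

variable {X : Type u} [Group X] {w : X}

/-- Centralizing a power of an element of prime order. -/
theorem commute_of_commute_pow {p : ℕ} (hw : orderOf w = p) {e : ℕ} (he : e.Coprime p) {y : X}
    (h : Commute y (w ^ e)) : Commute y w := by
  obtain ⟨a, b, hab⟩ := Nat.isCoprime_iff_coprime.mpr he
  have h1 : w = (w ^ e) ^ a := by
    have e1 : (1 : ℤ) = (e : ℤ) * a + (p : ℤ) * b := by linarith [hab]
    calc w = w ^ (1 : ℤ) := (zpow_one w).symm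
      _ = w ^ ((e : ℤ) * a + (p : ℤ) * b) := by rw [← e1]
      _ = _ := by
        rw [zpow_add, zpow_mul, zpow_mul, zpow_natCast, zpow_natCast, ← hw, pow_orderOf_eq_one,
          one_zpow, mul_one]
  rw [h1]
  exact h.zpow_right a

/-- A conjugator of `w` to one of its powers normalizes the centralizer. -/
theorem mem_normalizer_of_conj {p : ℕ} (hw : orderOf w = p) {e : ℕ} (he : e.Coprime p) {g : X}
    (hg : g * w * g⁻¹ = w ^ e) : g ∈ Subgroup.normalizer ((Subgroup.centralizer ({w} : Set X) : Subgroup X) : Set X) := by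
  rw [Subgroup.mem_normalizer_iff]
  intro y
  simp only [Subgroup.mem_centralizer_singleton_iff]
  constructor
  · intro hy
    have h1 : Commute (g * y * g⁻¹) (w ^ e) := by
      rw [← hg]
      have : Commute y w := (hy : y * w = w * y)
      exact (Commute.conj this g) 
    have := commute_of_commute_pow hw he h1
    exact this
  · intro hy
    have h1 : Commute (g * y * g⁻¹) w := hy
    have h2 : Commute (g * y * g⁻¹) (w ^ e) := h1.pow_right e
    rw [← hg] at h2
    have h3 : Commute y w := SemiconjBy.conj_iff.mp h2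
    exact h3

end Cent

section Loc

/-- The centralizer. -/
abbrev KK {X : Type u} [Group X] (w : X) : Subgroup X := Subgroup.centralizer ({w} : Set X)

/-- The element `w` of its centralizer. -/
def wK {X : Type u} [Group X] (w : X) : KK w := ⟨w, Subgroup.mem_centralizer_singleton_iff.mpr rfl⟩

/-- The shift by a power. -/
def sh {X : Type u} [Group X] (w : X) (i : ℕ) (ψ : X → ℂ) : KK w → ℂ := fun y => ψ (w ^ i * (y : X))

variable {X : Type u} [Group X] [Fintype X] [Fintype (IrrCharacter X)] {p : ℕ} {M : Ideal AlgInt}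
  [hp : Fact p.Prime] {w : X}
  [Fintype (KK w)] [Fintype (IrrCharacter (KK w))]

theorem wK_central (g : KK w) : wK w * g = g * wK w := x_central g

theorem gam_sing {K : Type u} [Group K] (θ : K → ℂ) {c : K} (hc : p ∣ orderOf c) : gam p θ c = 0 := by
  simp only [gam]
  rw [part_sing (not_not.mpr hc), mul_zero]

/-- Pairing with a function vanishing on `p`-singular elements only sees `p`-regular values. -/
theorem classInner_congr_reg {K : Type*} [Group K] [Fintype K] {f f' γ : K → ℂ}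
    (hγ : ∀ c, p ∣ orderOf c → γ c = 0) (h : ∀ c, ¬ p ∣ orderOf c → f c = f' c) :
    classInner f γ = classInner f' γ := by
  simp only [classInner_def]
  congr 1
  refine Fintype.sum_congr _ _ fun c => ?_
  by_cases hc : p ∣ orderOf c
  · rw [hγ c hc]
    simp
  · rw [h c hc]

/-- Values of the central element. -/
theorem irr_wK_pow_mul (ξ : IrrCharacter (KK w)) (i : ℕ) (c : KK w) :
    (ξ : KK w → ℂ) (wK w ^ i * c) = eps w ξ ^ i * (ξ : KK w → ℂ) c := by
  induction i generalizing c with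
  | zero => simp
  | succ i ih =>
    rw [pow_succ, mul_assoc, ih, irr_central_mul ξ wK_central, pow_succ, mul_assoc]
    rfl

/-- Members trivial on `w` are trivial on the subgroup generated by `w`. -/
theorem eq_one_of_mem_zpowers {θ : IrrCharacter (KK w)} (h : (θ : KK w → ℂ) (wK w) = (θ : KK w → ℂ) 1)
    {u : KK w} (hu : u ∈ Subgroup.zpowers (wK w)) : (θ : KK w → ℂ) u = (θ : KK w → ℂ) 1 := by
  have hu' : u ∈ Submonoid.powers (wK w) := by
    rw [mem_powers_iff_mem_zpowers]
    exact hu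
  obtain ⟨i, rfl⟩ := hu'
  have hne := Cfsg.Agent.Lib.Char.Complete.irr_one_ne_zero θ.2
  have h1 : eps w θ = 1 := by
    simp only [eps]
    change (θ : KK w → ℂ) (wK w) / _ = 1
    rw [h, div_self hne]
  have h2 := irr_wK_pow_mul θ i 1
  rw [mul_one, h1, one_pow, one_mul] at h2
  exact h2

theorem orderOf_wK : orderOf (wK w) = orderOf w := by
  simp [wK, ← Subgroup.orderOf_coe]

/-- **Blocks of defect one of the centralizer.** -/
theorem rank_one_K (hM : IsPModular p M) (hw : orderOf w = p) {b : Set (IrrCharacter (KK w))}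
    (hb : IsPBlock M b) (hd : blockDefect p b = 1) :
    ∃ θ : IrrCharacter (KK w), θ ∈ b ∧ (θ : KK w → ℂ) (wK w) = (θ : KK w → ℂ) 1 ∧
      (∀ θ' ∈ b, (θ' : KK w → ℂ) (wK w) = (θ' : KK w → ℂ) 1 → θ' = θ) ∧
      classInner (gam p (θ : KK w → ℂ)) (gam p (θ : KK w → ℂ)) = p ∧
      (∀ f : KK w → ℂ, IsClassFunction (KK w) f →
        PP p b f = fun c => classInner f (gam p (θ : KK w → ℂ)) * pRegularPart p (θ : KK w → ℂ) c) ∧
      (∀ ξ : IrrCharacter (KK w), ∃ n : ℤ, classInner (ξ : KK w → ℂ) (gam p (θ : KK w → ℂ)) = n) := by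
  classical
  set Z := Subgroup.zpowers (wK w) with hZ
  have hZc : ∀ u ∈ Z, ∀ c : KK w, Commute u c := by
    intro u hu c
    obtain ⟨i, rfl⟩ := hu
    have : Commute (wK w) c := wK_central c
    exact this.zpow_left i
  haveI hZn : Z.Normal := ⟨fun n hn g => by
    have : g * n * g⁻¹ = n := by
      have h := (hZc n hn g).eq
      rw [← h, mul_inv_cancel_right]
    rw [this]
    exact hn⟩
  letI : Fintype (KK w ⧸ Z) := Fintype.ofFinite _
  haveI := Cfsg.Agent.Lib.Char.Ortho.finite_irrCharacter (G := KK w ⧸ Z)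
  letI : Fintype (IrrCharacter (KK w ⧸ Z)) := Fintype.ofFinite _
  let π : KK w →* KK w ⧸ Z := QuotientGroup.mk' Z
  have hπ : Function.Surjective π := QuotientGroup.mk'_surjective Z
  have hkerZ : π.ker = Z := QuotientGroup.ker_mk' Z
  have hcard : Nat.card Z = p := by
    rw [hZ, Nat.card_zpowers, orderOf_wK, hw]
  have hK : Nat.card π.ker = p := by
    rw [hkerZ, hcard]
  have hker : IsPGroup p π.ker := by
    rw [hkerZ]
    apply IsPGroup.of_card (n := 1)
    rw [hcard, pow_one]
  have hcen : ∀ u ∈ π.ker, ∀ c : KK w, Commute u c := by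
    intro u hu c
    rw [hkerZ] at hu
    exact hZc u hu c
  have hm : wK w ∈ π.ker := by
    rw [hkerZ]
    exact Subgroup.mem_zpowers _
  obtain ⟨θ, hθb, hθ, huniq, hnorm, hPP, hint⟩ := rank_one π hπ hker hcen hM hb hd hK
  refine ⟨θ, hθb, hθ _ hm, fun θ' hθ' h => huniq θ' hθ' (fun u hu => ?_), hnorm, hPP, hint⟩
  rw [hkerZ] at hu
  exact eq_one_of_mem_zpowers h hu

/-- The value of the shift in terms of the constituents of the restriction. -/
theorem classInner_sh (ψ : IrrCharacter X) (i : ℕ) (γ : KK w → ℂ) :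
    classInner (sh w i (ψ : X → ℂ)) γ = ∑ ξ : IrrCharacter (KK w),
      (classInner (fun c : KK w => (ψ : X → ℂ) c) (ξ : KK w → ℂ) * eps w ξ ^ i) * classInner (ξ : KK w → ℂ) γ := by
  classical
  have hcl : IsClassFunction (KK w) (fun c : KK w => (ψ : X → ℂ) c) :=
    isClassFunction_of_isCharacter
      (isCharacter_restrict (KK w) (isCharacter_of_isIrrCharacter ψ.2))
  have h1 := Cfsg.Agent.Lib.Char.Complete.classFunction_eq_sum hcl
  have h2 : sh w i (ψ : X → ℂ) = fun y => ∑ ξ : IrrCharacter (KK w),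
      (classInner (fun c : KK w => (ψ : X → ℂ) c) (ξ : KK w → ℂ) * eps w ξ ^ i) * (ξ : KK w → ℂ) y := by
    funext y
    have h3 := congrFun h1 (wK w ^ i * y)
    simp only [Finset.sum_apply, Pi.smul_apply, smul_eq_mul, irr_wK_pow_mul] at h3
    simp only [sh]
    have h4 : ((wK w ^ i * y : KK w) : X) = w ^ i * (y : X) := by
      simp [wK]
    rw [h4] at h3
    rw [h3]
    refine Fintype.sum_congr _ _ fun ξ => ?_
    ring
  rw [h2, Cfsg.Agent.Lib.Contrib.Proj.classInner_linear]

/-- Integrality of the shifted numbers. -/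
theorem classInner_sh_mem (hw : orderOf w = p) (ψ : IrrCharacter X) (i : ℕ) {γ : KK w → ℂ}
    (hγ : ∀ ξ : IrrCharacter (KK w), ∃ n : ℤ, classInner (ξ : KK w → ℂ) γ = n) :
    classInner (sh w i (ψ : X → ℂ)) γ ∈ Zr p := by
  rw [classInner_sh]
  refine sum_mem fun ξ _ => ?_
  obtain ⟨n, hn⟩ := hγ ξ
  obtain ⟨a, ha⟩ := exists_nat_classInner
    (isCharacter_restrict (KK w) (isCharacter_of_isIrrCharacter ψ.2))
    (isCharacter_of_isIrrCharacter ξ.2)
  rw [hn]
  refine mul_mem (mul_mem ?_ (pow_mem (root_mem_Zr (eps_pow (by rw [← hw]; exact pow_orderOf_eq_one w) ξ)) i))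
    (intCast_mem_Zr n)
  have : classInner (fun c : KK w => (ψ : X → ℂ) c) (ξ : KK w → ℂ) = a := ha
  rw [this]
  exact natCast_mem_Zr a

/-- The shifted numbers are congruent. -/
theorem classInner_sh_sub_mem (hM : IsPModular p M) (hw : orderOf w = p) (ψ : IrrCharacter X) (i i' : ℕ)
    {γ : KK w → ℂ} (hγ : ∀ ξ : IrrCharacter (KK w), ∃ n : ℤ, classInner (ξ : KK w → ℂ) γ = n) :
    MemLocalIdeal M (classInner (sh w i (ψ : X → ℂ)) γ - classInner (sh w i' (ψ : X → ℂ)) γ) := by
  classical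
  haveI := isPrime_of_pModular hM
  rw [classInner_sh, classInner_sh, ← Finset.sum_sub_distrib]
  refine memLocalIdeal_sum _ _ fun ξ _ => ?_
  obtain ⟨n, hn⟩ := hγ ξ
  obtain ⟨a, ha⟩ := exists_nat_classInner
    (isCharacter_restrict (KK w) (isCharacter_of_isIrrCharacter ψ.2))
    (isCharacter_of_isIrrCharacter ξ.2)
  have ha' : classInner (fun c : KK w => (ψ : X → ℂ) c) (ξ : KK w → ℂ) = a := ha
  rw [hn, ha']
  have hroot : eps w ξ ^ p ^ 1 = 1 := by
    rw [pow_one]
    exact eps_pow (by rw [← hw]; exact pow_orderOf_eq_one w) ξ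
  have h1 : ∀ j : ℕ, MemLocalIdeal M (eps w ξ ^ j - 1) := by
    intro j
    refine root_sub_one_mem (k := 1) hM ?_
    rw [← pow_mul, mul_comm, pow_mul, hroot, one_pow]
  have h2 : (a : ℂ) * eps w ξ ^ i * n - (a : ℂ) * eps w ξ ^ i' * n =
      ((a : ℂ) * n) * ((eps w ξ ^ i - 1) - (eps w ξ ^ i' - 1)) := by ring
  rw [h2]
  refine memLocalIdeal_mul_left ?_ (memLocalIdeal_sub (h1 i) (h1 i'))
  exact memLocalRing_mul (memLocalRing_natCast _) (memLocalRing_intCast _)

/-- Parseval. -/
theorem sum_inner_irr {K : Type*} [Group K] [Fintype K] [Fintype (IrrCharacter K)] (u : K → ℂ) {v : K → ℂ}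
    (hv : IsClassFunction K v) :
    ∑ ξ : IrrCharacter K, classInner u (ξ : K → ℂ) * classInner (ξ : K → ℂ) v = classInner u v := by
  have h1 := Cfsg.Agent.Lib.Char.Complete.classFunction_eq_sum hv
  have h2 : v = fun y => ∑ ξ : IrrCharacter K, classInner v (ξ : K → ℂ) * (ξ : K → ℂ) y := by
    funext y
    have := congrFun h1 y
    simpa [Finset.sum_apply] using this
  conv_rhs => rw [h2]
  rw [classInner_linear_right]
  refine Fintype.sum_congr _ _ fun ξ => ?_
  rw [conj_classInner, mul_comm]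

/-- The bilinear sum over a block of a section. -/
theorem sum_inner_vt (hM : IsPModular p M) (hw : ∃ k : ℕ, orderOf w = p ^ k) {A : Set (IrrCharacter X)}
    (hA : IsPBlock M A) [Fintype A] {u v : KK w → ℂ} (hu : ∀ c, p ∣ orderOf c → u c = 0)
    (hv : ∀ c, p ∣ orderOf c → v c = 0) (hvc : IsClassFunction (KK w) v)
    (huA : ∀ ξ : IrrCharacter (KK w), ξ ∉ indUnion M (KK w) A → classInner u (ξ : KK w → ℂ) = 0) :
    ∑ a : A, classInner u (vt w (a : IrrCharacter X)) * classInner (vt w (a : IrrCharacter X)) v =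
      classInner u v := by
  classical
  haveI := isPrime_of_pModular hM
  have h1 := sum_inner_mul_inner (Finset.univ : Finset A) (fun a : A => vt w (a : IrrCharacter X)) u v
  have h2 := sum_inner_mul_inner (Finset.univ.filter (· ∈ indUnion M (KK w) A))
    (fun ξ : IrrCharacter (KK w) => (ξ : KK w → ℂ)) u v
  rw [h1, ← sum_inner_irr u hvc]
  have h3 : ∑ ξ : IrrCharacter (KK w), classInner u (ξ : KK w → ℂ) * classInner (ξ : KK w → ℂ) v =
      ∑ ξ ∈ Finset.univ.filter (· ∈ indUnion M (KK w) A),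
        classInner u (ξ : KK w → ℂ) * classInner (ξ : KK w → ℂ) v := by
    rw [Finset.sum_filter]
    refine Fintype.sum_congr _ _ fun ξ => ?_
    split_ifs with h
    · rfl
    · rw [huA ξ h, zero_mul]
  rw [h3, h2]
  congr 1
  refine Fintype.sum_congr _ _ fun c => Fintype.sum_congr _ _ fun c' => ?_
  by_cases hc : p ∣ orderOf c
  · rw [hu c hc]
    simp
  by_cases hc' : p ∣ orderOf c'
  · rw [hv c' hc']
    simp
  congr 1
  have h4 := Cfsg.Agent.Lib.Blocks.NormSum.section_sum_eq hM hw hA c' c hc' hc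
  rw [Finset.sum_filter, ← h4]
  exact sum_subtype_eq (B := A) (fun ζ => vt w ζ c' * conj (vt w ζ c))

theorem classInner_comp_mulEquiv {K : Type*} [Group K] [Fintype K] (e : K ≃* K) (f h : K → ℂ) :
    classInner (f ∘ e) (h ∘ e) = classInner f h := by
  simp only [classInner_def, Function.comp]
  congr 1
  exact Equiv.sum_comp e.toEquiv (fun c => f c * conj (h c))

open Cfsg.Agent.Lib.Blocks.ExtFMT Cfsg.Agent.Lib.BlockH.Pairs in
theorem gam_conjI {g : X} (hg : g ∈ Subgroup.normalizer ((KK w : Subgroup X) : Set X)) (θ : IrrCharacter (KK w)) :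
    gam p (conjI hg θ : KK w → ℂ) = gam p (θ : KK w → ℂ) ∘ conjOfNormalizer hg := by
  funext c
  simp only [gam, Function.comp]
  congr 1
  have h1 : orderOf (conjOfNormalizer hg c) = orderOf c := MulEquiv.orderOf_eq _ c
  by_cases hc : p ∣ orderOf c
  · rw [part_sing (not_not.mpr hc), part_sing (by rw [h1]; exact not_not.mpr hc)]
  · rw [part_reg hc, part_reg (by rw [h1]; exact hc)]
    rfl

open Cfsg.Agent.Lib.Blocks.ExtFMT Cfsg.Agent.Lib.BlockH.Pairs in
/-- Conjugating the member of the block amounts to taking a power in the section. -/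
theorem classInner_vt_conjI {g : X} (hg : g ∈ Subgroup.normalizer ((KK w : Subgroup X) : Set X)) {r : ℕ}
    (hr : g * w * g⁻¹ = w ^ r) (ψ : IrrCharacter X) (θ : IrrCharacter (KK w)) :
    classInner (vt w ψ) (gam p (conjI hg θ : KK w → ℂ)) = classInner (sh w r (ψ : X → ℂ)) (gam p (θ : KK w → ℂ)) := by
  have h1 : vt w ψ = sh w r (ψ : X → ℂ) ∘ conjOfNormalizer hg := by
    funext y
    simp only [vt, sh, Function.comp]
    have h2 : w ^ r * ((conjOfNormalizer hg y : KK w) : X) = g * (w * (y : X)) * g⁻¹ := by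
      rw [← hr, coe_conjOfNormalizer]
      group
    rw [h2]
    exact (isClassFunction_of_isIrrCharacter ψ.2 _ g).symm
  rw [gam_conjI, h1, classInner_comp_mulEquiv]

end Loc

end Cfsg.Agent.Lib.Contrib.D1Loc
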