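import Mathlib
import Cfsg.Agent.Lib.Contrib.D1Loc
import Cfsg.Agent.Lib.BlockT.Inflate2
import Cfsg.Agent.S4710

/-!
# Families for blocks of defect one

A block `A` of defect one of a group `X`: the `p`-regular vanishing conditions, the power map
permuting `A`, and the frame.
-/

set_option autoImplicit false
set_option linter.unusedSectionVars false
set_option linter.style.haveILetI false

namespace Cfsg.Agent.Lib.Contrib.D1Main

open Cfsg MonoidAlgebra
open Cfsg.Agent.Lib.Blocks.Local Cfsg.Agent.Lib.Blocks.Central Cfsg.Agent.Lib.Blocks.Quot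
open Cfsg.Agent.Lib.Blocks.DomRank Cfsg.Agent.Lib.Blocks.Sections
open Cfsg.Agent.Lib.BlockH.Regular Cfsg.Agent.Lib.BlockP.Defect
open Cfsg.Agent.Lib.Char.Ortho Cfsg.Agent.Lib.Char.Basic Cfsg.Agent.Lib.Char.GenLattice
open Cfsg.Agent.Lib.Contrib.Proj Cfsg.Agent.Lib.Contrib.Cyc Cfsg.Agent.Lib.Contrib.Family
open Cfsg.Agent.Lib.Contrib.Sec Cfsg.Agent.Lib.Contrib.Adams Cfsg.Agent.Lib.Contrib.Dom
open Cfsg.Agent.Lib.Contrib.RankOne Cfsg.Agent.Lib.Contrib.Section Cfsg.Agent.Lib.Contrib.D1Loc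
open Cfsg.Agent.Lib.Contrib.Frame
open scoped ComplexConjugate

universe u

section Twist

variable {X : Type u} [Group X] [Fintype X] [Fintype (IrrCharacter X)] {p : ℕ} {M : Ideal AlgInt}
  [hp : Fact p.Prime] {t : ℕ}

/-- The power twist. -/
noncomputable def twI (ht : t.Coprime (Nat.card X)) (χ : IrrCharacter X) : IrrCharacter X :=
  ⟨fun g => (χ : X → ℂ) (g ^ t), Cfsg.Agent.Lib.OddChar.GaloisConj.isIrrCharacter_pow ht χ.2⟩

@[simp] theorem twI_apply (ht : t.Coprime (Nat.card X)) (χ : IrrCharacter X) (g : X) :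
    (twI ht χ : X → ℂ) g = (χ : X → ℂ) (g ^ t) := rfl

theorem twI_injective (ht : t.Coprime (Nat.card X)) : Function.Injective (twI ht) := by
  intro χ ψ h
  apply Subtype.ext
  funext g
  obtain ⟨g', rfl⟩ := (Cfsg.Agent.Lib.OddChar.GaloisConj.pow_bijective_of_coprime ht).2 g
  exact congrFun (congrArg Subtype.val h) g'

theorem twI_sameBlock (hM : IsPModular p M) (ht : t.Coprime (Nat.card X))
    (hfix : ∀ y : X, ¬ p ∣ orderOf y → y ^ t = y) (χ : IrrCharacter X) :
    SameBlock M (χ : X → ℂ) (twI ht χ : X → ℂ) := by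
  haveI := isPrime_of_pModular hM
  apply Cfsg.Agent.Lib.BlockT.Inflate2.sameBlock_of_regular hM
  intro g hg
  have h : centralChar (χ : X → ℂ) g = centralChar (twI ht χ : X → ℂ) g := by
    simp only [centralChar, twI_apply, hfix g hg, one_pow]
  rw [h, sub_self]
  exact memLocalIdeal_zero

theorem twI_mem (hM : IsPModular p M) (ht : t.Coprime (Nat.card X))
    (hfix : ∀ y : X, ¬ p ∣ orderOf y → y ^ t = y) {A : Set (IrrCharacter X)} (hA : IsPBlock M A)
    {χ : IrrCharacter X} (hχ : χ ∈ A) : twI ht χ ∈ A := by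
  haveI := isPrime_of_pModular hM
  rw [isPBlock_eq_blockOf hA hχ]
  exact twI_sameBlock hM ht hfix χ

/-- The permutation of the block. -/
noncomputable def tauA (hM : IsPModular p M) (ht : t.Coprime (Nat.card X))
    (hfix : ∀ y : X, ¬ p ∣ orderOf y → y ^ t = y) {A : Set (IrrCharacter X)} (hA : IsPBlock M A)
    [Fintype A] : Equiv.Perm A :=
  Equiv.ofBijective (fun ψ : A => ⟨twI ht (ψ : IrrCharacter X), twI_mem hM ht hfix hA ψ.2⟩)
    (Finite.injective_iff_bijective.mp fun _ _ h =>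
      Subtype.ext (twI_injective ht (congrArg Subtype.val h)))

theorem tauA_apply (hM : IsPModular p M) (ht : t.Coprime (Nat.card X))
    (hfix : ∀ y : X, ¬ p ∣ orderOf y → y ^ t = y) {A : Set (IrrCharacter X)} (hA : IsPBlock M A)
    [Fintype A] (ψ : A) (g : X) :
    (((tauA hM ht hfix hA ψ : A) : IrrCharacter X) : X → ℂ) g = ((ψ : IrrCharacter X) : X → ℂ) (g ^ t) := rfl

theorem tauA_pow_apply (hM : IsPModular p M) (ht : t.Coprime (Nat.card X))
    (hfix : ∀ y : X, ¬ p ∣ orderOf y → y ^ t = y) {A : Set (IrrCharacter X)} (hA : IsPBlock M A)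
    [Fintype A] (j : ℕ) (ψ : A) (g : X) :
    ((((tauA hM ht hfix hA ^ j) ψ : A) : IrrCharacter X) : X → ℂ) g =
      ((ψ : IrrCharacter X) : X → ℂ) (g ^ (t ^ j)) := by
  induction j generalizing ψ g with
  | zero => simp
  | succ j ih =>
    rw [pow_succ, Equiv.Perm.mul_apply, ih, tauA_apply, ← pow_mul, pow_succ]

theorem pow_t_pow_of_regular (hfix : ∀ y : X, ¬ p ∣ orderOf y → y ^ t = y) (j : ℕ) {y : X}
    (hy : ¬ p ∣ orderOf y) : y ^ (t ^ j) = y := by
  induction j with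
  | zero => simp
  | succ j ih => rw [pow_succ, pow_mul, ih, hfix y hy]

/-- Members of a block of defect one vanish when the `p`-part has order bigger than `p`. -/
theorem char_eq_zero_of_pow_ne (hM : IsPModular p M) {A : Set (IrrCharacter X)} (hA : IsPBlock M A)
    (hd : blockDefect p A = 1) {ψ : IrrCharacter X} (hψ : ψ ∈ A) {g x : X} (hx : IsPPart p g x)
    (hxp : x ^ p ≠ 1) : (ψ : X → ℂ) g = 0 := by
  classical
  haveI := isPrime_of_pModular hM
  apply char_eq_zero_of_forall_notMem_defect hM ψ hx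
  intro D hD hxD
  rw [← isPBlock_eq_blockOf hA hψ] at hD
  have hcard := Cfsg.Agent.Lib.Blocks.Inducing.card_eq_pow_blockDefect hM hA hD
  rw [hd, pow_one] at hcard
  apply hxp
  have h1 := pow_card_eq_one' (x := (⟨x, hxD⟩ : D))
  rw [hcard] at h1
  simpa using congrArg Subtype.val h1

/-- The permutation has exponent dividing `p - 1`. -/
theorem tauA_pow_sub_one (hM : IsPModular p M) (ht : t.Coprime (Nat.card X)) (htp : t.Coprime p)
    (hfix : ∀ y : X, ¬ p ∣ orderOf y → y ^ t = y) {A : Set (IrrCharacter X)} (hA : IsPBlock M A)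
    [Fintype A] (hd : blockDefect p A = 1) : tauA hM ht hfix hA ^ (p - 1) = 1 := by
  classical
  have hpp : p.Prime := hp.out
  have hfer : t ^ (p - 1) ≡ 1 [MOD p] := by
    have := Nat.ModEq.pow_totient htp
    rwa [Nat.totient_prime hpp] at this
  ext1 ψ
  apply Subtype.ext
  apply Subtype.ext
  funext g
  rw [tauA_pow_apply]
  change _ = ((ψ : IrrCharacter X) : X → ℂ) g
  obtain ⟨x, y, hxy, hc, hxo, hy⟩ := Cfsg.Agent.Lib.Blocks.PPart.exists_pPart_y (p := p) g
  by_cases hxp : x ^ p = 1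
  · have h1 : x ^ (t ^ (p - 1)) = x := by
      have h2 : orderOf x ∣ p := orderOf_dvd_of_pow_eq_one hxp
      have h3 : t ^ (p - 1) ≡ 1 [MOD orderOf x] := hfer.of_dvd h2
      have := pow_eq_pow_iff_modEq.mpr h3
      rwa [pow_one] at this
    rw [← hxy, hc.mul_pow, h1, pow_t_pow_of_regular hfix _ hy]
  · have hpart : IsPPart p g x := ⟨y, hxy, hc, hxo, hy⟩
    have h0 : ((ψ : IrrCharacter X) : X → ℂ) g = 0 := char_eq_zero_of_pow_ne hM hA hd ψ.2 hpart hxp
    rw [h0]
    have h2 := char_eq_zero_of_pow_ne hM hA hd ((tauA hM ht hfix hA ^ (p - 1)) ψ).2 hpart hxp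
    rwa [tauA_pow_apply] at h2

end Twist

section Local

variable {X : Type u} [Group X] [Fintype X] [Fintype (IrrCharacter X)] {p : ℕ} {M : Ideal AlgInt}
  [hp : Fact p.Prime] {w : X} [Fintype (KK w)] [Fintype (IrrCharacter (KK w))]

theorem exists_induced_b (hM : IsPModular p M) (hw : orderOf w = p) {A : Set (IrrCharacter X)}
    (hA : IsPBlock M A) (hD : IsDefectGroup p M A (Subgroup.zpowers w)) :
    ∃ b, IsInducedBlock M (KK w) b A := by
  haveI := isPrime_of_pModular hM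
  refine Cfsg.Agent.Lib.Blocks.Defect2.exists_induced_of_le_defect hM
    (Cfsg.Agent.Lib.Blocks.Main.isBrauerPair_zpowers ⟨1, by rw [pow_one, hw]⟩) hA hD (x := 1) ?_
  rintro g ⟨q, hq, rfl⟩
  simpa using hq

theorem blockDefect_of_induced (hM : IsPModular p M) (hw : orderOf w = p) {A : Set (IrrCharacter X)}
    (hD : IsDefectGroup p M A (Subgroup.zpowers w)) {b : Set (IrrCharacter (KK w))}
    (hb : IsInducedBlock M (KK w) b A) : blockDefect p b = 1 := by
  haveI := isPrime_of_pModular hM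
  have hPL := Cfsg.Agent.Lib.Blocks.Main.isBrauerPair_zpowers (p := p) (x := w) ⟨1, by rw [pow_one, hw]⟩
  obtain ⟨D', hD'⟩ := Cfsg.Agent.Lib.Blocks.Defect2.exists_isDefectGroup (p := p) hb.1
  have h1 := Cfsg.Agent.Lib.Blocks.Inducing.defect_eq_subgroupOf hM hPL.normal hPL.le hb hD hD'
  have h2 := Cfsg.Agent.Lib.Blocks.Inducing.card_eq_pow_blockDefect hM hb.1 hD'
  have h3 : Nat.card D' = p := by
    rw [h1, Nat.card_congr (Subgroup.subgroupOfEquivOfLe hPL.le).toEquiv, Nat.card_zpowers, hw]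
  rw [h3] at h2
  have h4 : p ^ 1 = p ^ blockDefect p b := by rw [pow_one]; exact h2
  exact (Nat.pow_right_injective hp.out.two_le h4).symm

theorem exists_pow_of_normalizer (hw : orderOf w = p) {n : X}
    (hn : n ∈ Subgroup.normalizer ((Subgroup.zpowers w : Subgroup X) : Set X)) :
    ∃ r : ℕ, r.Coprime p ∧ n * w * n⁻¹ = w ^ r := by
  have hpp : p.Prime := hp.out
  have h1 : n * w * n⁻¹ ∈ Subgroup.zpowers w :=
    (Subgroup.mem_normalizer_iff.mp hn w).mp (Subgroup.mem_zpowers w)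
  have h2 : n * w * n⁻¹ ∈ Submonoid.powers w := by
    rw [mem_powers_iff_mem_zpowers]
    exact h1
  obtain ⟨r, hr⟩ := h2
  refine ⟨r, ?_, hr.symm⟩
  refine ((Nat.Prime.coprime_iff_not_dvd hpp).mpr fun hd => ?_).symm
  have h3 : w ^ r = 1 := by
    rw [← orderOf_dvd_iff_pow_eq_one, hw]
    exact hd
  have h4 : n * w * n⁻¹ = 1 := by
    change (fun j : ℕ => w ^ j) r = _ at hr
    simp only at hr
    rw [← hr, h3]
  have h5 : w = 1 := by
    have : w = n⁻¹ * (n * w * n⁻¹) * n := by group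
    rw [this, h4]
    group
  rw [h5, orderOf_one] at hw
  exact hpp.one_lt.ne hw

theorem normalizer_le (hw : orderOf w = p) :
    Subgroup.normalizer ((Subgroup.zpowers w : Subgroup X) : Set X) ≤
      Subgroup.normalizer ((KK w : Subgroup X) : Set X) := by
  intro n hn
  obtain ⟨r, hr, h⟩ := exists_pow_of_normalizer hw hn
  exact mem_normalizer_of_conj hw hr h

/-- The shift depends only on the exponent modulo `p`. -/
theorem sh_congr (hw : orderOf w = p) {i i' : ℕ} (h : i ≡ i' [MOD p]) (ψ : X → ℂ) :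
    sh w i ψ = sh w i' ψ := by
  funext y
  simp only [sh]
  rw [pow_eq_pow_iff_modEq.mpr (hw ▸ h)]

theorem vt_eq_sh (ψ : IrrCharacter X) : vt w ψ = sh w 1 (ψ : X → ℂ) := by
  funext y
  simp [vt, sh]

theorem sh_class (i : ℕ) (ψ : IrrCharacter X) : IsClassFunction (KK w) (sh w i (ψ : X → ℂ)) := by
  intro c k
  simp only [sh]
  have h1 : Commute (w ^ i) (k : X) := by
    have : Commute w (k : X) := (Subgroup.mem_centralizer_singleton_iff.mp k.2).symm
    exact this.pow_left i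
  have h2 : w ^ i * ((k * c * k⁻¹ : KK w) : X) = (k : X) * (w ^ i * (c : X)) * (k : X)⁻¹ := by
    push_cast
    have := h1.eq
    calc w ^ i * ((k : X) * (c : X) * (k : X)⁻¹) = (w ^ i * (k : X)) * (c : X) * (k : X)⁻¹ := by group
      _ = ((k : X) * w ^ i) * (c : X) * (k : X)⁻¹ := by rw [this]
      _ = _ := by group
  rw [h2]
  exact isClassFunction_of_isIrrCharacter ψ.2 _ _

theorem gam_class {K : Type*} [Group K] [Fintype K] {θ : K → ℂ} (hθ : IsClassFunction K θ) :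
    IsClassFunction K (gam p θ) := by
  intro g k
  simp only [gam]
  rw [isClassFunction_pRegularPart p hθ]

theorem gam_eq_PP {K : Type*} [Group K] [Fintype K] [Fintype (IrrCharacter K)] {b : Set (IrrCharacter K)}
    {θ : IrrCharacter K} (hθ : θ ∈ b) :
    gam p (θ : K → ℂ) = fun c => (p : ℂ) * PP p b (θ : K → ℂ) c := by
  funext c
  rw [PP_irr_of_mem hθ]
  rfl

/-- Orthogonality of the functions `gam` for different blocks. -/
theorem classInner_gam_gam {K : Type*} [Group K] [Fintype K] [Fintype (IrrCharacter K)]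
    (hM : IsPModular p M) {b : Set (IrrCharacter K)} (hb : IsPBlock M b) {θ θ' : IrrCharacter K}
    (hθ : θ ∈ b) (hθ' : θ' ∉ b) : classInner (gam p (θ : K → ℂ)) (gam p (θ' : K → ℂ)) = 0 := by
  rw [gam_eq_PP hθ, classInner_const_left]
  have h1 : gam p (θ' : K → ℂ) = fun c => (p : ℂ) * pRegularPart p (θ' : K → ℂ) c := rfl
  rw [h1, classInner_const_right, classInner_PP_reg, classInner_PP_eq_zero hM hb _ hθ']
  simp

theorem classInner_gam_eq_zero (hM : IsPModular p M) {A : Set (IrrCharacter X)}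
    {b₀ : Set (IrrCharacter (KK w))} (hb₀ : IsInducedBlock M (KK w) b₀ A) {θ₀ : IrrCharacter (KK w)}
    (hθ₀ : θ₀ ∈ b₀) {ξ : IrrCharacter (KK w)} (hξ : ξ ∉ indUnion M (KK w) A) :
    classInner (gam p (θ₀ : KK w → ℂ)) (ξ : KK w → ℂ) = 0 := by
  haveI := isPrime_of_pModular hM
  have h1 : ξ ∉ b₀ := by
    intro h
    apply hξ
    change IsInducedBlock M (KK w) (blockOf M (ξ : KK w → ℂ)) A
    rw [← isPBlock_eq_blockOf hb₀.1 h]
    exact hb₀
  rw [gam_eq_PP hθ₀, classInner_const_left, classInner_PP_eq_zero hM hb₀.1 _ h1, mul_zero]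

open Cfsg.Agent.Lib.Blocks.ExtFMT Cfsg.Agent.Lib.BlockH.Pairs in
/-- Conjugating the member of the block amounts to taking a power in the section. -/
theorem classInner_sh_conjI {g : X} (hg : g ∈ Subgroup.normalizer ((KK w : Subgroup X) : Set X)) {r : ℕ}
    (hr : g * w * g⁻¹ = w ^ r) (i : ℕ) (ψ : IrrCharacter X) (θ : IrrCharacter (KK w)) :
    classInner (sh w i (ψ : X → ℂ)) (gam p (conjI hg θ : KK w → ℂ)) =
      classInner (sh w (r * i) (ψ : X → ℂ)) (gam p (θ : KK w → ℂ)) := by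
  have h1 : sh w i (ψ : X → ℂ) = sh w (r * i) (ψ : X → ℂ) ∘ conjOfNormalizer hg := by
    funext y
    simp only [sh, Function.comp]
    have h2 : w ^ (r * i) * ((conjOfNormalizer hg y : KK w) : X) = g * (w ^ i * (y : X)) * g⁻¹ := by
      rw [pow_mul, ← hr, coe_conjOfNormalizer, conj_pow]
      group
    rw [h2]
    exact (isClassFunction_of_isIrrCharacter ψ.2 _ g).symm
  rw [gam_conjI, h1, classInner_comp_mulEquiv]

/-- A general expansion of a bilinear sum. -/
theorem sum_inner_mul_inner' {K : Type*} [Group K] [Fintype K] {α : Type*} [Fintype α] (f g : α → K → ℂ)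
    (γ γ' : K → ℂ) :
    ∑ a, classInner (f a) γ * classInner γ' (g a) =
      (Nat.card K : ℂ)⁻¹ * (Nat.card K : ℂ)⁻¹ *
        ∑ c, ∑ c', conj (γ c) * γ' c' * ∑ a, f a c * conj (g a c') := by
  simp only [classInner_def]
  have h1 : ∀ a : α, ((Nat.card K : ℂ)⁻¹ * ∑ c, f a c * conj (γ c)) *
      ((Nat.card K : ℂ)⁻¹ * ∑ c', γ' c' * conj (g a c')) =
      (Nat.card K : ℂ)⁻¹ * (Nat.card K : ℂ)⁻¹ * ∑ c, ∑ c', conj (γ c) * γ' c' * (f a c * conj (g a c')) := by
    intro a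
    have : ∑ c, ∑ c', conj (γ c) * γ' c' * (f a c * conj (g a c')) =
        (∑ c, f a c * conj (γ c)) * ∑ c', γ' c' * conj (g a c') := by
      rw [Finset.sum_mul_sum]
      refine Fintype.sum_congr _ _ fun c => Fintype.sum_congr _ _ fun c' => ?_
      ring
    rw [this]
    ring
  rw [Fintype.sum_congr _ _ h1, ← Finset.mul_sum]
  congr 1
  rw [Finset.sum_comm]
  refine Fintype.sum_congr _ _ fun c => ?_
  rw [Finset.sum_comm]
  refine Fintype.sum_congr _ _ fun c' => ?_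
  rw [Finset.mul_sum]

end Local

section Main

variable {X : Type u} [Group X] [Fintype X] [Fintype (IrrCharacter X)] {p : ℕ} {M : Ideal AlgInt}
  [hp : Fact p.Prime] {w : X} [Fintype (KK w)] [Fintype (IrrCharacter (KK w))]
  {A : Set (IrrCharacter X)} [Fintype A] {t : ℕ}

/-- The vector of section numbers. -/
noncomputable def xx (w : X) [Fintype (KK w)] (γ : KK w → ℂ) (ψ : A) : ℂ :=
  classInner (vt w (ψ : IrrCharacter X)) γ

theorem orderOf_coe_KK (c : KK w) : orderOf (c : X) = orderOf c := Subgroup.orderOf_coe c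

/-- A power of the twist on the section. -/
theorem sh_tau_apply (hM : IsPModular p M) (ht : t.Coprime (Nat.card X))
    (hfix : ∀ y : X, ¬ p ∣ orderOf y → y ^ t = y) (hA : IsPBlock M A) (j i : ℕ) (ψ : A) (c : KK w)
    (hc : ¬ p ∣ orderOf c) :
    sh w i ((((tauA hM ht hfix hA ^ j) ψ : A) : IrrCharacter X) : X → ℂ) c =
      sh w (i * t ^ j) ((ψ : IrrCharacter X) : X → ℂ) c := by
  simp only [sh]
  rw [tauA_pow_apply]
  have hcomm : Commute (w ^ i) (c : X) := by
    have : Commute w (c : X) := (Subgroup.mem_centralizer_singleton_iff.mp c.2).symm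
    exact this.pow_left i
  rw [hcomm.mul_pow, ← pow_mul, pow_t_pow_of_regular hfix j (by rwa [orderOf_coe_KK])]

theorem col_eq (hM : IsPModular p M) (ht : t.Coprime (Nat.card X))
    (hfix : ∀ y : X, ¬ p ∣ orderOf y → y ^ t = y) (hA : IsPBlock M A) {γ : KK w → ℂ}
    (hγ : ∀ c, p ∣ orderOf c → γ c = 0) (j : ℕ) (ψ : A) :
    col (tauA hM ht hfix hA) (xx w γ) j ψ = classInner (sh w (t ^ j) ((ψ : IrrCharacter X) : X → ℂ)) γ := by
  simp only [col, xx]
  rw [vt_eq_sh]
  apply classInner_congr_reg hγ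
  intro c hc
  rw [sh_tau_apply hM ht hfix hA j 1 ψ c hc, one_mul]

theorem gam_sing' {K : Type*} [Group K] (θ : K → ℂ) : ∀ c, p ∣ orderOf c → gam p θ c = 0 :=
  fun _ hc => gam_sing θ hc

theorem ip_xx (hM : IsPModular p M) (hw : orderOf w = p) (hA : IsPBlock M A)
    {b₀ : Set (IrrCharacter (KK w))} (hb₀ : IsInducedBlock M (KK w) b₀ A) {θ₀ : IrrCharacter (KK w)}
    (hθ₀ : θ₀ ∈ b₀) (hnorm : classInner (gam p (θ₀ : KK w → ℂ)) (gam p (θ₀ : KK w → ℂ)) = p) :
    ip (xx (A := A) w (gam p (θ₀ : KK w → ℂ))) (xx w (gam p (θ₀ : KK w → ℂ))) = p := by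
  rw [← hnorm, ← sum_inner_vt hM ⟨1, by rw [pow_one, hw]⟩ hA (gam_sing' _) (gam_sing' _)
    (gam_class (isClassFunction_of_isIrrCharacter θ₀.2))
    (fun ξ hξ => classInner_gam_eq_zero hM hb₀ hθ₀ hξ)]
  simp only [ip, xx]
  refine Fintype.sum_congr _ _ fun a => ?_
  rw [conj_classInner, mul_comm]

/-- Orthogonality on sections of different classes. -/
theorem sum_section_eq_zero (hM : IsPModular p M) (hw : orderOf w = p) (hA : IsPBlock M A) {e : ℕ}
    (he : e.Coprime p) (hn : ¬ IsConj (w ^ e) w) (c c' : KK w) (hc : ¬ p ∣ orderOf c)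
    (hc' : ¬ p ∣ orderOf c') :
    ∑ a : A, sh w e ((a : IrrCharacter X) : X → ℂ) c * conj (vt w (a : IrrCharacter X) c') = 0 := by
  classical
  haveI := isPrime_of_pModular hM
  have h1 : Commute w (c : X) := (Subgroup.mem_centralizer_singleton_iff.mp c.2).symm
  have h2 : Commute w (c' : X) := (Subgroup.mem_centralizer_singleton_iff.mp c'.2).symm
  have ho : orderOf (w ^ e) = p := by
    rw [Nat.Coprime.orderOf_pow (by rw [hw]; exact he.symm), hw]
  have hg : IsPPart p (w ^ e * (c : X)) (w ^ e) :=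
    ⟨c, rfl, h1.pow_left e, ⟨1, by rw [pow_one, ho]⟩, by rwa [orderOf_coe_KK]⟩
  have hh : IsPPart p (w * (c' : X)) w :=
    ⟨c', rfl, h2, ⟨1, by rw [pow_one, hw]⟩, by rwa [orderOf_coe_KK]⟩
  have h3 := Cfsg.Agent.Lib.Blocks.Heights.block_orthogonality_section hM hg hh hn hA
  rw [finsum_mem_eq_sum_ite] at h3
  rw [sum_subtype_eq (B := A) (fun ζ => sh w e (ζ : X → ℂ) c * conj (vt w ζ c'))]
  refine Eq.trans (Fintype.sum_congr _ _ fun ζ => ?_) h3
  split_ifs
  · rw [char_inv_eq_conj (isCharacter_of_isIrrCharacter ζ.2)]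
    rfl
  · rfl

open Cfsg.Agent.Lib.Blocks.ExtFMT Cfsg.Agent.Lib.BlockH.Pairs in
/-- A member trivial on `w` stays trivial on `w` under conjugation. -/
theorem conjI_trivial {θ₀ : IrrCharacter (KK w)} (htriv : (θ₀ : KK w → ℂ) (wK w) = (θ₀ : KK w → ℂ) 1)
    {g : X} (hg : g ∈ Subgroup.normalizer ((KK w : Subgroup X) : Set X)) {e : ℕ}
    (he : g * w * g⁻¹ = w ^ e) :
    (conjI hg θ₀ : KK w → ℂ) (wK w) = (conjI hg θ₀ : KK w → ℂ) 1 := by
  rw [conjI_apply, conjI_apply, map_one]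
  have h1 : conjOfNormalizer hg (wK w) = wK w ^ e := by
    apply Subtype.ext
    rw [coe_conjOfNormalizer]
    simp only [wK, he]
    simp
  rw [h1]
  exact eq_one_of_mem_zpowers htriv (pow_mem (Subgroup.mem_zpowers _) e)

open Cfsg.Agent.Lib.Blocks.ExtFMT Cfsg.Agent.Lib.BlockH.Pairs in
/-- **The dichotomy for the translates.** -/
theorem dichotomy (hM : IsPModular p M) (hw : orderOf w = p) (hA : IsPBlock M A)
    {b₀ : Set (IrrCharacter (KK w))} (hb₀ : IsInducedBlock M (KK w) b₀ A) {θ₀ : IrrCharacter (KK w)}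
    (hθ₀ : θ₀ ∈ b₀) (htriv : (θ₀ : KK w → ℂ) (wK w) = (θ₀ : KK w → ℂ) 1)
    (huniq : ∀ θ' ∈ b₀, (θ' : KK w → ℂ) (wK w) = (θ' : KK w → ℂ) 1 → θ' = θ₀)
    {e : ℕ} (he : e.Coprime p) :
    (∀ ψ : A, classInner (sh w e ((ψ : IrrCharacter X) : X → ℂ)) (gam p (θ₀ : KK w → ℂ)) =
        xx w (gam p (θ₀ : KK w → ℂ)) ψ) ∨
      ∑ ψ : A, classInner (sh w e ((ψ : IrrCharacter X) : X → ℂ)) (gam p (θ₀ : KK w → ℂ)) *
        conj (xx w (gam p (θ₀ : KK w → ℂ)) ψ) = 0 := by
  classical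
  by_cases hc : IsConj w (w ^ e)
  · obtain ⟨g, hg⟩ := isConj_iff.mp hc
    have hgN := mem_normalizer_of_conj hw he hg
    have key : ∀ ψ : IrrCharacter X, classInner (sh w e (ψ : X → ℂ)) (gam p (θ₀ : KK w → ℂ)) =
        classInner (vt w ψ) (gam p (conjI hgN θ₀ : KK w → ℂ)) :=
      fun ψ => (classInner_vt_conjI hgN hg ψ θ₀).symm
    have htr := conjI_trivial htriv hgN hg
    by_cases hmem : conjI hgN θ₀ ∈ b₀
    · left
      intro ψ
      have h1 := huniq _ hmem htr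
      rw [key, h1]
      rfl
    · right
      have h1 : ∀ ψ : A, classInner (sh w e ((ψ : IrrCharacter X) : X → ℂ)) (gam p (θ₀ : KK w → ℂ)) *
          conj (xx w (gam p (θ₀ : KK w → ℂ)) ψ) =
          classInner (gam p (θ₀ : KK w → ℂ)) (vt w (ψ : IrrCharacter X)) *
            classInner (vt w (ψ : IrrCharacter X)) (gam p (conjI hgN θ₀ : KK w → ℂ)) := by
        intro ψ
        rw [key, xx, conj_classInner, mul_comm]
      rw [Fintype.sum_congr _ _ h1, sum_inner_vt hM ⟨1, by rw [pow_one, hw]⟩ hA (gam_sing' _) (gam_sing' _)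
        (gam_class (isClassFunction_of_isIrrCharacter (conjI hgN θ₀).2))
        (fun ξ hξ => classInner_gam_eq_zero hM hb₀ hθ₀ hξ)]
      exact classInner_gam_gam hM hb₀.1 hθ₀ hmem
  · right
    have hne : ¬ IsConj (w ^ e) w := fun h => hc h.symm
    have h1 : ∀ ψ : A, classInner (sh w e ((ψ : IrrCharacter X) : X → ℂ)) (gam p (θ₀ : KK w → ℂ)) *
        conj (xx w (gam p (θ₀ : KK w → ℂ)) ψ) =
        classInner (sh w e ((ψ : IrrCharacter X) : X → ℂ)) (gam p (θ₀ : KK w → ℂ)) *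
          classInner (gam p (θ₀ : KK w → ℂ)) (vt w (ψ : IrrCharacter X)) := by
      intro ψ
      rw [xx, conj_classInner]
    rw [Fintype.sum_congr _ _ h1, sum_inner_mul_inner']
    have h2 : ∀ c c' : KK w, conj (gam p (θ₀ : KK w → ℂ) c) * gam p (θ₀ : KK w → ℂ) c' *
        ∑ a : A, sh w e ((a : IrrCharacter X) : X → ℂ) c * conj (vt w (a : IrrCharacter X) c') = 0 := by
      intro c c'
      by_cases hcs : p ∣ orderOf c
      · rw [gam_sing _ hcs]
        simp
      by_cases hcs' : p ∣ orderOf c'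
      · rw [gam_sing _ hcs']
        simp
      rw [sum_section_eq_zero hM hw hA he hne c c' hcs hcs', mul_zero]
    simp only [h2]
    simp

/-- Projection to a block that does not induce `A`. -/
theorem PP_sh_of_not_induced (hM : IsPModular p M) (hw : orderOf w = p) (ht : t.Coprime (Nat.card X))
    (hfix : ∀ y : X, ¬ p ∣ orderOf y → y ^ t = y) (hgen : ∀ i : ℕ, i.Coprime p → ∃ j : ℕ, t ^ j ≡ i [MOD p])
    (hA : IsPBlock M A) {b : Set (IrrCharacter (KK w))} (hb : IsPBlock M b)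
    (hnot : ¬ IsInducedBlock M (KK w) b A) {i : ℕ} (hi : i.Coprime p) (ψ : A) :
    PP p b (sh w i ((ψ : IrrCharacter X) : X → ℂ)) = 0 := by
  obtain ⟨j, hj⟩ := hgen i hi
  have h1 : PP p b (sh w i ((ψ : IrrCharacter X) : X → ℂ)) =
      PP p b (vt w (((tauA hM ht hfix hA ^ j) ψ : A) : IrrCharacter X)) := by
    apply PP_congr hM hb
    intro y hy
    rw [vt_eq_sh, sh_tau_apply hM ht hfix hA j 1 ψ y hy, one_mul, sh_congr hw hj]
  rw [h1]
  funext y
  by_cases hy : p ∣ orderOf y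
  · simp only [PP]
    exact part_sing (not_not.mpr hy)
  · rw [PP, part_reg hy]
    exact Cfsg.Agent.Lib.Blocks.Main.second_main hM ⟨1, by rw [pow_one, hw]⟩ hA
      ((tauA hM ht hfix hA ^ j) ψ).2 hb hnot y hy

open Cfsg.Agent.Lib.Blocks.ExtFMT in
/-- Projection to a block that induces `A`. -/
theorem exists_PP_sh_of_induced (hM : IsPModular p M) (hw : orderOf w = p)
    (hD : IsDefectGroup p M A (Subgroup.zpowers w))
    {b₀ : Set (IrrCharacter (KK w))} (hb₀ : IsInducedBlock M (KK w) b₀ A) {θ₀ : IrrCharacter (KK w)}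
    (hθ₀ : θ₀ ∈ b₀) (htriv : (θ₀ : KK w → ℂ) (wK w) = (θ₀ : KK w → ℂ) 1)
    {b : Set (IrrCharacter (KK w))} (hb : IsInducedBlock M (KK w) b A) :
    ∃ (r : ℕ) (θ : IrrCharacter (KK w)), r.Coprime p ∧ ∀ (i : ℕ) (ψ : IrrCharacter X),
      PP p b (sh w i (ψ : X → ℂ)) = fun c =>
        classInner (sh w (r * i) (ψ : X → ℂ)) (gam p (θ₀ : KK w → ℂ)) * pRegularPart p (θ : KK w → ℂ) c := by
  classical
  haveI := isPrime_of_pModular hM
  letI : Fintype (Subgroup.normalizer ((Subgroup.zpowers w : Subgroup X) : Set X)) := Fintype.ofFinite _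
  haveI := finite_irrCharacter (G := Subgroup.normalizer ((Subgroup.zpowers w : Subgroup X) : Set X))
  letI : Fintype (IrrCharacter (Subgroup.normalizer ((Subgroup.zpowers w : Subgroup X) : Set X))) :=
    Fintype.ofFinite _
  have hPL := Cfsg.Agent.Lib.Blocks.Main.isBrauerPair_zpowers (p := p) (x := w) ⟨1, by rw [pow_one, hw]⟩
  have hnorm := normalizer_le (p := p) (w := w) hw
  obtain ⟨n, hn, hnb⟩ := exists_conj_of_induced hM hPL hnorm hD hb₀ hb
  obtain ⟨r, hr, hnr⟩ := exists_pow_of_normalizer hw hn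
  have hd := blockDefect_of_induced hM hw hD hb
  obtain ⟨θ, hθ, htr, huq, -, hPP, -⟩ := rank_one_K hM hw hb.1 hd
  have he : conjI (hnorm hn) θ₀ = θ := huq _ (hnb θ₀ hθ₀) (conjI_trivial htriv (hnorm hn) hnr)
  refine ⟨r, θ, hr, fun i ψ => ?_⟩
  rw [hPP _ (sh_class i ψ)]
  funext c
  rw [← he, classInner_sh_conjI (hnorm hn) hnr]

theorem classInner_reg_left {K : Type*} [Group K] [Fintype K] (f h : K → ℂ) :
    classInner (pRegularPart p f) h = classInner f (pRegularPart p h) := by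
  classical
  simp only [classInner_def]
  congr 1
  refine Fintype.sum_congr _ _ fun c => ?_
  by_cases hc : IsPRegular p c
  · rw [pRegularPart_apply, pRegularPart_apply, if_pos hc, if_pos hc]
  · rw [pRegularPart_apply, pRegularPart_apply, if_neg hc, if_neg hc]
    simp

/-- The vanishing on the `p`-regular elements of the centralizer. -/
theorem regular_vanish (hM : IsPModular p M) (hw : orderOf w = p) (ht : t.Coprime (Nat.card X))
    (hfix : ∀ y : X, ¬ p ∣ orderOf y → y ^ t = y) (hgen : ∀ i : ℕ, i.Coprime p → ∃ j : ℕ, t ^ j ≡ i [MOD p])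
    (hA : IsPBlock M A) (hD : IsDefectGroup p M A (Subgroup.zpowers w))
    {b₀ : Set (IrrCharacter (KK w))} (hb₀ : IsInducedBlock M (KK w) b₀ A) {θ₀ : IrrCharacter (KK w)}
    (hθ₀ : θ₀ ∈ b₀) (htriv : (θ₀ : KK w → ℂ) (wK w) = (θ₀ : KK w → ℂ) 1) (u : A → ℂ)
    (hu : ∀ e : ℕ, e.Coprime p →
      ∑ ψ : A, u ψ * classInner (sh w e ((ψ : IrrCharacter X) : X → ℂ)) (gam p (θ₀ : KK w → ℂ)) = 0)
    {i : ℕ} (hi : i.Coprime p) {y : KK w} (hy : ¬ p ∣ orderOf y) :
    ∑ ψ : A, u ψ * ((ψ : IrrCharacter X) : X → ℂ) (w ^ i * (y : X)) = 0 := by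
  classical
  haveI := isPrime_of_pModular hM
  set f : KK w → ℂ := fun c => ∑ ψ : A, u ψ * sh w i ((ψ : IrrCharacter X) : X → ℂ) c with hf
  have hcl : IsClassFunction (KK w) f := by
    intro c k
    simp only [hf]
    refine Fintype.sum_congr _ _ fun ψ => ?_
    rw [sh_class i (ψ : IrrCharacter X)]
  have hPP0 : ∀ b : Set (IrrCharacter (KK w)), IsPBlock M b → PP p b f = 0 := by
    intro b hb
    funext c
    rw [hf, PP_linear]
    by_cases hind : IsInducedBlock M (KK w) b A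
    · obtain ⟨r, θ, hr, hform⟩ := exists_PP_sh_of_induced hM hw hD hb₀ hθ₀ htriv hind
      simp only [hform]
      have h1 := hu (r * i) (Nat.Coprime.mul_left hr hi)
      have h2 : ∑ ψ : A, u ψ * (classInner (sh w (r * i) ((ψ : IrrCharacter X) : X → ℂ)) (gam p (θ₀ : KK w → ℂ)) *
          pRegularPart p (θ : KK w → ℂ) c) =
          (∑ ψ : A, u ψ * classInner (sh w (r * i) ((ψ : IrrCharacter X) : X → ℂ)) (gam p (θ₀ : KK w → ℂ))) *
            pRegularPart p (θ : KK w → ℂ) c := by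
        rw [Finset.sum_mul]
        refine Fintype.sum_congr _ _ fun ψ => ?_
        ring
      rw [h2, h1, zero_mul]
      rfl
    · simp only [PP_sh_of_not_induced hM hw ht hfix hgen hA hb hind hi]
      simp
  have hreg : pRegularPart p f = 0 := by
    apply Cfsg.Agent.Lib.Char.Complete.eq_zero_of_classInner_irr_eq_zero
      (isClassFunction_pRegularPart p hcl)
    intro χ hχ
    have hb : IsPBlock M (blockOf M χ) := ⟨⟨χ, hχ⟩, rfl⟩
    have h1 : pRegularPart p χ = PP p (blockOf M χ) χ :=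
      (PP_irr_of_mem (ξ := ⟨χ, hχ⟩) (mem_blockOf_self (M := M) ⟨χ, hχ⟩)).symm
    rw [classInner_reg_left, h1, ← conj_classInner, classInner_PP_eq_PP hM hb _ hcl, hPP0 _ hb]
    simp [classInner_def]
  have h3 := congrFun hreg y
  rw [part_reg hy] at h3
  exact h3

/-- **Annihilating the translates means vanishing on `p`-singular elements.** -/
theorem Phi_eq_zero (hM : IsPModular p M) (hw : orderOf w = p) (ht : t.Coprime (Nat.card X))
    (hfix : ∀ y : X, ¬ p ∣ orderOf y → y ^ t = y) (hgen : ∀ i : ℕ, i.Coprime p → ∃ j : ℕ, t ^ j ≡ i [MOD p])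
    (hA : IsPBlock M A) (hD : IsDefectGroup p M A (Subgroup.zpowers w))
    {b₀ : Set (IrrCharacter (KK w))} (hb₀ : IsInducedBlock M (KK w) b₀ A) {θ₀ : IrrCharacter (KK w)}
    (hθ₀ : θ₀ ∈ b₀) (htriv : (θ₀ : KK w → ℂ) (wK w) = (θ₀ : KK w → ℂ) 1) (u : A → ℂ)
    (hu : ∀ e : ℕ, e.Coprime p →
      ∑ ψ : A, u ψ * classInner (sh w e ((ψ : IrrCharacter X) : X → ℂ)) (gam p (θ₀ : KK w → ℂ)) = 0)
    {g : X} (hg : p ∣ orderOf g) : Phi u g = 0 := by
  classical
  haveI := isPrime_of_pModular hM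
  have hpp : p.Prime := hp.out
  obtain ⟨x', y', hxy, hc, hxo, hy⟩ := Cfsg.Agent.Lib.Blocks.PPart.exists_pPart_y (p := p) g
  have hpart : IsPPart p g x' := ⟨y', hxy, hc, hxo, hy⟩
  by_cases hex : ∃ D, IsDefectGroup p M A D ∧ x' ∈ D
  · obtain ⟨D', hD', hxD⟩ := hex
    obtain ⟨c, rfl⟩ := Cfsg.Agent.Lib.Blocks.Defect2.isDefectGroup_exists_conj_eq hM hA hD hD'
    obtain ⟨q, hq, hqe⟩ := hxD
    have hqe' : c * q * c⁻¹ = x' := by simpa using hqe
    have hq' : q ∈ Submonoid.powers w := by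
      rw [mem_powers_iff_mem_zpowers]
      exact hq
    obtain ⟨i, rfl⟩ := hq'
    simp only at hqe'
    have hi : i.Coprime p := by
      refine ((Nat.Prime.coprime_iff_not_dvd hpp).mpr fun hd => ?_).symm
      have h3 : w ^ i = 1 := by
        rw [← orderOf_dvd_iff_pow_eq_one, hw]
        exact hd
      have h4 : x' = 1 := by
        rw [← hqe', h3]
        group
      rw [← hxy, h4, one_mul] at hg
      exact hy hg
    have hcomm : Commute (c⁻¹ * y' * c) (w ^ i) := by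
      have h5 : x' * y' = y' * x' := hc.eq
      rw [← hqe'] at h5
      change (c⁻¹ * y' * c) * w ^ i = w ^ i * (c⁻¹ * y' * c)
      calc (c⁻¹ * y' * c) * w ^ i = c⁻¹ * (y' * (c * w ^ i * c⁻¹)) * c := by group
        _ = c⁻¹ * ((c * w ^ i * c⁻¹) * y') * c := by rw [h5]
        _ = _ := by group
    have hcomm' := commute_of_commute_pow hw hi hcomm
    have hmem : c⁻¹ * y' * c ∈ KK w := Subgroup.mem_centralizer_singleton_iff.mpr hcomm'.eq
    have hord : ¬ p ∣ orderOf (⟨c⁻¹ * y' * c, hmem⟩ : KK w) := by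
      rw [← orderOf_coe_KK]
      have h6 := MulEquiv.orderOf_eq (MulAut.conj c⁻¹) y'
      have h7 : (MulAut.conj c⁻¹) y' = c⁻¹ * y' * c := by simp [MulAut.conj_apply]
      rw [h7] at h6
      change ¬ p ∣ orderOf (c⁻¹ * y' * c)
      rwa [h6]
    have h1 : ∀ ψ : A, ((ψ : IrrCharacter X) : X → ℂ) g =
        ((ψ : IrrCharacter X) : X → ℂ) (w ^ i * ((⟨c⁻¹ * y' * c, hmem⟩ : KK w) : X)) := by
      intro ψ
      have h8 : w ^ i * (c⁻¹ * y' * c) = c⁻¹ * g * (c⁻¹)⁻¹ := by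
        rw [← hxy, ← hqe']
        group
      change _ = ((ψ : IrrCharacter X) : X → ℂ) (w ^ i * (c⁻¹ * y' * c))
      rw [h8]
      exact (isClassFunction_of_isIrrCharacter (ψ : IrrCharacter X).2 _ _).symm
    simp only [Phi, h1]
    exact regular_vanish hM hw ht hfix hgen hA hD hb₀ hθ₀ htriv u hu hi hord
  · simp only [Phi]
    refine Finset.sum_eq_zero fun ψ _ => ?_
    rw [char_eq_zero_of_forall_notMem_defect hM (ψ : IrrCharacter X) hpart ?_, mul_zero]
    intro D hD hxD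
    rw [← isPBlock_eq_blockOf hA ψ.2] at hD
    exact hex ⟨D, hD, hxD⟩

/-- The converse. -/
theorem sum_mul_eq_zero_of_Phi (hw : orderOf w = p) {γ : KK w → ℂ} (hγ : ∀ c, p ∣ orderOf c → γ c = 0) (u : A → ℂ)
    (hs : ∀ g : X, p ∣ orderOf g → Phi u g = 0) {e : ℕ} (he : e.Coprime p) :
    ∑ ψ : A, u ψ * classInner (sh w e ((ψ : IrrCharacter X) : X → ℂ)) γ = 0 := by
  classical
  have hpp : p.Prime := hp.out
  rw [← classInner_linear]
  have h1 : classInner (fun y : KK w => ∑ ψ : A, u ψ * sh w e ((ψ : IrrCharacter X) : X → ℂ) y) γ =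
      classInner (fun _ : KK w => (0 : ℂ)) γ := by
    apply classInner_congr_reg hγ
    intro c hc
    have h2 : p ∣ orderOf (w ^ e * (c : X)) := by
      refine Cfsg.Agent.Lib.BlockT.Inflate2.dvd_orderOf_mul hpp (k := 1) ?_ ?_ ?_ (by rwa [orderOf_coe_KK])
      · have : Commute w (c : X) := (Subgroup.mem_centralizer_singleton_iff.mp c.2).symm
        exact this.pow_left e
      · rw [pow_one, ← pow_mul, mul_comm, pow_mul, ← hw, pow_orderOf_eq_one, one_pow]
      · intro h0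
        have h3 := orderOf_dvd_of_pow_eq_one h0
        rw [hw] at h3
        exact hpp.one_lt.ne' (Nat.Coprime.eq_one_of_dvd he.symm h3)
    exact hs _ h2
  rw [h1]
  simp [classInner_def]

/-- Invariance of the coefficients. -/
theorem coeff_invariant (hM : IsPModular p M) (ht : t.Coprime (Nat.card X))
    (hfix : ∀ y : X, ¬ p ∣ orderOf y → y ^ t = y) (hA : IsPBlock M A) (u : A → ℂ)
    (hs : ∀ g : X, p ∣ orderOf g → Phi u g = 0) (ψ : A) : u (tauA hM ht hfix hA ψ) = u ψ := by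
  classical
  have h1 : ∀ a : A, classInner (Phi u) ((a : IrrCharacter X) : X → ℂ) = u a := by
    intro a
    have h2 : Phi u = fun g => ∑ ψ : A, u ψ * ((ψ : IrrCharacter X) : X → ℂ) g := rfl
    rw [h2, classInner_linear, Finset.sum_eq_single a]
    · rw [classInner_self_of_isIrr (a : IrrCharacter X).2, mul_one]
    · intro b _ hb
      rw [classInner_eq_zero_of_isIrr_of_ne (b : IrrCharacter X).2 (a : IrrCharacter X).2
        (fun h => hb (Subtype.ext (Subtype.ext h))), mul_zero]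
    · simp
  rw [← h1, ← h1]
  simp only [classInner_def]
  congr 1
  refine Fintype.sum_congr _ _ fun g => ?_
  by_cases hg : p ∣ orderOf g
  · rw [hs g hg]
    simp
  · rw [tauA_apply, hfix g hg]

theorem xx_mem (hw : orderOf w = p) {γ : KK w → ℂ}
    (hγ : ∀ ξ : IrrCharacter (KK w), ∃ n : ℤ, classInner (ξ : KK w → ℂ) γ = n) (ψ : A) :
    xx w γ ψ ∈ Zr p := by
  simp only [xx]
  rw [vt_eq_sh]
  exact classInner_sh_mem hw _ 1 hγ

theorem xx_notMem (hM : IsPModular p M) (hw : orderOf w = p) (hA : IsPBlock M A)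
    (hdef : blockDefect p A = 1)
    {b₀ : Set (IrrCharacter (KK w))} (hb₀ : IsInducedBlock M (KK w) b₀ A) {θ₀ : IrrCharacter (KK w)}
    (hθ₀ : θ₀ ∈ b₀)
    (hPP : ∀ f : KK w → ℂ, IsClassFunction (KK w) f →
      PP p b₀ f = fun c => classInner f (gam p (θ₀ : KK w → ℂ)) * pRegularPart p (θ₀ : KK w → ℂ) c)
    (ψ : A) : ¬ MemLocalIdeal M (xx w (gam p (θ₀ : KK w → ℂ)) ψ) := by
  classical
  haveI := isPrime_of_pModular hM
  have hpp : p.Prime := hp.out
  intro hmem
  have h0 : blockHeight p A ((ψ : IrrCharacter X) : X → ℂ) = 0 :=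
    ((Cfsg.Agent.S4710.result p M hM A hA 1 hdef).2 ψ ψ.2).1 le_rfl
  apply section_value_notMem hM ⟨1, by rw [pow_one, hw]⟩ hA hb₀ ψ.2 h0
  rw [hPP _ (Cfsg.Agent.Lib.Contrib.Major.isClassFunction_vt (ψ : IrrCharacter X))]
  have h1 : ¬ p ∣ orderOf (1 : KK w) := by
    rw [orderOf_one, Nat.dvd_one]
    exact hpp.ne_one
  simp only
  rw [part_reg h1, Cfsg.Agent.Lib.Blocks.Heights.irr_one_eq]
  have h2 : p ^ minExp p b₀ ∣ charDegree (θ₀ : KK w → ℂ) :=
    (hpp.pow_dvd_iff_le_factorization (Cfsg.Agent.Lib.Blocks.Heights.charDegree_ne_zero_irr θ₀)).mpr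
      (minExp_le p hθ₀)
  obtain ⟨m, hm⟩ := h2
  rw [hm]
  have h3 : ((p ^ minExp p b₀ : ℕ) : ℂ) ≠ 0 := Nat.cast_ne_zero.mpr (pow_ne_zero _ hpp.ne_zero)
  have h4 : classInner (vt w (ψ : IrrCharacter X)) (gam p (θ₀ : KK w → ℂ)) *
      ((p ^ minExp p b₀ * m : ℕ) : ℂ) / ((p ^ minExp p b₀ : ℕ) : ℂ) =
      classInner (vt w (ψ : IrrCharacter X)) (gam p (θ₀ : KK w → ℂ)) * (m : ℂ) := by
    rw [Nat.cast_mul]
    field_simp
  rw [h4]
  exact memLocalIdeal_mul_right hmem (memLocalRing_natCast m)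

theorem nn_ne_zero (hM : IsPModular p M) (hw : orderOf w = p) (ht : t.Coprime (Nat.card X))
    (htp : t.Coprime p) (hfix : ∀ y : X, ¬ p ∣ orderOf y → y ^ t = y) (hA : IsPBlock M A)
    (hdef : blockDefect p A = 1) {γ : KK w → ℂ} (hγs : ∀ c, p ∣ orderOf c → γ c = 0)
    (hγ : ∀ ξ : IrrCharacter (KK w), ∃ n : ℤ, classInner (ξ : KK w → ℂ) γ = n)
    (hnot : ∀ ψ : A, ¬ MemLocalIdeal M (xx w γ ψ)) (F : Om (tauA hM ht hfix hA)) :
    nn (tauA hM ht hfix hA) (xx w γ) F ≠ 0 := by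
  classical
  haveI := isPrime_of_pModular hM
  have hpp : p.Prime := hp.out
  obtain ⟨ψ₀, rfl⟩ := mkO_surj (tauA hM ht hfix hA) F
  intro h0
  have hdiff : ∀ ψ ∈ fib (tauA hM ht hfix hA) (mkO (tauA hM ht hfix hA) ψ₀),
      MemLocalIdeal M (xx w γ ψ - xx w γ ψ₀) := by
    intro ψ hψ
    obtain ⟨j, rfl⟩ := exists_pow_of_mkO_eq (tauA hM ht hfix hA) ((mem_fib _).mp hψ).symm
    have h2 : xx w γ ((tauA hM ht hfix hA ^ j) ψ₀) =
        classInner (sh w (t ^ j) ((ψ₀ : IrrCharacter X) : X → ℂ)) γ := col_eq hM ht hfix hA hγs j ψ₀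
    have h3 : xx w γ ψ₀ = classInner (sh w 1 ((ψ₀ : IrrCharacter X) : X → ℂ)) γ := by
      simp only [xx]
      rw [vt_eq_sh]
    rw [h2, h3]
    exact classInner_sh_sub_mem hM hw _ _ _ hγ
  have hsum := memLocalIdeal_sum _ _ hdiff
  rw [Finset.sum_sub_distrib, Finset.sum_const, nsmul_eq_mul] at hsum
  have h5 : nn (tauA hM ht hfix hA) (xx w γ) (mkO (tauA hM ht hfix hA) ψ₀) -
      ((aa (tauA hM ht hfix hA) (mkO (tauA hM ht hfix hA) ψ₀) : ℕ) : ℂ) * xx w γ ψ₀ =
      -(((aa (tauA hM ht hfix hA) (mkO (tauA hM ht hfix hA) ψ₀) : ℕ) : ℂ) * xx w γ ψ₀) := by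
    rw [h0, zero_sub]
  have hsum' : MemLocalIdeal M (nn (tauA hM ht hfix hA) (xx w γ) (mkO (tauA hM ht hfix hA) ψ₀) -
      ((aa (tauA hM ht hfix hA) (mkO (tauA hM ht hfix hA) ψ₀) : ℕ) : ℂ) * xx w γ ψ₀) := hsum
  rw [h5] at hsum'
  have h6 := memLocalIdeal_neg hsum'
  rw [neg_neg] at h6
  have hpa : ¬ p ∣ aa (tauA hM ht hfix hA) (mkO (tauA hM ht hfix hA) ψ₀) := by
    intro hd'
    have h7 := aa_dvd (tauA hM ht hfix hA) (tauA_pow_sub_one hM ht htp hfix hA hdef)
      (mkO (tauA hM ht hfix hA) ψ₀)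
    have h8 : p ∣ p - 1 := hd'.trans h7
    have h9 := Nat.le_of_dvd (by have := hpp.two_le; omega) h8
    have := hpp.two_le
    omega
  refine notMem_mul (memLocalRing_natCast _) (fun h => hpa ((natCast_memLocalIdeal_iff hM _).mp h))
    (memLocalRing_of_isIntegral (isIntegral_of_mem_Zr hpp.ne_zero (xx_mem hw hγ ψ₀))) (hnot ψ₀) h6

/-- **The family for a block of defect one.** -/
theorem exists_family_d1 (hM : IsPModular p M) (hA : IsPBlock M A) (hd : blockDefect p A = 1)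
    {r : ℕ} [NeZero r] (hr : r = p) :
    ∃ (ι : Type u) (_ : Fintype ι) (v : ι → A → ℂ) (N : ℕ),
      (∀ i ψ, v i ψ ∈ Zr r) ∧ (∀ i g, p ∣ orderOf g → Phi (v i) g = 0) ∧
      (∑ i, ∑ ψ, nrm r (v i ψ) ≤ (p : ℝ) * N) ∧
      ∀ u : A → ℂ, (∀ g, p ∣ orderOf g → Phi u g = 0) → u ≠ 0 →
        0 < N ∧ N ≤ (Finset.univ.filter fun i => ∑ ψ, u ψ * conj (v i ψ) ≠ 0).card := by
  classical
  subst hr
  haveI := isPrime_of_pModular hM
  have hpp : r.Prime := hp.out
  obtain ⟨D, hD⟩ := Cfsg.Agent.Lib.Blocks.Defect2.exists_isDefectGroup (p := r) hA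
  have hcard := Cfsg.Agent.Lib.Blocks.Inducing.card_eq_pow_blockDefect hM hA hD
  rw [hd, pow_one] at hcard
  haveI : Fact (Nat.card D).Prime := ⟨hcard ▸ hpp⟩
  obtain ⟨g, hg⟩ := (isCyclic_of_prime_card (p := Nat.card D) rfl).exists_generator
  have hw : orderOf (g : X) = r := by
    rw [Subgroup.orderOf_coe, orderOf_eq_card_of_forall_mem_zpowers hg, hcard]
  have hDw : D = Subgroup.zpowers (g : X) := by
    ext x
    constructor
    · intro hx
      obtain ⟨k, hk⟩ := hg ⟨x, hx⟩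
      exact ⟨k, by simpa using congrArg Subtype.val hk⟩
    · rintro ⟨k, rfl⟩
      exact D.zpow_mem g.2 k
  rw [hDw] at hD
  generalize (g : X) = w at hw hD
  letI : Fintype (KK w) := Fintype.ofFinite _
  haveI := finite_irrCharacter (G := KK w)
  letI : Fintype (IrrCharacter (KK w)) := Fintype.ofFinite _
  obtain ⟨t, ht, htp, hfix, hgen⟩ := exists_t (X := X) (p := r)
  obtain ⟨b₀, hb₀⟩ := exists_induced_b hM hw hA hD
  have hd₀ := blockDefect_of_induced hM hw hD hb₀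
  obtain ⟨θ₀, hθ₀, htriv, huniq, hnorm, hPP, hint⟩ := rank_one_K hM hw hb₀.1 hd₀
  have hγs : ∀ c, r ∣ orderOf c → gam r (θ₀ : KK w → ℂ) c = 0 := gam_sing' _
  have hcol := col_eq hM ht hfix hA hγs
  have hnot := xx_notMem hM hw hA hd hb₀ hθ₀ hPP
  have hu_of : ∀ u : A → ℂ, (∀ j : ℕ, ∑ ψ, u ψ * col (tauA hM ht hfix hA) (xx w (gam r (θ₀ : KK w → ℂ))) j ψ = 0) →
      ∀ e : ℕ, e.Coprime r →
        ∑ ψ : A, u ψ * classInner (sh w e ((ψ : IrrCharacter X) : X → ℂ)) (gam r (θ₀ : KK w → ℂ)) = 0 := by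
    intro u h e he
    obtain ⟨j, hj⟩ := hgen e he
    have h1 := h j
    simp only [hcol] at h1
    simpa only [sh_congr hw hj] using h1
  obtain ⟨ι, hι, v, N, hv, hvc, hnrm, hcount⟩ := exists_family (τ := tauA hM ht hfix hA)
    (x := xx w (gam r (θ₀ : KK w → ℂ))) (n := r - 1) (by have := hpp.two_le; omega)
    (tauA_pow_sub_one hM ht htp hfix hA hd) (r := r)
    (fun F => sum_mem fun ψ _ => xx_mem hw hint ψ) (P := r) hpp.pos
    (ip_xx hM hw hA hb₀ hθ₀ hnorm)
    (fun j => by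
      rcases dichotomy hM hw hA hb₀ hθ₀ htriv huniq (e := t ^ j) (htp.pow_left j) with h | h
      · left
        funext ψ
        rw [hcol]
        exact h ψ
      · right
        simp only [ip, hcol]
        exact h)
    (fun u h ψ => coeff_invariant hM ht hfix hA u
      (fun g hg => Phi_eq_zero hM hw ht hfix hgen hA hD hb₀ hθ₀ htriv u (hu_of u h) hg) ψ)
    (nn_ne_zero hM hw ht htp hfix hA hd hγs hint hnot)
  refine ⟨ι, hι, v, N, hv, fun i g hg => ?_, hnrm, fun u hs hu0 => ?_⟩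
  · exact Phi_eq_zero hM hw ht hfix hgen hA hD hb₀ hθ₀ htriv (v i) (hu_of _ (hvc i)) hg
  · refine hcount u (fun j => ?_) hu0
    simp only [hcol]
    exact sum_mul_eq_zero_of_Phi hw hγs u hs (htp.pow_left j)

/-- A block of defect zero is a singleton. -/
theorem exists_eq_singleton (hM : IsPModular p M) (hA : IsPBlock M A) (hd : blockDefect p A = 0) :
    ∃ φ : IrrCharacter X, A = {φ} := by
  classical
  haveI := isPrime_of_pModular hM
  have hpp : p.Prime := hp.out
  have hne : A.Nonempty := isPBlock_nonempty hA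
  obtain ⟨φ, hφA, hφmin⟩ := exists_minExp p hne
  refine ⟨φ, ?_⟩
  rw [isPBlock_eq_blockOf hA hφA, ← Cfsg.Agent.Lib.Blocks.Inducing.blockOf_eq_singleton_iff hM]
  have h1 := Cfsg.Agent.Lib.Blocks.RegPart2.minExp_add_blockDefect (p := p) hφA
  obtain ⟨n, hn⟩ := Cfsg.Agent.Lib.Char.Degree.charDegree_dvd_card φ.2
  have hdpos := Cfsg.Agent.Lib.Char.Degree.charDegree_pos φ.2
  have hnpos : n ≠ 0 := by
    rintro rfl
    rw [mul_zero] at hn
    exact Nat.card_pos.ne' hn
  have h2 : (Nat.card X).factorization p =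
      (charDegree (φ : X → ℂ)).factorization p + n.factorization p := by
    rw [hn, Nat.factorization_mul hdpos.ne' hnpos]
    rfl
  have h3 : n.factorization p = 0 := by omega
  have h4 : Nat.card X / charDegree (φ : X → ℂ) = n := by
    rw [hn]
    exact Nat.mul_div_cancel_left n hdpos
  rw [h4]
  intro h5
  have := (hpp.dvd_iff_one_le_factorization hnpos).mp h5
  omega

/-- The norm of one. -/
theorem nrm_one' (r : ℕ) [NeZero r] : nrm r 1 = 1 := by
  apply Complex.ofReal_injective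
  rw [nrm_cast (one_mem _)]
  have h1 : (1 : ℂ) * conj 1 = ((1 : ℕ) : ℂ) := by simp
  rw [h1, avg_natCast]
  simp

/-- **The family for a block of defect zero.** -/
theorem exists_family_d0 (hM : IsPModular p M) (hA : IsPBlock M A) (hd : blockDefect p A = 0)
    {r : ℕ} [NeZero r] :
    ∃ (ι : Type u) (_ : Fintype ι) (v : ι → A → ℂ) (N : ℕ),
      (∀ i ψ, v i ψ ∈ Zr r) ∧ (∀ i g, p ∣ orderOf g → Phi (v i) g = 0) ∧
      (∑ i, ∑ ψ, nrm r (v i ψ) ≤ (1 : ℝ) * N) ∧
      ∀ u : A → ℂ, (∀ g, p ∣ orderOf g → Phi u g = 0) → u ≠ 0 →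
        0 < N ∧ N ≤ (Finset.univ.filter fun i => ∑ ψ, u ψ * conj (v i ψ) ≠ 0).card := by
  classical
  haveI := isPrime_of_pModular hM
  obtain ⟨φ, hφ⟩ := exists_eq_singleton hM hA hd
  have hmem : φ ∈ A := by rw [hφ]; exact Set.mem_singleton φ
  have hall : ∀ a : A, a = ⟨φ, hmem⟩ := by
    intro a
    apply Subtype.ext
    have h : (a : IrrCharacter X) ∈ ({φ} : Set (IrrCharacter X)) := hφ ▸ a.2
    exact h
  letI hU : Unique A := ⟨⟨⟨φ, hmem⟩⟩, hall⟩
  refine ⟨PUnit, inferInstance, fun _ _ => 1, 1, fun _ _ => one_mem _, ?_, ?_, ?_⟩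
  · intro _ g hg
    simp only [Phi]
    refine Finset.sum_eq_zero fun ψ _ => ?_
    rw [eq_zero_of_blockDefect_zero hM hA hd ψ.2 hg, mul_zero]
  · simp [nrm_one']
  · intro u _ hu0
    refine ⟨Nat.one_pos, ?_⟩
    have h1 : u default ≠ 0 := by
      intro h
      apply hu0
      funext a
      rw [Subsingleton.elim a default, h]
      rfl
    simp [h1, Finset.filter_true_of_mem]

end Main

end Cfsg.Agent.Lib.Contrib.D1Main
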