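import Mathlib
import Cfsg.Agent.Lib.Blocks.Defect2
import Cfsg.Agent.Lib.Blocks.Sections
import Cfsg.Agent.Lib.Blocks.Inducing

/-!
# Existence of major subsections

For a block `B` with defect group `D` and `z ∈ Z(D)`, some block of `C_G(z)` induces `B` and has the same
defect.
-/

set_option autoImplicit false
set_option linter.unusedSectionVars false
set_option linter.style.haveILetI false

namespace Cfsg.Agent.Lib.Contrib.MajorEx

open Cfsg MonoidAlgebra
open Cfsg.Agent.Lib.Blocks.Local Cfsg.Agent.Lib.Blocks.Central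
open Cfsg.Agent.Lib.Blocks.Weak Cfsg.Agent.Lib.Blocks.Brauer Cfsg.Agent.Lib.Blocks.Induced
open Cfsg.Agent.Lib.Blocks.Main Cfsg.Agent.Lib.Blocks.Defect2 Cfsg.Agent.Lib.Blocks.Sections
open Cfsg.Agent.Lib.BlockT.SylowIn

universe u

variable {G : Type u} [Group G] [Fintype G] [Fintype (IrrCharacter G)] {M : Ideal AlgInt} {p : ℕ}
  [hp : Fact p.Prime] {H : Subgroup G} [Fintype H] [Fintype (IrrCharacter H)]

theorem cube_aux {R : Type*} [CommRing R] (w e : R) (hee : e * e = e) :
    (w - e) * (w - e) * (w - e) - (w - e) = (w * w - w) * (w + 1 - (e + e + e)) := by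
  linear_combination (3 * w - e - 1) * hee

theorem cube_aux2 {R : Type*} [CommRing R] (x : R) :
    (x * x) * (x * x) - x * x = (x * x * x - x) * x := by ring

/-- The coefficients of a union of blocks. -/
theorem blockCoeff_eq_sum_blocks {K : Type*} [Group K] [Fintype K] [Fintype (IrrCharacter K)] [M.IsPrime]
    {A : Set (IrrCharacter K)} (hA : ∀ ψ ∈ A, blockOf M (ψ : K → ℂ) ⊆ A) (n : K)
    [Fintype {S : Set (IrrCharacter K) // IsPBlock M S ∧ S ⊆ A}] :
    blockCoeff A n = ∑ S : {S : Set (IrrCharacter K) // IsPBlock M S ∧ S ⊆ A}, blockCoeff S.1 n := by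
  classical
  simp only [blockCoeff_eq_sum]
  rw [← Finset.mul_sum, Finset.sum_comm]
  congr 1
  refine Fintype.sum_congr _ _ fun ψ => ?_
  by_cases hψ : ψ ∈ A
  · rw [if_pos hψ, Finset.sum_eq_single ⟨blockOf M (ψ : K → ℂ), ⟨ψ, rfl⟩, hA ψ hψ⟩]
    · rw [if_pos (mem_blockOf_self ψ)]
    · intro S _ hS
      rw [if_neg]
      intro hmem
      apply hS
      apply Subtype.ext
      exact (isPBlock_eq_blockOf S.2.1 hmem)
    · intro h
      exact absurd (Finset.mem_univ _) h
  · rw [if_neg hψ]
    symm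
    refine Finset.sum_eq_zero fun S _ => ?_
    rw [if_neg fun h => hψ (S.2.2 h)]

/-- Passing from the Brauer map of the idempotent to a block of `H`. -/
theorem exists_induced_coeff (hM : IsPModular p M) {Q : Subgroup G} (hP : Cfsg.Agent.Lib.Blocks.Induced.IsBrauerPair p Q H)
    {B : Set (IrrCharacter G)} (hB : IsPBlock M B) {y : G} (hyC : y ∈ Subgroup.centralizer (Q : Set G))
    (hy : ¬ MemLocalIdeal M (blockCoeff B y)) :
    ∃ b : Set (IrrCharacter H), IsInducedBlock M H b B ∧
      ¬ MemLocalIdeal M (blockCoeff b (⟨y, hP.centralizer_le hyC⟩ : H)) := by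
  classical
  haveI := isPrime_of_pModular hM
  set S : Set (IrrCharacter H) := indUnion M H B with hS
  set w := brOf hP (idem B) with hw
  set e := idem S with he
  have hel : idem B ∈ localCenter M G := idem_mem_localCenter hB
  have hwl : w ∈ localCenter M H := brOf_mem_localCenter hP hel
  have hel' : e ∈ localCenter M H := idem_indUnion_mem
  have hww : Jc M ((w * w - w : Subalgebra.center ℂ (GA H)) : GA H) := by
    have h1 := brOf_mul_sub_mem hM hP hel hel
    rw [idem_mul_self] at h1
    have h2 := h1.neg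
    simpa using h2
  have hee : e * e = e := idem_mul_self S
  have hω1 : ∀ ξ ∈ S, MemLocalIdeal M (omegaHom ξ w - 1) := by
    intro ξ hξ
    obtain ⟨χ', hχ'⟩ := isPBlock_nonempty hB
    have h1 := IsInducedBlock.sub_mem H hξ (mem_blockOf_self ξ) hχ' hel
    have h2 := indHom_sub_brOf_mem hM hP ξ hel
    rw [omegaHom_idem, if_pos hχ'] at h1
    have h3 := memLocalIdeal_sub h1 h2
    rwa [sub_sub_sub_cancel_left] at h3
  have hω0 : ∀ ξ, ξ ∉ S → MemLocalIdeal M (omegaHom ξ w) := by
    intro ξ hξ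
    by_contra hne
    obtain ⟨B', hB'⟩ := exists_induced hM hP (b := blockOf M (ξ : H → ℂ)) ⟨ξ, rfl⟩
    obtain ⟨χ', hχ'⟩ := isPBlock_nonempty hB'.2.1
    have h1 := IsInducedBlock.sub_mem H hB' (mem_blockOf_self ξ) hχ' hel
    have h2 := indHom_sub_brOf_mem hM hP ξ hel
    have hχ'B : χ' ∈ B := by
      by_contra hn
      rw [omegaHom_idem, if_neg hn, sub_zero] at h1
      have h3 := memLocalIdeal_sub h1 h2
      rw [sub_sub_cancel] at h3
      exact hne h3
    have h4 : B' = B := isPBlock_mem_unique hB'.2.1 hB hχ' hχ'B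
    rw [h4] at hB'
    exact hξ hB'
  set x := w - e with hx
  have hxl : x ∈ localCenter M H := sub_mem hwl hel'
  have hxω : ∀ ξ, MemLocalIdeal M (omegaHom ξ x) := by
    intro ξ
    rw [hx, map_sub, he, omegaHom_idem]
    split_ifs with hξ
    · exact hω1 ξ hξ
    · rw [sub_zero]
      exact hω0 ξ hξ
  obtain ⟨n, hn⟩ := exists_pow_Jc hxl hxω
  have hrx : Rc M (x : GA H) := Rc.of_localCenter hxl
  have hrw : Rc M (w : GA H) := Rc.of_localCenter hwl
  have hre : Rc M (e : GA H) := Rc.of_localCenter hel'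
  have hcube : Jc M ((x * x * x - x : Subalgebra.center ℂ (GA H)) : GA H) := by
    have h1 : x * x * x - x = (w * w - w) * (w + 1 - (e + e + e)) := cube_aux w e hee
    rw [h1]
    have h2 : Rc M ((w + 1 - (e + e + e) : Subalgebra.center ℂ (GA H)) : GA H) :=
      (hrw.add Rc.one).sub ((hre.add hre).add hre)
    exact Jc.mul_Rc hww h2
  have hxJ : Jc M (x : GA H) := by
    set y := x * x with hy'
    have hry : Rc M (y : GA H) := Rc.mul hrx hrx
    have hyy : Jc M ((y : GA H) * (y : GA H) - (y : GA H)) := by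
      have h1 : (y : GA H) * (y : GA H) - (y : GA H) =
          ((x * x * x - x : Subalgebra.center ℂ (GA H)) : GA H) * (x : GA H) := by
        have : y * y - y = (x * x * x - x) * x := cube_aux2 x
        exact congrArg Subtype.val this
      rw [h1]
      exact Jc.mul_Rc hcube hrx
    have hyn : Jc M ((y : GA H) ^ n) := by
      have h1 : (y : GA H) ^ n = (x : GA H) ^ n * (x : GA H) ^ n := by
        have : y ^ n = x ^ n * x ^ n := by
          rw [hy', mul_pow]
        exact congrArg Subtype.val this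
      rw [h1]
      exact Jc.mul_Rc hn hn.rc
    have hyJ := Jc_of_idem_mod hry hyy hyn
    have h3 : Jc M ((x * x * x : Subalgebra.center ℂ (GA H)) : GA H) := Jc.mul_Rc hyJ hrx
    have h4 := h3.sub hcube
    have h5 : ((x * x * x : Subalgebra.center ℂ (GA H)) : GA H) -
        ((x * x * x - x : Subalgebra.center ℂ (GA H)) : GA H) = (x : GA H) := by
      have : x * x * x - (x * x * x - x) = x := sub_sub_cancel _ _
      exact congrArg Subtype.val this
    rwa [h5] at h4
  have hyH : y ∈ H := hP.centralizer_le hyC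
  have h6 := hxJ ⟨y, hyH⟩
  have h7 : (w : GA H).coeff ⟨y, hyH⟩ = blockCoeff B y := by
    rw [hw, coeff_brOf, coeff_res_of_mem _ (show y ∈ ((Subgroup.centralizer (Q : Set G) : Subgroup G) : Set G) from hyC)]
    rfl
  have h8 : (x : GA H).coeff ⟨y, hyH⟩ = blockCoeff B y - blockCoeff S ⟨y, hyH⟩ := by
    have h9 : (x : GA H) = (w : GA H) - (e : GA H) := rfl
    rw [h9, coeff_sub', h7]
    rfl
  rw [h8] at h6
  by_contra hcon
  push Not at hcon
  apply hy
  have h10 : MemLocalIdeal M (blockCoeff S ⟨y, hyH⟩) := by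
    letI : Fintype {T : Set (IrrCharacter H) // IsPBlock M T ∧ T ⊆ S} := Fintype.ofFinite _
    rw [blockCoeff_eq_sum_blocks (fun _ hξ => indUnion_closed hξ)]
    refine memLocalIdeal_sum _ _ fun T _ => ?_
    obtain ⟨ξ, hξ⟩ := isPBlock_nonempty T.2.1
    have h11 : IsInducedBlock M H T.1 B := by
      rw [isPBlock_eq_blockOf T.2.1 hξ]
      exact T.2.2 hξ
    exact hcon T.1 h11
  have h12 := memLocalIdeal_add h6 h10
  rwa [sub_add_cancel] at h12

/-- **Existence of major subsections.** -/
theorem exists_major {z : G} [Fintype (Subgroup.centralizer ({z} : Set G))]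
    [Fintype (IrrCharacter (Subgroup.centralizer ({z} : Set G)))] (hM : IsPModular p M)
    {B : Set (IrrCharacter G)} (hB : IsPBlock M B) {D : Subgroup G} (hD : IsDefectGroup p M B D)
    (hzD : z ∈ D) (hzc : ∀ d ∈ D, d * z = z * d) :
    ∃ b : Set (IrrCharacter (Subgroup.centralizer ({z} : Set G))),
      IsInducedBlock M (Subgroup.centralizer ({z} : Set G)) b B ∧ blockDefect p b = blockDefect p B := by
  classical
  haveI := isPrime_of_pModular hM
  have hpp : p.Prime := hp.out
  have hDp : IsPGroup p D := isDefectGroup_isPGroup hD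
  obtain ⟨k, hk⟩ : ∃ k, orderOf z = p ^ k := by
    obtain ⟨k, hk⟩ := (IsPGroup.iff_orderOf.mp hDp) ⟨z, hzD⟩
    exact ⟨k, by rw [← hk, Subgroup.orderOf_mk]⟩
  have hPL := isBrauerPair_zpowers (p := p) (x := z) ⟨k, hk⟩
  obtain ⟨y, hy, hs⟩ := isDefectGroup_isSylowIn hD
  have hDy : ∀ d ∈ D, y * d = d * y := by
    intro d hd
    have h1 := hs.le hd
    rw [Subgroup.mem_centralizer_iff] at h1
    exact h1 y rfl
  have hyC : y ∈ Subgroup.centralizer ((Subgroup.zpowers z : Subgroup G) : Set G) := by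
    rw [Subgroup.mem_centralizer_iff]
    rintro _ ⟨i, rfl⟩
    have h1 : Commute y z := hDy z hzD
    exact (h1.zpow_right i).eq.symm
  obtain ⟨b, hb, hbc⟩ := exists_induced_coeff hM hPL hB hyC hy.2.1
  refine ⟨b, hb, ?_⟩
  obtain ⟨Db, hDb⟩ := exists_isDefectGroup (p := p) hb.1
  have h1 := Cfsg.Agent.Lib.Blocks.Inducing.card_eq_pow_blockDefect hM hb.1 hDb
  have h2 := Cfsg.Agent.Lib.Blocks.Inducing.card_eq_pow_blockDefect hM hB hD
  obtain ⟨E, hE, hDE⟩ := exists_defect_ge hM hb hDb
  have h3 := Cfsg.Agent.Lib.Blocks.Inducing.card_eq_pow_blockDefect hM hB hE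
  have h4 : Nat.card Db ≤ Nat.card E := by
    have h5 := Subgroup.card_le_of_le hDE
    rwa [Subgroup.card_map_of_injective (Subgroup.subtype_injective _)] at h5
  have hDle : D ≤ Subgroup.centralizer ({z} : Set G) := fun d hd =>
    Subgroup.mem_centralizer_singleton_iff.mpr (hzc d hd)
  have hD'p : IsPGroup p (D.subgroupOf (Subgroup.centralizer ({z} : Set G))) :=
    hDp.comap_of_injective _ (Subgroup.subtype_injective _)
  have hmem : (⟨y, hPL.centralizer_le hyC⟩ : Subgroup.centralizer ({z} : Set G)) ∈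
      Subgroup.centralizer ((D.subgroupOf (Subgroup.centralizer ({z} : Set G)) :
        Subgroup (Subgroup.centralizer ({z} : Set G))) : Set (Subgroup.centralizer ({z} : Set G))) := by
    rw [Subgroup.mem_centralizer_iff]
    intro q hq
    apply Subtype.ext
    exact (hDy q hq).symm
  obtain ⟨x, hx⟩ := (exists_coeff_centralizer_iff hM hb.1 hDb hD'p).mp
    ⟨⟨y, hPL.centralizer_le hyC⟩, Rc.of_localCenter (idem_mem_localCenter hb.1) _, hbc, _, IsConj.refl _, hmem⟩
  have h5 : Nat.card (D.subgroupOf (Subgroup.centralizer ({z} : Set G))) ≤ Nat.card Db := by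
    have h6 := Subgroup.card_le_of_le hx
    rwa [Subgroup.card_map_of_injective (MulEquiv.injective _)] at h6
  have h6 : Nat.card (D.subgroupOf (Subgroup.centralizer ({z} : Set G))) = Nat.card D :=
    Nat.card_congr (Subgroup.subgroupOfEquivOfLe hDle).toEquiv
  rw [h6, h2, h1] at h5
  rw [h1, h3] at h4
  have h7 := (Nat.pow_le_pow_iff_right hpp.one_lt).mp h5
  have h8 := (Nat.pow_le_pow_iff_right hpp.one_lt).mp h4
  omega

end Cfsg.Agent.Lib.Contrib.MajorEx
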