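import Mathlib
import Cfsg.Agent.Lib.Contrib.D1Main
import Cfsg.Agent.Lib.Contrib.MajorEx

/-!
# The Brauer–Feit bound

`k(B) ≤ p ^ d` for `d ≤ 2` and `k(B) ≤ p ^ (2 d - 2)` for `d ≥ 3`.
-/

set_option autoImplicit false
set_option linter.unusedSectionVars false
set_option linter.style.haveILetI false

namespace Cfsg.Agent.Lib.Contrib.BF

open Cfsg MonoidAlgebra
open Cfsg.Agent.Lib.Blocks.Local Cfsg.Agent.Lib.Blocks.Central Cfsg.Agent.Lib.Blocks.Quot
open Cfsg.Agent.Lib.Blocks.DomRank Cfsg.Agent.Lib.Blocks.Sections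
open Cfsg.Agent.Lib.BlockH.Regular Cfsg.Agent.Lib.BlockP.Defect
open Cfsg.Agent.Lib.Char.Ortho Cfsg.Agent.Lib.Char.Basic Cfsg.Agent.Lib.Char.GenLattice
open Cfsg.Agent.Lib.Contrib.Proj Cfsg.Agent.Lib.Contrib.Cyc Cfsg.Agent.Lib.Contrib.Family
open Cfsg.Agent.Lib.Contrib.Sec Cfsg.Agent.Lib.Contrib.Adams Cfsg.Agent.Lib.Contrib.Dom
open Cfsg.Agent.Lib.Contrib.RankOne Cfsg.Agent.Lib.Contrib.Section Cfsg.Agent.Lib.Contrib.D1Loc
open Cfsg.Agent.Lib.Contrib.D1Main Cfsg.Agent.Lib.Contrib.MajorEx
open scoped ComplexConjugate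

universe u

section Quotient

variable {G : Type u} [Group G] [Fintype G] {p : ℕ} [hp : Fact p.Prime] {z : G}

/-- The quotient of the centralizer by the central `p`-subgroup generated by `z`. -/
theorem exists_quot {k : ℕ} (hk : orderOf z = p ^ k) [Fintype (IrrCharacter G)] [Fintype (KK z)]
    [Fintype (IrrCharacter (KK z))] :
    ∃ (X : Type u) (_ : Group X) (_ : Fintype X) (_ : Fintype (IrrCharacter X)) (π : KK z →* X)
      (_ : Function.Surjective π), IsPGroup p π.ker ∧ (∀ u ∈ π.ker, ∀ c : KK z, Commute u c) ∧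
        Nat.card π.ker = p ^ k := by
  classical
  set Z := Subgroup.zpowers (wK z) with hZ
  have hZc : ∀ u ∈ Z, ∀ c : KK z, Commute u c := by
    intro u hu c
    obtain ⟨i, rfl⟩ := hu
    have : Commute (wK z) c := wK_central c
    exact this.zpow_left i
  haveI hZn : Z.Normal := ⟨fun n hn g => by
    have : g * n * g⁻¹ = n := by
      have h := (hZc n hn g).eq
      rw [← h, mul_inv_cancel_right]
    rw [this]
    exact hn⟩
  letI : Fintype (KK z ⧸ Z) := Fintype.ofFinite _
  haveI := finite_irrCharacter (G := KK z ⧸ Z)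
  have hkerZ : (QuotientGroup.mk' Z).ker = Z := QuotientGroup.ker_mk' Z
  have hcard : Nat.card Z = p ^ k := by
    rw [hZ, Nat.card_zpowers, orderOf_wK, hk]
  refine ⟨KK z ⧸ Z, inferInstance, inferInstance, Fintype.ofFinite _, QuotientGroup.mk' Z,
    QuotientGroup.mk'_surjective Z, ?_, ?_, ?_⟩
  · rw [hkerZ]
    exact IsPGroup.of_card hcard
  · intro u hu c
    rw [hkerZ] at hu
    exact hZc u hu c
  · rw [hkerZ, hcard]

end Quotient

section Filter

variable {G : Type u} [Group G] [Fintype G] [Fintype (IrrCharacter G)] {p : ℕ} {M : Ideal AlgInt}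
  [hp : Fact p.Prime] {z : G} [Fintype (KK z)] [Fintype (IrrCharacter (KK z))]

open Classical in
/-- **The bound for a block of `C(z)` of small defect.** -/
theorem card_filter_le (hM : IsPModular p M) {k : ℕ} (hk : orderOf z = p ^ k) (hk1 : 1 ≤ k)
    {B : Set (IrrCharacter G)} (hB : IsPBlock M B) [Fintype B] {b : Set (IrrCharacter (KK z))}
    (hb : IsInducedBlock M (KK z) b B) (hdb : blockDefect p b ≤ 2) :
    (Finset.univ.filter fun χ : B => PP p b (vt z (χ : IrrCharacter G)) ≠ 0).card ≤ p ^ blockDefect p b := by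
  haveI := isPrime_of_pModular hM
  have hpp : p.Prime := hp.out
  haveI : NeZero (p ^ k) := ⟨pow_ne_zero _ hpp.ne_zero⟩
  obtain ⟨X, _, _, _, π, hπ, hker, hcen, hK⟩ := exists_quot hk
  obtain ⟨A, hAb, hA⟩ := exists_dominated π hπ hker hcen hM hb.1
  letI : Fintype A := Fintype.ofFinite _
  have hne := isPBlock_nonempty hAb
  have hdef := blockDefect_add_le (p := p) π hπ hne hA
  have hfac : (Nat.card π.ker).factorization p = k := by
    rw [hK, hpp.factorization_pow]
    simp
  rw [hfac] at hdef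
  have hcases : blockDefect p A = 0 ∨ (blockDefect p A = 1 ∧ k = 1) := by omega
  rcases hcases with h0 | ⟨h1, rfl⟩
  · obtain ⟨ι, hι, v, N, hv, hs, hn, hc⟩ := exists_family_d0 hM hAb h0 (r := p ^ k)
    have h1 := card_le_of_family π hπ hker hcen hM hk hK hB hb hA v N (κ := 1) zero_le_one hv hs hn hc
    rw [mul_one] at h1
    have h2 : (Finset.univ.filter fun χ : B => PP p b (vt z (χ : IrrCharacter G)) ≠ 0).card ≤ p ^ k := by
      exact_mod_cast h1
    exact h2.trans (Nat.pow_le_pow_right hpp.pos (by omega))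
  · obtain ⟨ι, hι, v, N, hv, hs, hn, hc⟩ := exists_family_d1 hM hAb h1 (r := p ^ 1) (pow_one p)
    have h2 := card_le_of_family π hπ hker hcen hM hk hK hB hb hA v N (κ := p) (Nat.cast_nonneg _) hv hs hn hc
    have h3 : (Finset.univ.filter fun χ : B => PP p b (vt z (χ : IrrCharacter G)) ≠ 0).card ≤ p ^ 1 * p := by
      exact_mod_cast h2
    have h4 : blockDefect p b = 2 := by omega
    rw [h4]
    calc _ ≤ p ^ 1 * p := h3
      _ = p ^ 2 := by ring

end Filter

section Main

variable {p : ℕ} {M : Ideal AlgInt} [hp : Fact p.Prime]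

/-- The bound. -/
def Fb (p d : ℕ) : ℕ := if d ≤ 2 then p ^ d else p ^ (2 * d - 2)

theorem Fb_le {d e : ℕ} (hd : 3 ≤ d) (he : e < d) : Fb p e ≤ p ^ (2 * d - 4) := by
  have hpp : p.Prime := hp.out
  unfold Fb
  split_ifs with h
  · exact Nat.pow_le_pow_right hpp.pos (by omega)
  · exact Nat.pow_le_pow_right hpp.pos (by omega)

/-- **The Brauer–Feit bound.** -/
theorem card_le_Fb (hM : IsPModular p M) (d : ℕ) :
    ∀ {G : Type u} [Group G] [Finite G] (B : Set (IrrCharacter G)), IsPBlock M B → blockDefect p B = d →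
      Nat.card B ≤ Fb p d := by
  induction d using Nat.strong_induction_on with
  | _ d IH =>
  intro G _ _ B hB hd
  classical
  cases nonempty_fintype G
  haveI := finite_irrCharacter (G := G)
  letI : Fintype (IrrCharacter G) := Fintype.ofFinite _
  letI : Fintype B := Fintype.ofFinite _
  haveI := isPrime_of_pModular hM
  have hpp : p.Prime := hp.out
  rcases Nat.eq_zero_or_pos d with rfl | hd1
  · obtain ⟨φ, hφ⟩ := exists_eq_singleton hM hB hd
    subst hφ
    simp [Fb]
  obtain ⟨D, hD⟩ := Cfsg.Agent.Lib.Blocks.Defect2.exists_isDefectGroup (p := p) hB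
  have hcard := Cfsg.Agent.Lib.Blocks.Inducing.card_eq_pow_blockDefect hM hB hD
  rw [hd] at hcard
  have hDp : IsPGroup p D := Cfsg.Agent.Lib.Blocks.Defect2.isDefectGroup_isPGroup hD
  haveI : Nontrivial D := (Finite.one_lt_card_iff_nontrivial).mp (by
    rw [hcard]
    exact Nat.one_lt_pow (by omega) hpp.one_lt)
  haveI hZn := hDp.center_nontrivial
  have hpc : IsPGroup p (Subgroup.center D) := hDp.to_subgroup _
  obtain ⟨n, hn⟩ := IsPGroup.iff_card.mp hpc
  have hn0 : n ≠ 0 := by
    rintro rfl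
    have h1 := Finite.one_lt_card (α := Subgroup.center D)
    rw [hn] at h1
    simp at h1
  have hdvd : p ∣ Nat.card (Subgroup.center D) := hn ▸ dvd_pow_self p hn0
  obtain ⟨c, hc⟩ := exists_prime_orderOf_dvd_card' p hdvd
  set z : G := ((c : D) : G) with hz
  have hk : orderOf z = p ^ 1 := by
    rw [pow_one, hz, Subgroup.orderOf_coe, Subgroup.orderOf_coe, hc]
  have hzD : z ∈ D := (c : D).2
  have hzc : ∀ d' ∈ D, d' * z = z * d' := by
    intro d' hd'
    have h1 := Subgroup.mem_center_iff.mp c.2 ⟨d', hd'⟩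
    exact congrArg Subtype.val h1
  letI : Fintype (KK z) := Fintype.ofFinite _
  haveI := finite_irrCharacter (G := KK z)
  letI : Fintype (IrrCharacter (KK z)) := Fintype.ofFinite _
  obtain ⟨b, hb, hq⟩ := exists_major hM hB hD hzD hzc
  rw [hd] at hq
  by_cases hpos : ∃ χ ∈ B, 0 < blockHeight p B (χ : G → ℂ)
  · have h1 := (Cfsg.Agent.S4710.result p M hM B hB d hd).1 hpos
    have h2 : Nat.card B ≤ p ^ (2 * d - 2) := by omega
    refine h2.trans ?_
    unfold Fb
    split_ifs with h3
    · exact Nat.pow_le_pow_right hpp.pos (by omega)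
    · exact le_rfl
  push Not at hpos
  have hh0 : ∀ χ : B, blockHeight p B ((χ : IrrCharacter G) : G → ℂ) = 0 := fun χ =>
    Nat.le_zero.mp (hpos χ χ.2)
  by_cases hd2 : d ≤ 2
  · have h1 := card_filter_le hM hk le_rfl hB hb (by omega)
    have h2 : (Finset.univ.filter fun χ : B => PP p b (vt z (χ : IrrCharacter G)) ≠ 0) = Finset.univ := by
      apply Finset.filter_true_of_mem
      intro χ _ h0
      apply section_value_notMem hM ⟨1, hk⟩ hB hb χ.2 (hh0 χ)
      rw [h0]
      simp only [Pi.zero_apply, zero_div]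
      exact memLocalIdeal_zero
    rw [h2, Finset.card_univ, hq] at h1
    rw [Nat.card_eq_fintype_card, Fb, if_pos hd2]
    exact h1
  · have hd3 : 3 ≤ d := by omega
    haveI : NeZero (p ^ 1) := ⟨pow_ne_zero _ hpp.ne_zero⟩
    obtain ⟨m, hZ, hconj, hmul, htr, hnot, -⟩ :=
      Cfsg.Agent.Lib.Contrib.Major.exists_matrix_major hM hk hB hb (hq.trans hd.symm)
    have h0 : ∀ i j, m i j ≠ 0 := by
      intro i j hij
      apply (hnot i j (hh0 i)).2
      rw [hij, zero_div]
      exact memLocalIdeal_zero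
    have hsq := card_sq_le hZ hconj hmul htr h0
    obtain ⟨X, _, _, _, π, hπ, hker, hcen, hK⟩ := exists_quot hk
    obtain ⟨A, hAb, hA⟩ := exists_dominated π hπ hker hcen hM hb.1
    letI : Fintype A := Fintype.ofFinite _
    have hne := isPBlock_nonempty hAb
    have hdef := blockDefect_add_le (p := p) π hπ hne hA
    have hfac : (Nat.card π.ker).factorization p = 1 := by
      rw [hK, pow_one]
      exact hpp.factorization_self
    rw [hfac, hq] at hdef
    have hlt : blockDefect p A < d := by omega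
    have hIH := IH _ hlt A hAb rfl
    have hrank := blockRank_le π hπ hker hcen hM hb.1 hA
    rw [Nat.card_eq_fintype_card] at hIH
    have h3 : blockRank p b ≤ p ^ (2 * d - 4) := hrank.trans (hIH.trans (Fb_le hd3 hlt))
    rw [hq] at hsq
    have h4 : Fintype.card B ^ 2 ≤ (p ^ (2 * d - 2)) ^ 2 := by
      calc Fintype.card B ^ 2 ≤ p ^ d * (p ^ d * blockRank p b) := hsq
        _ ≤ p ^ d * (p ^ d * p ^ (2 * d - 4)) := by gcongr
        _ = (p ^ (2 * d - 2)) ^ 2 := by
          rw [← pow_add, ← pow_add, ← pow_mul]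
          congr 1
          omega
    have h5 := (Nat.pow_le_pow_iff_left (n := 2) (by norm_num)).mp h4
    rw [Nat.card_eq_fintype_card, Fb, if_neg hd2]
    exact h5

end Main

end Cfsg.Agent.Lib.Contrib.BF
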