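import Mathlib
import Cfsg.Agent.Lib.Contrib.Major
import Cfsg.Agent.Lib.Contrib.MajorEx

/-!
# Characters of a block do not vanish on a major section

For a major subsection `(x, b)` of a block `B`, every member of `B` takes a nonzero value on the
`x`-section: the numbers `m χ ψ` of the contribution matrix are nonzero for `χ` of height `0`.
-/

set_option linter.unusedSectionVars false
set_option autoImplicit false
set_option linter.style.haveILetI false

namespace Cfsg.Agent.Lib.Contrib.NonVanish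

open Cfsg MonoidAlgebra
open Cfsg.Agent.Lib.Blocks.Local Cfsg.Agent.Lib.Blocks.Central
open Cfsg.Agent.Lib.BlockH.Regular Cfsg.Agent.Lib.BlockP.Defect Cfsg.Agent.Lib.BlockH.MaxPair
open Cfsg.Agent.Lib.Char.Ortho
open Cfsg.Agent.Lib.Contrib.Proj Cfsg.Agent.Lib.Contrib.Cyc Cfsg.Agent.Lib.Contrib.Family
open Cfsg.Agent.Lib.Contrib.Section Cfsg.Agent.Lib.Contrib.Sec Cfsg.Agent.Lib.Contrib.Major
open scoped ComplexConjugate

universe u

variable {G : Type u} [Group G] [Fintype G] [Fintype (IrrCharacter G)] {p : ℕ} {M : Ideal AlgInt}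
  {x : G} [hMp : M.IsPrime]
  [Fintype (Subgroup.centralizer ({x} : Set G))] [Fintype (IrrCharacter (Subgroup.centralizer ({x} : Set G)))]
  [Fact p.Prime]

/-- **Major sections do not vanish.** -/
theorem PP_ne_zero (hM : IsPModular p M) {k : ℕ} (hk : orderOf x = p ^ k)
    {B : Set (IrrCharacter G)} (hB : IsPBlock M B) [Fintype B]
    {b : Set (IrrCharacter (Subgroup.centralizer ({x} : Set G)))}
    (hb : IsInducedBlock M (Subgroup.centralizer ({x} : Set G)) b B)
    (hq : blockDefect p b = blockDefect p B) {χ : IrrCharacter G} (hχ : χ ∈ B) :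
    PP p b (vt x χ) ≠ 0 := by
  classical
  intro h0
  have hp : p.Prime := Fact.out
  have hne := isPBlock_nonempty hB
  obtain ⟨m, hdef, hZ, hconj, hmul, htr, hnot, -⟩ := exists_matrix_def hM hk hB hb
  set w := Nat.card G / p ^ (Nat.card G).factorization p with hw
  have hwp : ¬ p ∣ w := Nat.not_dvd_ordCompl hp Nat.card_pos.ne'
  obtain ⟨τ₀, hτ₀, hτe⟩ := exists_minExp p hne
  set τ : B := ⟨τ₀, hτ₀⟩ with hτ
  have hτ0 : blockHeight p B ((τ : IrrCharacter G) : G → ℂ) = 0 := by
    change (charDegree (τ₀ : G → ℂ)).factorization p - minExp p B = 0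
    omega
  have hsame : ∀ (Z : Subalgebra.center ℂ (GA G)), Z ∈ localCenter M G → ∀ {a c : IrrCharacter G},
      a ∈ B → c ∈ B → MemLocalIdeal M (omegaHom a Z) → MemLocalIdeal M (omegaHom c Z) := by
    intro Z hZl a c ha hc hmem
    have hs : SameBlock M (c : G → ℂ) (a : G → ℂ) := by
      have := isPBlock_eq_blockOf hB ha
      rw [this] at hc
      exact sameBlock_symm hc
    have h2 := omegaHom_sub_mem_of_sameBlock hs hZl
    have h3 := memLocalIdeal_add h2 hmem
    simpa using h3
  obtain ⟨Z, hZl, hΩ⟩ := exists_omega (M := M) hM hk hb.1 hne hq (τ : IrrCharacter G)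
  obtain ⟨ti, hti, ei⟩ := hΩ τ τ.2
  obtain ⟨tj, htj, ej⟩ := hΩ χ hχ
  rw [hτ0, pow_zero, Nat.cast_one, div_one, ← hdef] at ei
  obtain ⟨hu1, hu2⟩ := unit_aux (M := M) hM htj hwp
  obtain ⟨hv1, hv2⟩ := unit_aux (M := M) hM hti hwp
  have hωi : ¬ MemLocalIdeal M (omegaHom (τ : IrrCharacter G) Z) := by
    intro h
    apply hnot τ τ hτ0 hτ0
    rw [ei]
    exact memLocalIdeal_mul_left hv1 h
  have hωj : ¬ MemLocalIdeal M (omegaHom χ Z) := fun h =>
    hωi (hsame Z hZl hχ τ.2 h)
  have hl := omegaHom_mem_local χ hZl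
  have h3 := notMem_mul hu1 hu2 hl hωj
  rw [← ej] at h3
  apply h3
  have h4 : mm p x b τ χ = 0 := by
    rw [mm, h0]
    have : classInner (PP p b (vt x (τ : IrrCharacter G))) (0 : Subgroup.centralizer ({x} : Set G) → ℂ) = 0 := by
      simp [classInner]
    rw [this, mul_zero]
  rw [h4, zero_div]
  exact memLocalIdeal_zero

/-- **Major sections do not vanish**, in terms of values. -/
theorem exists_section_ne (hM : IsPModular p M) {k : ℕ} (hk : orderOf x = p ^ k)
    {B : Set (IrrCharacter G)} (hB : IsPBlock M B) [Fintype B]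
    {b : Set (IrrCharacter (Subgroup.centralizer ({x} : Set G)))}
    (hb : IsInducedBlock M (Subgroup.centralizer ({x} : Set G)) b B)
    (hq : blockDefect p b = blockDefect p B) {χ : IrrCharacter G} (hχ : χ ∈ B) :
    ∃ y : Subgroup.centralizer ({x} : Set G), ¬ p ∣ orderOf y ∧ (χ : G → ℂ) (x * y) ≠ 0 := by
  classical
  by_contra hcon
  push Not at hcon
  apply PP_ne_zero hM hk hB hb hq hχ
  have h1 : PP p b (vt x χ) = PP p b 0 := PP_congr hM hb.1 fun y hy => by
    rw [vt]
    simpa using hcon y hy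
  rw [h1]
  funext y
  rw [PP_apply]
  simp [classInner]

end Cfsg.Agent.Lib.Contrib.NonVanish
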