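import Mathlib
import Cfsg.Agent.Lib.Contrib.Major

/-!
# Major subsections of `2`-blocks: the averaged diagonal of the contribution matrix
-/

set_option linter.unusedSectionVars false
set_option autoImplicit false
set_option linter.style.haveILetI false

namespace Cfsg.Agent.Lib.Contrib.TwoMajor

open Cfsg MonoidAlgebra
open Cfsg.Agent.Lib.Blocks.Local Cfsg.Agent.Lib.Blocks.Central
open Cfsg.Agent.Lib.BlockP.Defect
open Cfsg.Agent.Lib.Contrib.Cyc Cfsg.Agent.Lib.Contrib.Sec Cfsg.Agent.Lib.Contrib.Major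
open scoped ComplexConjugate

universe u

variable {G : Type u} [Group G] [Fintype G] [Fintype (IrrCharacter G)] {M : Ideal AlgInt}
  {x : G}
  [Fintype (Subgroup.centralizer ({x} : Set G))] [Fintype (IrrCharacter (Subgroup.centralizer ({x} : Set G)))]

theorem exists_height_zero {p : ℕ} {B : Set (IrrCharacter G)} (hne : B.Nonempty) :
    ∃ τ : B, blockHeight p B ((τ : IrrCharacter G) : G → ℂ) = 0 := by
  obtain ⟨τ₀, hτ₀, hτe⟩ := exists_minExp p hne
  refine ⟨⟨τ₀, hτ₀⟩, ?_⟩
  change (charDegree (τ₀ : G → ℂ)).factorization p - minExp p B = 0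
  omega

/-- The numerical data of a major subsection of a `2`-block. -/
theorem two_data (hM : IsPModular 2 M) {k : ℕ} (hk : orderOf x = 2 ^ k)
    {B : Set (IrrCharacter G)} (hB : IsPBlock M B) [Fintype B]
    {b : Set (IrrCharacter (Subgroup.centralizer ({x} : Set G)))}
    (hb : IsInducedBlock M (Subgroup.centralizer ({x} : Set G)) b B)
    (hq : blockDefect 2 b = blockDefect 2 B) :
    ∃ t : B → ℕ,
      (∀ i : B, blockHeight 2 B ((i : IrrCharacter G) : G → ℂ) = 0 → Odd (t i)) ∧
      (∀ i : B, 1 ≤ blockHeight 2 B ((i : IrrCharacter G) : G → ℂ) →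
        2 ^ (blockHeight 2 B ((i : IrrCharacter G) : G → ℂ) + 1) ∣ t i ∧ 0 < t i) ∧
      (∑ i, t i = 2 ^ blockDefect 2 b * blockRank 2 b) ∧
      (∀ i, t i ≤ 2 ^ blockDefect 2 b) ∧
      (∀ i : B, blockHeight 2 B ((i : IrrCharacter G) : G → ℂ) = 0 →
        ∑ j : B, 4 ^ blockHeight 2 B ((j : IrrCharacter G) : G → ℂ) ≤ 2 ^ blockDefect 2 b * t i) ∧
      (∀ i : B, blockHeight 2 B ((i : IrrCharacter G) : G → ℂ) = 0 →
        t i + 1 = 2 ^ blockDefect 2 b → Fintype.card B ≤ 2 ^ blockDefect 2 b) ∧
      (∀ i : B, 1 ≤ blockHeight 2 B ((i : IrrCharacter G) : G → ℂ) → t i < 2 ^ blockDefect 2 b) := by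
  classical
  haveI hMp := isPrime_of_pModular hM
  have hne := isPBlock_nonempty hB
  obtain ⟨m, hZ, hconj, hmul, htr, hY1, hY2⟩ := exists_matrix_major hM hk hB hb hq
  set P := 2 ^ blockDefect 2 b with hP
  have hP0 : 0 < P := by positivity
  have hPR : (0 : ℝ) < P := by exact_mod_cast hP0
  have hr : 2 ^ k ≠ 0 := pow_ne_zero _ two_ne_zero
  set h : B → ℕ := fun i => blockHeight 2 B ((i : IrrCharacter G) : G → ℂ) with hh
  obtain ⟨τ, hτ⟩ := exists_height_zero (p := 2) hne
  have hne0 : ∀ i j : B, h i = 0 → m i j ≠ 0 := by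
    intro i j hi h0
    apply (hY1 i j hi).2
    rw [h0, zero_div]
    exact memLocalIdeal_zero
  have hne1 : ∀ i j : B, h j = 0 → m i j ≠ 0 := by
    intro i j hj h0
    apply hne0 j i hj
    rw [hconj i j, h0, map_zero]
  set R : B → ℝ := fun i => ∑ j, nrm (2 ^ k) (m i j) with hR
  have hRc : ∀ i, ((R i : ℝ) : ℂ) = (P : ℂ) * avg (2 ^ k) (m i i) := fun i =>
    sum_nrm_row hZ hconj i (hmul i)
  have hRnn : ∀ i, 0 ≤ R i := fun i => Finset.sum_nonneg fun j _ => nrm_nonneg _ _
  have hRsum : ∑ i, R i = ((P * (P * blockRank 2 b) : ℕ) : ℝ) := sum_sum_nrm hZ hconj hmul htr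
  have hRpos : ∀ i, 0 < R i := by
    intro i
    have h1 : nrm (2 ^ k) (m i τ) ≤ R i := Finset.single_le_sum (f := fun j => nrm (2 ^ k) (m i j))
      (fun j _ => nrm_nonneg _ _) (Finset.mem_univ τ)
    have h2 := one_le_nrm (hZ i τ) (hne1 i τ hτ)
    linarith
  -- the integers
  have hex : ∀ i : B, ∃ t : ℕ, avg (2 ^ k) (m i i) = t ∧ R i = (P : ℝ) * t ∧
      (h i = 0 → Odd t) ∧ (1 ≤ h i → 2 ^ (h i + 1) ∣ t) ∧ 0 < t := by
    intro i
    have hreal : conj (m i i) = m i i := (hconj i i).symm
    obtain ⟨t, ht, ht2⟩ := avg_real hM (hZ i i) hreal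
    have hRt : R i = (P : ℝ) * t := by
      apply Complex.ofReal_injective
      rw [hRc, ht]
      push_cast
      rfl
    have htpos : 0 < t := by
      have h1 : (0 : ℝ) < (P : ℝ) * t := hRt ▸ hRpos i
      have h3 : (0 : ℝ) < t := (pos_iff_pos_of_mul_pos h1).mp hPR
      exact_mod_cast h3
    have hcast : ((t.toNat : ℕ) : ℤ) = t := Int.toNat_of_nonneg htpos.le
    have hcastC : ((t.toNat : ℕ) : ℂ) = (t : ℂ) := by
      exact_mod_cast congrArg (fun z : ℤ => (z : ℂ)) hcast
    have hcastR : ((t.toNat : ℕ) : ℝ) = (t : ℝ) := by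
      exact_mod_cast congrArg (fun z : ℤ => (z : ℝ)) hcast
    refine ⟨t.toNat, by rw [ht, hcastC], by rw [hRt, hcastR], ?_, ?_, by omega⟩
    · intro hi
      rw [← Nat.not_even_iff_odd]
      intro heven
      have h5 : (2 : ℤ) ∣ t := by
        rw [← hcast]
        exact_mod_cast heven.two_dvd
      have h6 : MemLocalIdeal M (t : ℂ) := by
        have := (intCast_memLocalIdeal_iff hM t).mpr (by exact_mod_cast h5)
        exact this
      apply (hY1 i i hi).2
      change MemLocalIdeal M (m i i / ((2 ^ h i : ℕ) : ℂ))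
      rw [hi, pow_zero, Nat.cast_one, div_one]
      have h7 := memLocalIdeal_add ht2 h6
      simpa using h7
    · intro hi
      -- division by the height
      set w := m i i / ((2 ^ h i : ℕ) : ℂ) with hw
      have hpc : ((2 ^ h i : ℕ) : ℂ) ≠ 0 := Nat.cast_ne_zero.mpr (pow_ne_zero _ two_ne_zero)
      have hwM : MemLocalIdeal M w := hY2 i hi
      have hwZ : w ∈ Zr (2 ^ k) := div_pow_mem_Zr hM (hZ i i) (h i) (memLocalRing_of_memLocalIdeal hwM)
      have hwreal : conj w = w := by
        rw [hw, map_div₀, hreal, Complex.conj_natCast]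
      obtain ⟨t', ht', ht2'⟩ := avg_real hM hwZ hwreal
      have h8 : MemLocalIdeal M (t' : ℂ) := by
        have h9 := memLocalIdeal_sub hwM ht2'
        simpa using h9
      have h10 : ((2 : ℕ) : ℤ) ∣ t' := (intCast_memLocalIdeal_iff hM t').mp h8
      have h11 : m i i = ((2 ^ h i : ℕ) : ℂ) * w := by
        rw [hw]
        field_simp
      have h12 : (t : ℂ) = ((2 ^ h i : ℕ) : ℂ) * t' := by
        rw [← ht, h11, avg_natCast_mul _ (mem_Kn_of_mem_Zr hr hwZ), ht']
      have h13 : t = (2 ^ h i : ℕ) * t' := by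
        exact_mod_cast h12
      have h14 : ((2 ^ (h i + 1) : ℕ) : ℤ) ∣ t := by
        rw [h13, pow_succ]
        push_cast
        obtain ⟨c, hc⟩ := h10
        refine ⟨c, ?_⟩
        rw [hc]
        push_cast
        ring
      rw [← hcast] at h14
      exact_mod_cast h14
  choose t ht1 ht2 ht3 ht4 ht5 using hex
  -- the trace
  have hsum : ∑ i, t i = P * blockRank 2 b := by
    have h1 : ∑ i, R i = (P : ℝ) * ∑ i, (t i : ℝ) := by
      rw [Finset.mul_sum]
      exact Finset.sum_congr rfl fun i _ => ht2 i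
    rw [hRsum] at h1
    have h2 : ((P * (P * blockRank 2 b) : ℕ) : ℝ) = ((P * ∑ i, t i : ℕ) : ℝ) := by
      rw [h1]
      push_cast
      rfl
    have h3 : P * (P * blockRank 2 b) = P * ∑ i, t i := by exact_mod_cast h2
    exact (Nat.eq_of_mul_eq_mul_left hP0 h3).symm
  -- the complementary matrix
  set m' : B → B → ℂ := fun i j => (if i = j then (P : ℂ) else 0) - m i j with hm'
  have hZ' : ∀ i j, m' i j ∈ Zr (2 ^ k) := by
    intro i j
    refine sub_mem ?_ (hZ i j)
    split_ifs
    · exact natCast_mem_Zr P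
    · exact zero_mem _
  have hconj' : ∀ i j, m' j i = conj (m' i j) := by
    intro i j
    simp only [hm', map_sub]
    rw [hconj i j]
    congr 1
    by_cases hij : i = j
    · subst hij
      simp
    · rw [if_neg hij, if_neg (Ne.symm hij), map_zero]
  have hmul' : ∀ i, ∑ j, m' i j * m' j i = (P : ℂ) * m' i i := by
    intro i
    have h1 : ∀ j, m' i j * m' j i =
        (if i = j then (P : ℂ) * P - 2 * P * m i i else 0) + m i j * m j i := by
      intro j
      simp only [hm']
      by_cases hij : i = j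
      · subst hij
        simp only [if_true]
        ring
      · rw [if_neg hij, if_neg (Ne.symm hij), if_neg hij]
        ring
    simp only [h1]
    rw [Finset.sum_add_distrib, Finset.sum_ite_eq, if_pos (Finset.mem_univ i), hmul i]
    simp only [hm', if_true]
    ring
  set R' : B → ℝ := fun i => ∑ j, nrm (2 ^ k) (m' i j) with hR'
  have hR'nn : ∀ i, 0 ≤ R' i := fun i => Finset.sum_nonneg fun j _ => nrm_nonneg _ _
  have havg' : ∀ i, avg (2 ^ k) (m' i i) = (P : ℂ) - t i := by
    intro i
    have e : m' i i = (P : ℂ) + -(m i i) := by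
      simp only [hm', if_true]
      ring
    rw [e, avg_add (natCast_mem _ P) (mem_Kn_of_mem_Zr hr (neg_mem (hZ i i))), avg_natCast,
      avg_neg (hZ i i), ht1]
    ring
  have hR'c : ∀ i, R' i = (P : ℝ) * ((P : ℝ) - t i) := by
    intro i
    apply Complex.ofReal_injective
    have := sum_nrm_row hZ' hconj' i (hmul' i)
    rw [havg'] at this
    change ((R' i : ℝ) : ℂ) = _ at this
    rw [this]
    push_cast
    rfl
  have hle : ∀ i, t i ≤ P := by
    intro i
    have h1 := hR'nn i
    rw [hR'c] at h1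
    have h2 : (0 : ℝ) ≤ (P : ℝ) - t i := nonneg_of_mul_nonneg_right h1 hPR
    have h3 : (t i : ℝ) ≤ P := by linarith
    exact_mod_cast h3
  refine ⟨t, ht3, fun i hi => ⟨ht4 i hi, ht5 i⟩, hsum, hle, ?_, ?_, ?_⟩
  · -- the row
    intro i hi
    have h1 : (((∑ j : B, 4 ^ h j : ℕ) : ℝ)) ≤ R i := by
      push_cast
      refine Finset.sum_le_sum fun j _ => ?_
      have h2 := pow_sq_le_nrm hM (hZ i j) (h j) (hY1 i j hi).1 (hne0 i j hi)
      have h3 : ((2 ^ h j : ℕ) : ℝ) ^ 2 = (4 : ℝ) ^ h j := by
        push_cast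
        rw [← pow_mul, mul_comm, pow_mul]
        norm_num
      rw [h3] at h2
      exact h2
    rw [ht2 i] at h1
    exact_mod_cast h1
  · -- the complementary row
    intro i hi hti
    have h1 : R' i = P := by
      rw [hR'c]
      have h2 : ((t i : ℝ) + 1) = P := by exact_mod_cast hti
      have h3 : (P : ℝ) - t i = 1 := by linarith
      rw [h3, mul_one]
    have h2 : ∀ j, 1 ≤ nrm (2 ^ k) (m' i j) := by
      intro j
      refine one_le_nrm (hZ' i j) ?_
      by_cases hij : i = j
      · subst hij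
        intro h0
        have h3 := havg' i
        rw [h0] at h3
        have h4 : avg (2 ^ k) 0 = 0 := by
          have := avg_natCast (r := 2 ^ k) 0
          simpa using this
        rw [h4] at h3
        have h5 : ((t i : ℂ) + 1) = P := by exact_mod_cast hti
        have h6 : (P : ℂ) - t i = 1 := by
          rw [← h5]
          ring
        rw [h6] at h3
        exact zero_ne_one h3
      · simp only [hm', if_neg hij, zero_sub, neg_ne_zero]
        exact hne0 i j hi
    have h3 : ∑ _j : B, (1 : ℝ) ≤ R' i := Finset.sum_le_sum fun j _ => h2 j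
    simp only [Finset.sum_const, Finset.card_univ, nsmul_eq_mul, mul_one] at h3
    rw [h1] at h3
    exact_mod_cast h3
  · -- positive height: not the maximal value
    intro i hi
    refine lt_of_le_of_ne (hle i) fun heq => ?_
    have hiτ : i ≠ τ := by
      rintro rfl
      change h i = 0 at hτ
      change 1 ≤ h i at hi
      omega
    have h1 : R' i = 0 := by
      rw [hR'c, heq]
      simp
    have h2 : nrm (2 ^ k) (m' i τ) ≤ R' i := Finset.single_le_sum (f := fun j => nrm (2 ^ k) (m' i j))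
      (fun j _ => nrm_nonneg _ _) (Finset.mem_univ τ)
    have h3 : 1 ≤ nrm (2 ^ k) (m' i τ) := by
      refine one_le_nrm (hZ' i τ) ?_
      simp only [hm', if_neg hiτ, zero_sub, neg_ne_zero]
      exact hne1 i τ hτ
    linarith

/-- The `finsum` over a subset of a block. -/
theorem finsum_block_eq {B : Set (IrrCharacter G)} [Fintype B] [DecidablePred (· ∈ B)] (Q : IrrCharacter G → Prop)
    [DecidablePred Q] (f : IrrCharacter G → ℕ) :
    ∑ᶠ χ ∈ {χ : IrrCharacter G | χ ∈ B ∧ Q χ}, f χ =
      ∑ i : B, if Q (i : IrrCharacter G) then f (i : IrrCharacter G) else 0 := by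
  classical
  have h1 : ({χ : IrrCharacter G | χ ∈ B ∧ Q χ} : Set (IrrCharacter G)) =
      ((Finset.univ.filter fun χ : IrrCharacter G => χ ∈ B ∧ Q χ : Finset (IrrCharacter G)) : Set (IrrCharacter G)) := by
    ext χ
    simp
  rw [h1, finsum_mem_coe_finset, ← Finset.filter_filter, Finset.sum_filter]
  exact Finset.sum_subtype _ (fun χ => by simp) _

/-- The number of members of a block with a given property. -/
theorem card_block_eq {B : Set (IrrCharacter G)} [Fintype B] [DecidablePred (· ∈ B)] (Q : IrrCharacter G → Prop)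
    [DecidablePred Q] :
    Nat.card {χ : IrrCharacter G // χ ∈ B ∧ Q χ} =
      ∑ i : B, if Q (i : IrrCharacter G) then 1 else 0 := by
  classical
  rw [← finsum_block_eq Q (fun _ => 1)]
  rw [Nat.card_eq_fintype_card, Fintype.card_subtype]
  have h1 : ({χ : IrrCharacter G | χ ∈ B ∧ Q χ} : Set (IrrCharacter G)) =
      ((Finset.univ.filter fun χ : IrrCharacter G => χ ∈ B ∧ Q χ : Finset (IrrCharacter G)) : Set (IrrCharacter G)) := by
    ext χ
    simp
  rw [h1, finsum_mem_coe_finset]
  simp

/-- The same defect for the defect group in the centralizer. -/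
theorem blockDefect_eq_of_defectGroup {p : ℕ} [Fact p.Prime] (hM : IsPModular p M) {B : Set (IrrCharacter G)}
    (hB : IsPBlock M B) {D : Subgroup G} (hD : IsDefectGroup p M B D) {z : G} (hzc : ∀ d ∈ D, d * z = z * d)
    {b : Set (IrrCharacter (Subgroup.centralizer ({z} : Set G)))} (hb : IsPBlock M b)
    (hbD : IsDefectGroup p M b (D.subgroupOf (Subgroup.centralizer ({z} : Set G)))) :
    blockDefect p b = blockDefect p B := by
  have hp : p.Prime := Fact.out
  have h1 := Cfsg.Agent.Lib.Blocks.Inducing.card_eq_pow_blockDefect hM hB hD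
  have h2 := Cfsg.Agent.Lib.Blocks.Inducing.card_eq_pow_blockDefect hM hb hbD
  have hle : D ≤ Subgroup.centralizer ({z} : Set G) := fun d hd =>
    Subgroup.mem_centralizer_singleton_iff.mpr (hzc d hd)
  have h3 : Nat.card (D.subgroupOf (Subgroup.centralizer ({z} : Set G))) = Nat.card D :=
    Nat.card_congr (Subgroup.subgroupOfEquivOfLe hle).toEquiv
  rw [h3, h1] at h2
  exact (Nat.pow_right_injective hp.two_le h2).symm

end Cfsg.Agent.Lib.Contrib.TwoMajor
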